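import Cfsg.Agent.H569.DG.GenJOne_m3
import Cfsg.Agent.H440.TwoGen.Spor_m3
import Cfsg.Agent.H603.SporElim
import Cfsg.Agent.H136.Gen2.Th
import Cfsg.Agent.H135.TwoGenTab
import Cfsg.Agent.ChevalleyStructure.NPerm
import Mathlib
import Cfsg.Agent.Th.Bit3W
import Cfsg.Agent.KFacts.TwF4.SylU
import Cfsg.Agent.KFacts.TwF4.Rot
import Cfsg.Agent.H136.TwFour
import Cfsg.Agent.S2407
import Cfsg.Agent.H136.TwE6
import Cfsg.Agent.H245.DG.GTwo
import Cfsg.Agent.H487.Gen.SporRows_mg_m3
import Cfsg.Agent.Mrg.Omega.TitsIso.Model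
import Cfsg.Agent.H994.TwoGen.Words
import Cfsg.Agent.J2.HundredGens
import Cfsg.Agent.S1619
import Cfsg.Agent.H440.TwoGen.Cox
import Cfsg.Prelude.Def_Classical
import Cfsg.Agent.Schreier.ChevIso_m3
import Cfsg.Agent.H291.DG.InvGen
import Cfsg.Agent.McLType.Model
import Cfsg.Agent.SporadicRecognition.SuzOrder
import Cfsg.Agent.H291.DG.HS
import Cfsg.Agent.Lib.PermNetFast
import Cfsg.Agent.McLType.BaseFast
import Cfsg.Agent.H55.OutGen
import Cfsg.Agent.H679.OutTwo
import Cfsg.Agent.H97.DG.SpClo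
import Cfsg.Agent.H136.TwoGen
import Cfsg.Agent.H136.FieldLem
import Cfsg.Agent.ClassicalGeometry.SympAutOddA
import Cfsg.Agent.ClassicalGeometry.SympAutExists
import Cfsg.Agent.S2411
import Cfsg.Agent.H179.OutMinus
import Cfsg.Agent.H137.OrthWeyl
import Cfsg.Agent.H69.OutTwD4
import Cfsg.Agent.Omega.TitsIso.TitsSide
import Cfsg.Agent.H490.Der_m3
import Cfsg.Agent.S2128
import Cfsg.Agent.LieRecognition.FieldSemilinear
import Cfsg.Agent.EvenType.ChevTwoTits
import Cfsg.Agent.H997.OutHe2
import Cfsg.Agent.S2075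
import Cfsg.Agent.UGT.C.BalON
import Cfsg.Agent.H440.TwoGen.ONan
import Cfsg.Agent.H648.DG.Psl2Inv
import Cfsg.Agent.H868.ExtAlt
import Cfsg.Agent.H440.TwoGen.Psl
import Cfsg.Agent.H137.SpTransfer
import Cfsg.Agent.H753.CycSz_mg
import Cfsg.Agent.S2251
import Cfsg.Agent.S0333
import Cfsg.Agent.S0325
import Cfsg.Agent.H947.Cyc.Ree_m3
import Cfsg.Agent.SignalizersComponents.CoprimeBasic
import Cfsg.Agent.S1156
import Cfsg.Agent.H136.Gen2.Co1
import Cfsg.Agent.S0399
import Cfsg.Agent.Co2Type.Co2Gen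
import Cfsg.Agent.H136.Gen2.Cox
import Cfsg.Agent.H291.DG.Co3
import Cfsg.Agent.H440.TwoGen.Rud
import Cfsg.Agent.S1695
import Cfsg.Agent.S1696
import Cfsg.Agent.S1697
import Cfsg.Agent.S1698
import Cfsg.Agent.Nodes.RGDTwAll
import Cfsg.Agent.H994.TwoGen.M11
import Cfsg.Agent.H994.TwoGen.M12
import Cfsg.Agent.H994.TwoGen.M22
import Cfsg.Agent.H994.TwoGen.M23_m3
import Cfsg.Agent.J4.M24Hom
import Cfsg.Agent.FastGrp
import Cfsg.Agent.Prune
set_option linter.all false

section
prune_inst 0x7fb0ecf82bb825dedfff7e7ff6d0cffc39911fffe6def943ffe061ff0bdf030009c12b8509e010fc0ed6601410b87803f97ece7fe26bd87ffffd1ff41ffbee0fe5f6b508511488340f380ff703f0778e7f3fffffffffffffffffffffffffffbeffbfffffffff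

-- part: H109/DG/Th_mg
section
prune_inst 0x4d12031440d00120000000082d1001c06a6000090104880000800024007808e624d02a860802031001828000400350048110800900240000004000400011800800080000ea148000000008e000080000000000000000000000000000000000004000000000
set_option linter.all false
open scoped Cfsg.Agent.FastGrp

-- part: H109/DG/HN
section
/-!
# `Coh HN` (helper109, task 3341, S4180)

`HN = ⟨x z, y t⟩` and `x z` is an involution.
-/

set_option autoImplicit false

namespace Cfsg.Agent.H109.DG

open Cfsg Cfsg.Agent.H440.TwoGen Cfsg.Agent.H891.Gen Cfsg.Agent.H891.DG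

universe u

/-- an involution and a second element generating `HN` -/
theorem gen_hn : ∃ c b : Spor.HN, c ^ 2 = 1 ∧ Subgroup.closure ({c, b} : Set Spor.HN) = ⊤ := by
  have k1 := HNHe.extra_rel (edges := Spor.HN.edges) (extra := Spor.HN.extra) (r := Spor.HN.y ^ 6) (by simp only [Spor.HN.extra, _root_.mul_inv_rev, _root_.inv_inv, _root_.List.mem_cons, _root_.List.not_mem_nil, _root_.or_false, _root_.true_or])
  have k2 := HNHe.extra_rel (edges := Spor.HN.edges) (extra := Spor.HN.extra) (r := Spor.HN.t ^ 5) (by simp only [Spor.HN.extra, _root_.mul_inv_rev, _root_.inv_inv, _root_.List.mem_cons, _root_.List.not_mem_nil, _root_.or_false, _root_.true_or, _root_.or_true])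
  have k3 := HNHe.extra_rel (edges := Spor.HN.edges) (extra := Spor.HN.extra)
    (r := Spor.HN.t⁻¹ * Spor.HN.y⁻¹ * Spor.HN.t * Spor.HN.y) (by simp only [Spor.HN.extra, _root_.mul_inv_rev, _root_.inv_inv, _root_.List.mem_cons, _root_.List.not_mem_nil, _root_.or_false, _root_.true_or, _root_.or_true])
  have k4 := HNHe.extra_rel (edges := Spor.HN.edges) (extra := Spor.HN.extra) (r := Spor.HN.z ^ 2) (by simp only [Spor.HN.extra, _root_.mul_inv_rev, _root_.inv_inv, _root_.List.mem_cons, _root_.List.not_mem_nil, _root_.or_false, _root_.true_or, _root_.or_true])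
  have k5 := HNHe.extra_rel (edges := Spor.HN.edges) (extra := Spor.HN.extra)
    (r := (Spor.HN.x⁻¹ * Spor.HN.t * Spor.HN.x) * (Spor.HN.t ^ 2)) (by simp only [Spor.HN.extra, _root_.mul_inv_rev, _root_.inv_inv, _root_.List.mem_cons, _root_.List.not_mem_nil, _root_.or_false, _root_.true_or, _root_.or_true])
  have k6 := HNHe.extra_rel (edges := Spor.HN.edges) (extra := Spor.HN.extra) (r := (Spor.HN.z * Spor.HN.t) ^ 3)
    (by simp only [Spor.HN.extra, _root_.mul_inv_rev, _root_.inv_inv, _root_.List.mem_cons, _root_.List.not_mem_nil, _root_.or_false, _root_.or_true])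
  have k7 := HNHe.extra_rel (edges := Spor.HN.edges) (extra := Spor.HN.extra) (r := (Spor.HN.z * Spor.HN.x) ^ 2)
    (by simp only [Spor.HN.extra, _root_.mul_inv_rev, _root_.inv_inv, _root_.List.mem_cons, _root_.List.not_mem_nil, _root_.or_false, _root_.true_or, _root_.or_true])
  simp only [map_mul, map_pow, map_inv] at k1 k2 k3 k4 k5 k6 k7
  refine ⟨HNHe.h .x * HNHe.h .z, HNHe.h .y * HNHe.h .t, ?_, Cox.eq_top_of_forall _ fun w => ?_⟩
  · have h1 : HNHe.h .x * HNHe.h .z = (HNHe.h .z)⁻¹ * (HNHe.h .z * HNHe.h .x) * ((HNHe.h .z)⁻¹)⁻¹ := by group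
    rw [h1, conj_pow]
    have h2 : (HNHe.h .z * HNHe.h .x) ^ 2 = 1 := k7
    rw [h2, mul_one, mul_inv_cancel]
  · obtain ⟨h1, h2, h3, h4⟩ := HNHe.hn_abs (x := HNHe.h .x) (y := HNHe.h .y) (z := HNHe.h .z) (t := HNHe.h .t)
      k1 k2 k3 k4 k5 k6 (Subgroup.closure {HNHe.h .x * HNHe.h .z, HNHe.h .y * HNHe.h .t})
      (Subgroup.subset_closure (Set.mem_insert_of_mem _ (Set.mem_singleton _)))
      (Subgroup.subset_closure (Set.mem_insert _ _))
    cases w
    · exact h1
    · exact h2
    · exact h3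
    · exact h4

/-- the common end: a generating pair with an involution -/
theorem coh_of_gen {T : Type u} [Group T] [Finite T] [IsSimpleGroup T] (hna : ¬ IsMulCommutative T) {K : Type*} [Group K]
    (e : T ≃* K) (h : ∃ c b : K, c ^ 2 = 1 ∧ Subgroup.closure ({c, b} : Set K) = ⊤) : Coh T := by
  obtain ⟨c, b, hc, hcb⟩ := h
  have h1 : Subgroup.closure ({e.symm c, e.symm b} : Set T) = ⊤ := by
    have h2 : ({e.symm c, e.symm b} : Set T) = e.symm.toMonoidHom '' {c, b} := by
      rw [Set.image_pair]; rfl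
    rw [h2, ← MonoidHom.map_closure, hcb, ← MonoidHom.range_eq_map]
    exact MonoidHom.range_eq_top.2 e.symm.surjective
  refine Tools.coh_of_involution hna (c := e.symm c) (b := e.symm b) (by rw [← map_pow, hc, map_one]) ?_ h1
  intro h2
  -- otherwise `T` is cyclic
  apply hna
  rw [h2, Set.insert_eq, Subgroup.closure_union, Subgroup.closure_singleton_one, bot_sup_eq,
    ← Subgroup.zpowers_eq_closure] at h1
  have : IsCyclic T := ⟨e.symm b, fun x => by
    have h3 : x ∈ Subgroup.zpowers (e.symm b) := by rw [h1]; trivial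
    exact h3⟩
  exact IsCyclic.isMulCommutative

/-- a simple group of composite order is not abelian -/
theorem na_of_card {T : Type u} [Group T] [Finite T] [IsSimpleGroup T] {n : ℕ} (h : Nat.card T = n) (hn : ¬ n.Prime) :
    ¬ IsMulCommutative T := by
  intro hc
  let _ : CommGroup T := { (inferInstance : Group T) with mul_comm := hc.is_comm.comm }
  exact hn (h ▸ IsSimpleGroup.prime_card)

/-- **`Coh HN`** -/
theorem coh_hn {T : Type u} [Group T] [Finite T] [IsSimpleGroup T] (h : Cfsg.Spor.IsoHN T) : Coh T :=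
  coh_of_gen (na_of_card (NotCT.Orders.hn h) (by norm_num)) h.some gen_hn

end Cfsg.Agent.H109.DG
end

-- part: H109/DG/Th
section
/-!
# `Coh Th` (helper109, task 3341, S4180)

`Th = ⟨d s, t z⟩` with `z = b u d u` of order 13 in `C(t)`; `d s` is an involution.
-/

set_option autoImplicit false
set_option Elab.async false

namespace Cfsg.Agent.H109.DG

open Cfsg Cfsg.Agent.H891.Gen Cfsg.Agent.H891.DG Cfsg.Agent.H136.Gen2 Cfsg.Agent.H136.Gen2.Th
  Cfsg.Agent.Th.Hom248 Cfsg.Agent.Th.Gen248

universe u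

namespace ThW

/-- `z = b u d u` -/
def z : Wd := pr [.g .b, .g .u, .g .d, .g .u]
/-- powers of `z` -/
def z2 : Wd := .pow z 2
/-- powers of `z` -/
def z3 : Wd := .pow z 3
/-- powers of `z` -/
def z4 : Wd := .pow z 4
/-- powers of `z` -/
def z5 : Wd := .pow z 5
/-- powers of `z` -/
def z6 : Wd := .pow z 6
/-- powers of `z` -/
def z7 : Wd := .pow z 7
/-- powers of `z` -/
def z8 : Wd := .pow z 8
/-- powers of `z` -/
def z9 : Wd := .pow z 9
/-- powers of `z` -/
def z10 : Wd := .pow z 10
/-- powers of `z` -/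
def z11 : Wd := .pow z 11
/-- powers of `z` -/
def z12 : Wd := .pow z 12

set_option maxRecDepth 100000
set_option maxHeartbeats 1000000

private noncomputable def _root_.Cfsg.Agent.KO5f7e57d.k0 : type_of% @Bool.and := @(fun x0 x1 => @Bool.rec.{1} @(fun x2 => @Bool) @Bool.false @x1 @x0)
private theorem _root_.Cfsg.Agent.KO5f7e57d.e0 : @Bool.and = @_root_.Cfsg.Agent.KO5f7e57d.k0 := by delta _root_.Cfsg.Agent.KO5f7e57d.k0; rfl'

theorem c_tz : q (.mul (.g .t) z) = q (.mul z (.g .t)) := q_eq (by exact Cfsg.Agent.Th.Bit3.yes (by (first | (rewrite [Cfsg.Agent.KO5f7e57d.e0]; decide +kernel) | decide +kernel)))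
theorem o_z : q (.pow z 13) = q .one := q_eq (by exact Cfsg.Agent.Th.Bit3.yes (by (first | (rewrite [Cfsg.Agent.KO5f7e57d.e0]; decide +kernel) | decide +kernel)))
theorem o_ds : q (.pow (.mul (.g .d) (.g .s)) 2) = q .one := q_eq (by exact Cfsg.Agent.Th.Bit3.yes (by decide +kernel))
theorem c_ds : q (pr [.inv (.mul (.g .d) (.g .s)), .g .T, .mul (.g .d) (.g .s), .g .t]) = q (.g .s) :=
  q_eq (by exact Cfsg.Agent.Th.Bit3.yes (by (first | (rewrite [Cfsg.Agent.KO5f7e57d.e0]; decide +kernel) | decide +kernel)))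
theorem w_a : q (.g .a) = q (pr [.g .d, z9, .g .d, z5, .g .d, z10, .g .d, z3, .g .d, z8, .g .d, z4]) :=
  q_eq (by exact Cfsg.Agent.Th.Bit3.yes (by (first | (rewrite [Cfsg.Agent.KO5f7e57d.e0]; decide +kernel) | decide +kernel)))
theorem w_b : q (.g .b) = q (pr [.g .d, z7, .g .d, z3, .g .d, z11, .g .d, z2, .g .d, z10, .g .d, z6]) :=
  q_eq (by exact Cfsg.Agent.Th.Bit3.yes (by (first | (rewrite [Cfsg.Agent.KO5f7e57d.e0]; decide +kernel) | decide +kernel)))
theorem w_c : q (.g .c) = q (pr [.g .d, z, .g .d, z7, .g .d, z6, .g .d, z12, .g .d]) := q_eq (by exact Cfsg.Agent.Th.Bit3.yes (by decide +kernel))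
theorem w_e : q (.g .e) = q (pr [.g .d, z2, .g .d, z10, .g .d, z5, .g .d, z6, .g .d, z3, .g .d, z9]) :=
  q_eq (by exact Cfsg.Agent.Th.Bit3.yes (by decide +kernel))
theorem w_x : q x = q (pr [.g .d, z2, .g .d, z6, .g .d, z2, .g .d, z11, .g .d, z3, .g .d, z]) := q_eq (by exact Cfsg.Agent.Th.Bit3.yes (by (first | (rewrite [Cfsg.Agent.KO5f7e57d.e0]; decide +kernel) | decide +kernel)))

end ThW

open ThW in
/-- an involution and a second element generating `Th` -/
theorem gen_th : ∃ c b : Spor.Th, c ^ 2 = 1 ∧ Subgroup.closure ({c, b} : Set Spor.Th) = ⊤ := by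
  refine ⟨q (.mul (.g .d) (.g .s)), q (.mul (.g .t) z), ?_, ?_⟩
  · have h := o_ds
    rwa [q_pow, q_one] at h
  set H : Subgroup Cfsg.Spor.Th := Subgroup.closure {q (.mul (.g .d) (.g .s)), q (.mul (.g .t) z)} with hH
  have h1 : q (.mul (.g .d) (.g .s)) ∈ H := Subgroup.subset_closure (by simp)
  have h2 : q (.g .t) * q z ∈ H := by rw [← q_mul]; exact Subgroup.subset_closure (by simp)
  have e1 := c_tz; have e3 := Th.o_t; have e5 := o_z
  rw [q_mul, q_mul] at e1
  rw [q_pow, q_one] at e3 e5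
  obtain ⟨ht, hz⟩ := split_mem e1 e3 e5 (by decide) h2
  have hT : q (.g .T) ∈ H := by
    have : q (.g .T) = (q (.g .t))⁻¹ := map_inv _ _
    rw [this]; exact inv_mem ht
  have hs : q (.g .s) ∈ H := by
    rw [← c_ds]; apply q_pr_mem; intro w hw; simp only [List.mem_cons, List.not_mem_nil, or_false] at hw
    rcases hw with rfl | rfl | rfl | rfl
    · rw [q_inv]; exact inv_mem h1
    all_goals assumption
  have hd : q (.g .d) ∈ H := by
    rw [q_mul] at h1
    exact (Subgroup.mul_mem_cancel_right H hs).1 h1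
  have hS : q (.g .S) ∈ H := by
    have : q (.g .S) = (q (.g .s))⁻¹ := map_inv _ _
    rw [this]; exact inv_mem hs
  have hz2 : q z2 ∈ H := by unfold z2; rw [q_pow]; exact pow_mem hz _
  have hz3 : q z3 ∈ H := by unfold z3; rw [q_pow]; exact pow_mem hz _
  have hz4 : q z4 ∈ H := by unfold z4; rw [q_pow]; exact pow_mem hz _
  have hz5 : q z5 ∈ H := by unfold z5; rw [q_pow]; exact pow_mem hz _
  have hz6 : q z6 ∈ H := by unfold z6; rw [q_pow]; exact pow_mem hz _
  have hz7 : q z7 ∈ H := by unfold z7; rw [q_pow]; exact pow_mem hz _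
  have hz8 : q z8 ∈ H := by unfold z8; rw [q_pow]; exact pow_mem hz _
  have hz9 : q z9 ∈ H := by unfold z9; rw [q_pow]; exact pow_mem hz _
  have hz10 : q z10 ∈ H := by unfold z10; rw [q_pow]; exact pow_mem hz _
  have hz11 : q z11 ∈ H := by unfold z11; rw [q_pow]; exact pow_mem hz _
  have hz12 : q z12 ∈ H := by unfold z12; rw [q_pow]; exact pow_mem hz _
  have ha : q (.g .a) ∈ H := by
    rw [ThW.w_a]; apply q_pr_mem; intro w hw; simp only [List.mem_cons, List.not_mem_nil, or_false] at hw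
    rcases hw with rfl | rfl | rfl | rfl | rfl | rfl | rfl | rfl | rfl | rfl | rfl | rfl <;> assumption
  have hb : q (.g .b) ∈ H := by
    rw [ThW.w_b]; apply q_pr_mem; intro w hw; simp only [List.mem_cons, List.not_mem_nil, or_false] at hw
    rcases hw with rfl | rfl | rfl | rfl | rfl | rfl | rfl | rfl | rfl | rfl | rfl | rfl <;> assumption
  have hc : q (.g .c) ∈ H := by
    rw [ThW.w_c]; apply q_pr_mem; intro w hw; simp only [List.mem_cons, List.not_mem_nil, or_false] at hw
    rcases hw with rfl | rfl | rfl | rfl | rfl | rfl | rfl | rfl | rfl <;> assumption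
  have he : q (.g .e) ∈ H := by
    rw [ThW.w_e]; apply q_pr_mem; intro w hw; simp only [List.mem_cons, List.not_mem_nil, or_false] at hw
    rcases hw with rfl | rfl | rfl | rfl | rfl | rfl | rfl | rfl | rfl | rfl | rfl | rfl <;> assumption
  have hx : q x ∈ H := by
    rw [w_x]; apply q_pr_mem; intro w hw; simp only [List.mem_cons, List.not_mem_nil, or_false] at hw
    rcases hw with rfl | rfl | rfl | rfl | rfl | rfl | rfl | rfl | rfl | rfl | rfl | rfl <;> assumption
  have hX : q X ∈ H := by unfold X; rw [q_inv]; exact inv_mem hx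
  have hu : q (.g .u) ∈ H := by
    rw [Th.w_u]; apply q_pr_mem; intro w hw; simp only [List.mem_cons, List.not_mem_nil, or_false] at hw
    rcases hw with rfl | rfl | rfl | rfl | rfl | rfl | rfl | rfl | rfl <;> assumption
  rw [eq_top_iff, ← PresentedGroup.closure_range_of, Subgroup.closure_le]
  rintro _ ⟨i, rfl⟩
  cases i
  exacts [ha, hb, hc, hd, he, hs, ht, hu]

/-- **`Coh Th`** -/
theorem coh_th {T : Type u} [Group T] [Finite T] [IsSimpleGroup T] (h : Cfsg.Spor.IsoTh T) : Coh T :=
  coh_of_gen (na_of_card (NotCT.Orders.th h) (by norm_num)) h.some gen_th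

end Cfsg.Agent.H109.DG
end

-- part: H288/DG/Untw
section
/-!
# TEAM GEN: the torus data of the untwisted exceptional groups (helper288, for S4180)
-/

set_option autoImplicit false
set_option linter.unusedSectionVars false

namespace Cfsg.Agent.H288.DG.Untw

open Cfsg.Lie Cfsg.Agent.ChevalleyStructure.Elts Cfsg.Agent.H135.TwoG Cfsg.Agent.H288.DG

universe u

variable {F : Type u} [Field F] {D : ChevalleyDatum}

/-- conjugation by a torus element -/
theorem conj_trick {G : Type*} [Group G] {M A : Subgroup G} (hA : A ≤ M) {w x h : G} (hw : ∀ a ∈ A, w * a * w⁻¹ ∈ A)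
    (hh : h ∈ A) (hx : x * w ∈ M) : (h * x * h⁻¹) * ((h * (w * h⁻¹ * w⁻¹)) * x⁻¹ * (h * (w * h⁻¹ * w⁻¹))⁻¹) ∈ M := by
  have h1 : h * (w * h⁻¹ * w⁻¹) ∈ A := mul_mem hh (hw _ (inv_mem hh))
  have h2 : h * (x * w) * h⁻¹ * (x * w)⁻¹ ∈ M :=
    mul_mem (mul_mem (mul_mem (hA hh) hx) (inv_mem (hA hh))) (inv_mem hx)
  have h3 := mul_mem h2 (inv_mem (hA h1))
  have e : h * (x * w) * h⁻¹ * (x * w)⁻¹ * (h * (w * h⁻¹ * w⁻¹))⁻¹ =
      (h * x * h⁻¹) * ((h * (w * h⁻¹ * w⁻¹)) * x⁻¹ * (h * (w * h⁻¹ * w⁻¹))⁻¹) := by group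
  rwa [e] at h3

theorem hG_inv (hD : InList D) {i : ℕ} (hi : i < D.rank) (c : Fˣ) :
    (hG hD (D.simple i) (c : F))⁻¹ = hG hD (D.simple i) ((c⁻¹ : Fˣ) : F) := by
  rw [hG_eq_hh hD hi, hG_eq_hh hD hi, map_inv]

theorem h_mem (hD : InList D) {i : ℕ} (hi : i < D.rank) (c : Fˣ) :
    hG hD (D.simple i) (c : F) ∈ D.diagonalSubgroup F :=
  hG_mem_diagonal hD (Cfsg.Agent.H135.TorusTab.simple_lt hD i hi) c.ne_zero

/-- the action of `h'' = h · w h⁻¹ w⁻¹` on a root element, `W s' = s` -/
theorem h2_conj (hD : InList D) {l : List ℕ} (hl : ∀ i ∈ l, i < D.rank) {i s s' : ℕ} (hi : i < D.rank)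
    (hs' : s' < D.nroots) (hs : s < D.nroots) (hss : wact D l s' = s) (c : Fˣ) (t : F) :
    (hG hD (D.simple i) (c : F) * (wG hD F l * (hG hD (D.simple i) (c : F))⁻¹ * (wG hD F l)⁻¹)) * xG hD s t *
      (hG hD (D.simple i) (c : F) * (wG hD F l * (hG hD (D.simple i) (c : F))⁻¹ * (wG hD F l)⁻¹))⁻¹ =
      xG hD s ((c : F) ^ (D.cartan i s) * (((c⁻¹ : Fˣ) : F) ^ (D.cartan i s') * t)) := by
  obtain ⟨η, hη, hwc0⟩ := wG_conj (F := F) hD hl hs'
  have hη2 : η * η = 1 := sq_one hη
  rw [hss] at hwc0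
  have hwc' : (wG hD F l)⁻¹ * xG hD s t * wG hD F l = xG hD s' (η * t) := by
    have h := hwc0 (η * t)
    rw [← mul_assoc, hη2, one_mul] at h
    rw [← h]; group
  set h := hG hD (D.simple i) (c : F) with hh
  set w := wG hD F l with hw
  calc (h * (w * h⁻¹ * w⁻¹)) * xG hD s t * (h * (w * h⁻¹ * w⁻¹))⁻¹
      = h * (w * (h⁻¹ * (w⁻¹ * xG hD s t * w) * (h⁻¹)⁻¹) * w⁻¹) * h⁻¹ := by group
    _ = _ := by
      rw [hwc', hh, hG_inv hD hi, h_conj hD hi hs' (c⁻¹).ne_zero, hwc0]
      have e : η * (((c⁻¹ : Fˣ) : F) ^ D.cartan i s' * (η * t)) = ((c⁻¹ : Fˣ) : F) ^ D.cartan i s' * t := by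
        calc η * (((c⁻¹ : Fˣ) : F) ^ D.cartan i s' * (η * t)) = (η * η) * (((c⁻¹ : Fˣ) : F) ^ D.cartan i s' * t) := by ring
          _ = _ := by rw [hη2, one_mul]
      rw [e, ← hG_inv hD hi, h_conj hD hi hs c.ne_zero]

/-- the torus acts irreducibly on a root group -/
theorem coeffs_bt [Finite F] (hD : InList D) {i r : ℕ} (hi : i < D.rank) (hr : r < D.nroots)
    (hc : (D.cartan i r).natAbs = 1 ∨ (D.cartan i r).natAbs = 2) {M : Subgroup (GL D.Idx F)}
    (hM : D.diagonalSubgroup F ≤ M) : coeffs hD M r = ⊥ ∨ coeffs hD M r = ⊤ := by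
  obtain ⟨k, hk⟩ := IsCyclic.exists_generator (α := Fˣ)
  apply Cfsg.Agent.H136.FieldLem.eq_bot_or_top hk
  intro a ha
  have key : ∀ c : Fˣ, (c : F) ^ (D.cartan i r) * a ∈ coeffs hD M r := by
    intro c
    have h1 := hM (h_mem hD hi c)
    have h2 := M.mul_mem (M.mul_mem h1 ha) (M.inv_mem h1)
    rwa [h_conj hD hi hr c.ne_zero] at h2
  rcases hc with hc | hc
  · rcases Int.natAbs_eq (D.cartan i r) with h | h
    · have := key (k ^ 2)
      rw [h, hc] at this
      simpa using this
    · have := key ((k ^ 2)⁻¹)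
      rw [h, hc] at this
      simpa using this
  · rcases Int.natAbs_eq (D.cartan i r) with h | h
    · have := key k
      rw [h, hc] at this
      exact_mod_cast this
    · have := key k⁻¹
      rw [h, hc] at this
      have e : ((k⁻¹ : Fˣ) : F) ^ (-((2 : ℕ) : ℤ)) = (k : F) ^ 2 := by
        rw [Units.val_inv_eq_inv_val, zpow_neg, inv_zpow, inv_inv]
        exact_mod_cast rfl
      rwa [e] at this

theorem has_of_ne [Finite F] (hD : InList D) {i r : ℕ} (hi : i < D.rank) (hr : r < D.nroots)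
    (hc : (D.cartan i r).natAbs = 1 ∨ (D.cartan i r).natAbs = 2) {M : Subgroup (GL D.Idx F)}
    (hM : D.diagonalSubgroup F ≤ M) {s : F} (hs : s ≠ 0) (h : xG hD r s ∈ M) : Has hD M r := by
  rcases coeffs_bt hD hi hr hc hM with h1 | h1
  · exfalso
    have : s ∈ coeffs hD M r := h
    rw [h1, AddSubgroup.mem_bot] at this
    exact hs this
  · intro t
    have : t ∈ coeffs hD M r := by rw [h1]; exact AddSubgroup.mem_top t
    exact this

/-- one root element -/
theorem one_root [Finite F] (hD : InList D) {l : List ℕ} (hl : ∀ i ∈ l, i < D.rank) {M : Subgroup (GL D.Idx F)}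
    (hM : D.diagonalSubgroup F ≤ M) {a a' i j : ℕ} (ha : a < D.nroots) (ha' : a' < D.nroots) (haa : wact D l a' = a)
    (hi : i < D.rank) (hia : (D.cartan i a).natAbs = 1 ∨ (D.cartan i a).natAbs = 2) (hj : j < D.rank) {c : Fˣ}
    (hjc : (c : F) ^ (D.cartan j a') ≠ 1) (hx : xG hD a (1 : F) * wG hD F l ∈ M) :
    Has hD M a ∧ wG hD F l ∈ M := by
  have h1 := conj_trick hM (w := wG hD F l) (x := xG hD a (1 : F)) (h := hG hD (D.simple j) (c : F))
    (fun x hx => diag_conj hD (wG_mem_monomial hD hl) hx) (h_mem hD hj c) hx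
  rw [xG_inv, h_conj hD hj ha c.ne_zero, h2_conj hD hl hj ha' ha haa, xG_add] at h1
  have hne : (c : F) ^ D.cartan j a * 1 + (c : F) ^ D.cartan j a * (((c⁻¹ : Fˣ) : F) ^ D.cartan j a' * -1) ≠ 0 := by
    intro h0
    have h2 : (c : F) ^ D.cartan j a * (1 - ((c⁻¹ : Fˣ) : F) ^ D.cartan j a') = 0 := by
      rw [← h0]; ring
    rcases mul_eq_zero.1 h2 with h3 | h3
    · exact zpow_ne_zero _ c.ne_zero h3
    · apply hjc
      rw [Units.val_inv_eq_inv_val, inv_zpow] at h3
      exact (inv_eq_one.1 (sub_eq_zero.1 h3).symm)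
  have h3 := has_of_ne hD hi ha hia hM hne h1
  refine ⟨h3, ?_⟩
  have h4 := M.mul_mem (M.inv_mem (h3 1)) hx
  rwa [inv_mul_cancel_left] at h4

/-- two commuting root elements -/
theorem two_roots [Finite F] (hD : InList D) {l : List ℕ} (hl : ∀ i ∈ l, i < D.rank) {M : Subgroup (GL D.Idx F)}
    (hM : D.diagonalSubgroup F ≤ M) {a a' b b' i i2 j j2 : ℕ} (ha : a < D.nroots) (ha' : a' < D.nroots)
    (haa : wact D l a' = a) (hb : b < D.nroots) (hb' : b' < D.nroots) (hbb : wact D l b' = b)
    (hi : i < D.rank) (hia : (D.cartan i a).natAbs = 1 ∨ (D.cartan i a).natAbs = 2)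
    (hi2 : i2 < D.rank) (hib : (D.cartan i2 b).natAbs = 1 ∨ (D.cartan i2 b).natAbs = 2)
    (hj : j < D.rank) {c : Fˣ} (hjc : (c : F) ^ (D.cartan j a') ≠ 1)
    (hj2 : j2 < D.rank) (hj2a : D.cartan j2 a' = 0) {d : Fˣ} (hjd : (d : F) ^ (D.cartan j2 b') ≠ 1)
    (hab : b ≠ a ∧ b ≠ D.neg a ∧ D.commTerms a b = [])
    (hx : xG hD a (1 : F) * xG hD b 1 * wG hD F l ∈ M) :
    Has hD M a ∧ Has hD M b ∧ wG hD F l ∈ M := by
  have hcomm : ∀ t u : F, xG hD b u * xG hD a t = xG hD a t * xG hD b u := fun t u =>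
    commute_of_terms (F := F) hD ha hb hab.1 hab.2.1 hab.2.2 t u
  have h1 := conj_trick hM (w := wG hD F l) (x := xG hD a (1 : F) * xG hD b 1) (h := hG hD (D.simple j2) (d : F))
    (fun x hx => diag_conj hD (wG_mem_monomial hD hl) hx) (h_mem hD hj2 d) hx
  have e1 : ∀ g : GL D.Idx F, g * (xG hD a (1 : F) * xG hD b 1) * g⁻¹ =
      (g * xG hD a 1 * g⁻¹) * (g * xG hD b 1 * g⁻¹) := by intro g; group
  have e2 : ∀ g : GL D.Idx F, g * (xG hD a (1 : F) * xG hD b 1)⁻¹ * g⁻¹ =
      (g * xG hD b (-1) * g⁻¹) * (g * xG hD a (-1) * g⁻¹) := by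
    intro g
    rw [mul_inv_rev, xG_inv, xG_inv]; group
  rw [e1, e2, h_conj hD hj2 ha d.ne_zero, h_conj hD hj2 hb d.ne_zero, h2_conj hD hl hj2 ha' ha haa,
    h2_conj hD hl hj2 hb' hb hbb, hj2a, zpow_zero, one_mul] at h1
  have e3 : xG hD a ((d : F) ^ D.cartan j2 a * 1) * xG hD b ((d : F) ^ D.cartan j2 b * 1) *
      (xG hD b ((d : F) ^ D.cartan j2 b * (((d⁻¹ : Fˣ) : F) ^ D.cartan j2 b' * -1)) *
        xG hD a ((d : F) ^ D.cartan j2 a * -1)) =
      xG hD b ((d : F) ^ D.cartan j2 b * 1 + (d : F) ^ D.cartan j2 b * (((d⁻¹ : Fˣ) : F) ^ D.cartan j2 b' * -1)) := by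
    generalize (d : F) ^ D.cartan j2 a = A
    generalize (d : F) ^ D.cartan j2 b * (((d⁻¹ : Fˣ) : F) ^ D.cartan j2 b' * -1) = C
    generalize (d : F) ^ D.cartan j2 b * 1 = B
    rw [hcomm (A * -1) C]
    calc xG hD a (A * 1) * xG hD b B * (xG hD a (A * -1) * xG hD b C)
        = xG hD a (A * 1) * (xG hD b B * xG hD a (A * -1)) * xG hD b C := by group
      _ = (xG hD a (A * 1) * xG hD a (A * -1)) * (xG hD b B * xG hD b C) := by rw [hcomm (A * -1) B]; group
      _ = xG hD b (B + C) := by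
        rw [xG_add, xG_add]
        have e : A * 1 + A * -1 = 0 := by ring
        rw [e, xG_zero, one_mul]
  rw [e3] at h1
  have hne : (d : F) ^ D.cartan j2 b * 1 + (d : F) ^ D.cartan j2 b * (((d⁻¹ : Fˣ) : F) ^ D.cartan j2 b' * -1) ≠ 0 := by
    intro h0
    have h2 : (d : F) ^ D.cartan j2 b * (1 - ((d⁻¹ : Fˣ) : F) ^ D.cartan j2 b') = 0 := by
      rw [← h0]; ring
    rcases mul_eq_zero.1 h2 with h3 | h3
    · exact zpow_ne_zero _ d.ne_zero h3
    · apply hjd
      rw [Units.val_inv_eq_inv_val, inv_zpow] at h3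
      exact (inv_eq_one.1 (sub_eq_zero.1 h3).symm)
  have hB := has_of_ne hD hi2 hb hib hM hne h1
  have h4 : xG hD a (1 : F) * wG hD F l ∈ M := by
    have h5 := M.mul_mem (hB (-1)) hx
    have e4 : xG hD b (-1 : F) * (xG hD a 1 * xG hD b 1 * wG hD F l) = xG hD a (1 : F) * wG hD F l := by
      rw [← hcomm 1 1, ← xG_inv]; group
    rwa [e4] at h5
  obtain ⟨hA, hw⟩ := one_root hD hl hM ha ha' haa hi hia hj hjc h4
  exact ⟨hA, hB, hw⟩

/-! ### the torus data -/

/-- the torus -/
theorem diag_le (hD : InList D) : D.diagonalSubgroup F ≤ D.group F := by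
  rw [Cfsg.Agent.H135.TorusTab.range_eq hD]
  rintro _ ⟨u, rfl⟩
  rw [Cfsg.Agent.H135.TorusTab.torusHom_eq_prod]
  refine Subgroup.list_prod_mem _ fun x hx => ?_
  rw [List.mem_ofFn] at hx
  obtain ⟨i, rfl⟩ := hx
  rw [← hG_eq_hh hD i.2]
  exact hG_mem_group hD _ _

theorem card_diag [Fintype F] (hD : InList D) (p : ℕ) [CharP F p] : ¬ p ∣ Nat.card ↥(D.diagonalSubgroup F) := by
  have hp : p.Prime := CharP.char_is_prime F p
  rw [Cfsg.Agent.H135.TorusTab.range_eq hD]
  intro h
  have h1 : Nat.card ↥(Cfsg.Agent.ChevalleyStructure.TorusCount.torusHom D F).range ∣ Nat.card (Fin D.rank → Fˣ) :=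
    Subgroup.card_range_dvd _
  have h2 := h.trans h1
  rw [Nat.card_pi, Finset.prod_const, Nat.card_units, Nat.card_eq_fintype_card] at h2
  have h3 := hp.dvd_of_dvd_pow h2
  have h4 : p ∣ Fintype.card F := (CharP.cast_eq_zero_iff F p _).1 (Nat.cast_card_eq_zero F)
  have h5 : 0 < Fintype.card F := Fintype.card_pos
  have h6 : p ∣ 1 := by
    have := Nat.dvd_sub h4 h3
    have e : Fintype.card F - (Fintype.card F - 1) = 1 := by omega
    rwa [e] at this
  exact hp.one_lt.ne' (Nat.dvd_one.1 h6)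

/-- the subgroup `H ⊔ ⟨u w⟩` of the ambient group -/
theorem top_of_le {X : Type*} [Group X] {S : Subgroup X} {H : Subgroup ↥S} {g : ↥S}
    (h : S ≤ (H ⊔ Subgroup.closure {g}).map S.subtype) : H ⊔ Subgroup.closure {g} = ⊤ := by
  rw [eq_top_iff]
  intro x _
  obtain ⟨y, hy, e⟩ := h x.2
  have : y = x := Subtype.ext e
  rwa [this] at hy

/-- the data from a word and an element `u` -/
theorem tor_of [Fintype F] (hD : InList D) {l : List ℕ} (hl : ∀ i ∈ l, i < D.rank) (p : ℕ) [CharP F p]
    {u : GL D.Idx F} (hu : u ∈ D.group F)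
    (hgen : ∀ M : Subgroup (GL D.Idx F), D.diagonalSubgroup F ≤ M → u * wG hD F l ∈ M → D.group F ≤ M)
    (h2 : p = 2 → u ^ 2 = 1 ∧ u ≠ 1) {i : ℕ} (hi : i < D.rank)
    (hiu : p ≠ 2 → hG hD (D.simple i) (-1 : F) * u = u * hG hD (D.simple i) (-1 : F))
    {s : ℕ} (hs : s < D.nroots) (his : D.cartan i s % 2 ≠ 0) : Tor p ↥(D.group F) := by
  classical
  have hp : p.Prime := CharP.char_is_prime F p
  have hle := diag_le (F := F) hD
  refine ⟨(D.diagonalSubgroup F).subgroupOf (D.group F), ⟨wG hD F l, wG_mem_group hD l⟩, ⟨u, hu⟩, ?_, ?_, ?_, ?_⟩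
  · rw [Nat.card_congr (Subgroup.subgroupOfEquivOfLe hle).toEquiv]
    exact card_diag hD p
  · intro h hh
    rw [Subgroup.mem_subgroupOf] at hh ⊢
    exact diag_conj hD (wG_mem_monomial hD hl) hh
  · apply top_of_le
    apply hgen
    · intro x hx
      exact ⟨⟨x, hle hx⟩, Subgroup.mem_sup_left (Subgroup.mem_subgroupOf.2 hx), rfl⟩
    · exact ⟨@HMul.hMul _ _ _ instHMul ⟨u, hu⟩ ⟨wG hD F l, wG_mem_group hD l⟩, Subgroup.mem_sup_right (Subgroup.subset_closure rfl), rfl⟩
  · by_cases hp2 : p = 2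
    · obtain ⟨h3, h4⟩ := h2 hp2
      exact Or.inl ⟨hp2, Subtype.ext h3, fun h => h4 (congrArg Subtype.val h)⟩
    · refine Or.inr ⟨⟨hG hD (D.simple i) (-1 : F), hG_mem_group hD _ _⟩, ?_, ?_, Subtype.ext (hiu hp2)⟩
      · rw [Subgroup.mem_subgroupOf]
        exact h_mem hD hi (-1)
      · intro h
        have h3 : hG hD (D.simple i) (-1 : F) = 1 := congrArg Subtype.val h
        have h4 := h_conj (F := F) hD hi hs (c := -1) (neg_ne_zero.2 one_ne_zero) 1
        rw [h3, one_mul, inv_one, mul_one] at h4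
        have h5 := xG_injective hD hs h4
        have h6 : Odd (D.cartan i s) := Int.odd_iff.2 (by omega)
        rw [h6.neg_one_zpow, mul_one] at h5
        have : CharP F 2 := by
          apply CharTwo.of_one_ne_zero_of_two_eq_zero one_ne_zero
          rw [← one_add_one_eq_two]
          nth_rewrite 1 [h5]
          ring
        exact hp2 (CharP.eq F ‹_› this)

theorem neg_comm (hD : InList D) {i a : ℕ} (hi : i < D.rank) (ha : a < D.nroots) (he : D.cartan i a % 2 = 0) (t : F) :
    hG hD (D.simple i) (-1 : F) * xG hD a t = xG hD a t * hG hD (D.simple i) (-1 : F) := by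
  have h4 := h_conj (F := F) hD hi ha (c := -1) (neg_ne_zero.2 one_ne_zero) t
  have h6 : Even (D.cartan i a) := Int.even_iff.2 he
  rw [h6.neg_one_zpow, one_mul] at h4
  exact mul_inv_eq_iff_eq_mul.1 h4

theorem sq_root [CharP F 2] (hD : InList D) {a : ℕ} : (xG hD a (1 : F)) ^ 2 = 1 := by
  rw [pow_two, xG_add]
  have h2 : (1 : F) + 1 = 0 := by
    have := CharP.cast_eq_zero F 2
    rw [← one_add_one_eq_two] at this
    exact_mod_cast this
  rw [h2, xG_zero]

theorem root_ne (hD : InList D) {a : ℕ} (ha : a < D.nroots) {t : F} (ht : t ≠ 0) : xG hD a t ≠ 1 := by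
  intro h
  rw [← xG_zero hD a] at h
  exact ht (xG_injective hD ha h)

open Cfsg.Agent.ChevalleyStructure in
theorem eq_of_xG (hD : InList D) {r s : ℕ} (hr : r < D.nroots) (hs : s < D.nroots) {t u : F} (ht : t ≠ 0)
    (h : xG hD r t = xG hD s u) : r = s := by
  by_contra hrs
  have h2 := congrArg (fun g : GL D.Idx F => (g : Matrix D.Idx D.Idx F) (Sum.inr ⟨r, hr⟩)
    (Sum.inr ⟨D.neg r, NPerm.neg_lt hD hr⟩)) h
  simp only [coe_xG] at h2
  rw [NPerm.x_entry_self hD hr, NPerm.x_entry_ne hD hr hs (fun h => hrs h.symm)] at h2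
  simp [ht] at h2

/-- one root -/
theorem tor_one [Fintype F] (hD : InList D) (p : ℕ) [CharP F p] (hq : 3 ≤ Fintype.card F) {l : List ℕ}
    (hl : ∀ i ∈ l, i < D.rank) {W : ℕ → ℕ} (hW : ∀ s < D.nroots, W s = wact D l s) {a a' i j k s : ℕ}
    (ha : a < D.nroots) (ha' : a' < D.nroots) (haa : W a' = a) (hi : i < D.rank)
    (hia : (D.cartan i a).natAbs = 1 ∨ (D.cartan i a).natAbs = 2) (hj : j < D.rank)
    (hja : (D.cartan j a').natAbs = 1) (hk : k < D.rank) (hka : D.cartan k a % 2 = 0) (hs : s < D.nroots)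
    (hks : D.cartan k s % 2 ≠ 0) {steps : List (ℕ × ℕ)} (hrun : run D W (1 <<< a) steps = 2 ^ D.nroots - 1) :
    Tor p ↥(D.group F) := by
  obtain ⟨c, hc⟩ : ∃ c : Fˣ, c ≠ 1 := by
    by_contra hcon
    push Not at hcon
    have : Nat.card Fˣ = 1 := Nat.card_eq_one_iff_unique.2 ⟨⟨fun a b => by rw [hcon a, hcon b]⟩, ⟨1⟩⟩
    rw [Nat.card_units, Nat.card_eq_fintype_card] at this
    omega
  refine tor_of hD hl p (u := xG hD a (1 : F)) (xG_mem_group hD _ _) (fun M hM hx => ?_) (fun h2 => ?_) hk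
    (fun _ => neg_comm hD hk ha hka 1) hs hks
  · have hjc : (c : F) ^ (D.cartan j a') ≠ 1 := by
      rcases Int.natAbs_eq (D.cartan j a') with h | h
      · rw [h, hja]; simpa using hc
      · rw [h, hja]; simpa using hc
    obtain ⟨hA, hw⟩ := one_root hD hl hM ha ha' (by rw [← hW a' ha', haa]) hi hia hj hjc hx
    refine group_le_of_run hl hW hw (S := 1 <<< a) ?_ hrun
    intro r hr
    rw [Nat.one_shiftLeft, Nat.testBit_two_pow] at hr
    have : a = r := by simpa using hr
    exact this ▸ hA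
  · subst h2
    exact ⟨sq_root hD, root_ne hD ha one_ne_zero⟩

/-- two roots -/
theorem tor_two [Fintype F] (hD : InList D) (p : ℕ) [CharP F p] {l : List ℕ}
    (hl : ∀ i ∈ l, i < D.rank) {W : ℕ → ℕ} (hW : ∀ s < D.nroots, W s = wact D l s) {a a' b b' i i2 j j2 k s : ℕ}
    (ha : a < D.nroots) (ha' : a' < D.nroots) (haa : W a' = a) (hb : b < D.nroots) (hb' : b' < D.nroots)
    (hbb : W b' = b) (hi : i < D.rank)
    (hia : (D.cartan i a).natAbs = 1 ∨ (D.cartan i a).natAbs = 2) (hi2 : i2 < D.rank)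
    (hib : (D.cartan i2 b).natAbs = 1 ∨ (D.cartan i2 b).natAbs = 2) (hj : j < D.rank)
    {c : Fˣ} (hjc : (c : F) ^ (D.cartan j a') ≠ 1)
    (hj2 : j2 < D.rank) (hj2a : D.cartan j2 a' = 0) {d : Fˣ} (hjd : (d : F) ^ (D.cartan j2 b') ≠ 1)
    (hab : b ≠ a ∧ b ≠ D.neg a ∧ D.commTerms a b = [])
    (hk : k < D.rank) (hka : D.cartan k a % 2 = 0) (hkb : D.cartan k b % 2 = 0) (hs : s < D.nroots)
    (hks : D.cartan k s % 2 ≠ 0) {steps : List (ℕ × ℕ)}
    (hrun : run D W ((1 <<< a) ||| (1 <<< b)) steps = 2 ^ D.nroots - 1) :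
    Tor p ↥(D.group F) := by
  have hcomm : ∀ t u : F, xG hD b u * xG hD a t = xG hD a t * xG hD b u := fun t u =>
    commute_of_terms (F := F) hD ha hb hab.1 hab.2.1 hab.2.2 t u
  refine tor_of hD hl p (u := xG hD a (1 : F) * xG hD b 1) (mul_mem (xG_mem_group hD _ _) (xG_mem_group hD _ _))
    (fun M hM hx => ?_) (fun h2 => ?_) hk
    (fun _ => ?_) hs hks
  · obtain ⟨hA, hB, hw⟩ := two_roots hD hl hM ha ha' (by rw [← hW a' ha', haa]) hb hb' (by rw [← hW b' hb', hbb])
      hi hia hi2 hib hj hjc hj2 hj2a hjd hab hx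
    refine group_le_of_run hl hW hw (S := (1 <<< a) ||| (1 <<< b)) ?_ hrun
    intro r hr
    rcases testBit_insert hr with h | rfl
    · rw [Nat.one_shiftLeft, Nat.testBit_two_pow] at h
      have : a = r := by simpa using h
      exact this ▸ hA
    · exact hB
  · subst h2
    constructor
    · rw [(show Commute (xG hD a (1 : F)) (xG hD b 1) from (hcomm 1 1).symm).mul_pow, sq_root, sq_root, one_mul]
    · intro h
      have h3 : xG hD a (1 : F) = xG hD b (-1) := by
        rw [← xG_inv]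
        exact eq_inv_of_mul_eq_one_left h
      exact hab.1 (eq_of_xG hD ha hb one_ne_zero h3).symm
  · rw [← mul_assoc, neg_comm hD hk ha hka, mul_assoc, neg_comm hD hk hb hkb, mul_assoc]

end Cfsg.Agent.H288.DG.Untw
end

-- part: H288/DG/UntwTab
section
/-!
# TEAM GEN: the torus data of `G₂(q)`, `F₄(q)`, `E₆(q)`, `E₇(q)`, `E₈(q)` (helper288, for S4180)
-/

set_option autoImplicit false
set_option linter.unusedSectionVars false

namespace Cfsg.Agent.H288.DG.UntwTab

open Cfsg.Lie Cfsg.Agent.ChevalleyStructure.Elts Cfsg.Agent.H135.TwoG Cfsg.Agent.H288.DG Cfsg.Agent.H288.DG.Untw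
open Cfsg.Agent.ChevalleyStructure.W0Small (tabG2 tabG2_ok tabF4 tabF4_ok)
open Cfsg.Agent.ChevalleyStructure.W0E6 (tabE6 tabE6_ok)
open Cfsg.Agent.ChevalleyStructure.W0E7 (tabE7 tabE7_ok)
open Cfsg.Agent.ChevalleyStructure.W0E8 (tabE8 tabE8_ok)

universe u

variable {F : Type u} [Field F] [Fintype F]

private noncomputable def _root_.Cfsg.Agent.KO5f7e57d.k1 : type_of% @Decidable.decide := @(fun x0 x1 => @Decidable.rec.{1} _ @(fun x2 => @Bool) @(fun x2 => @Bool.false) @(fun x2 => @Bool.true) @x1)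
private theorem _root_.Cfsg.Agent.KO5f7e57d.e1 : @Decidable.decide = @_root_.Cfsg.Agent.KO5f7e57d.k1 := by delta _root_.Cfsg.Agent.KO5f7e57d.k1; rfl'
private noncomputable def _root_.Cfsg.Agent.KO5f7e57d.k2 : type_of% @Nat.decEq := @(fun x0 x1 => @Bool.rec.{1} @(fun x2 => (@Eq.{1} _ (@Nat.beq @x0 @x1) @x2) → @Decidable (@Eq.{1} _ @x0 @x1)) @(fun x2 => @Decidable.isFalse _ (@Nat.ne_of_beq_eq_false _ _ @x2)) @(fun x2 => @Decidable.isTrue _ (@Nat.eq_of_beq_eq_true _ _ @x2)) (@Nat.beq @x0 @x1) (@Eq.refl.{1} _ (@Nat.beq @x0 @x1)))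
private theorem _root_.Cfsg.Agent.KO5f7e57d.e2 : @Nat.decEq = @_root_.Cfsg.Agent.KO5f7e57d.k2 := by delta _root_.Cfsg.Agent.KO5f7e57d.k2; rfl'
private noncomputable def _root_.Cfsg.Agent.KO5f7e57d.k3 : type_of% @instDecidableEqNat := @Cfsg.Agent.KO5f7e57d.k2
private theorem _root_.Cfsg.Agent.KO5f7e57d.e3 : @instDecidableEqNat = @_root_.Cfsg.Agent.KO5f7e57d.k3 := by delta _root_.Cfsg.Agent.KO5f7e57d.k3; rewrite [← Cfsg.Agent.KO5f7e57d.e2]; rfl'
private theorem _root_.Cfsg.Agent.KO5f7e57d.e4.{ku, kv} {α : Type kv} {M : List α → Sort ku} (φ : ∀ l, M l) {z : M List.nil} {s : ∀ a l, M l → M (List.cons a l)} (h0 : φ List.nil = z) (hs : ∀ a l, φ (List.cons a l) = s a l (φ l)) (l : List α) : φ l = @List.rec α M z s l := List.rec h0 (fun a l ih => (hs a l).trans (congrArg (s a l) ih)) l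
private noncomputable def _root_.Cfsg.Agent.KO5f7e57d.k5.{ku0, ku1} : type_of% @List.foldl.{ku0, ku1} := @(fun x0 x1 x2 x3 x4 => @List.rec.{(ku0+1), ku1} @x1 @(fun x5 => @x0 → @x0) @(fun x5 => @x5) @(fun x5 x6 x7 x8 => @x7 (@x2 @x8 @x5)) @x4 @x3)
private theorem _root_.Cfsg.Agent.KO5f7e57d.e5.{ku0, ku1} : @List.foldl.{ku0, ku1} = @_root_.Cfsg.Agent.KO5f7e57d.k5.{ku0, ku1} := by delta _root_.Cfsg.Agent.KO5f7e57d.k5; funext a0 a1 a2 a3 a4; refine (congrFun (_root_.Cfsg.Agent.KO5f7e57d.e4 (fun a4 a3 => @List.foldl.{ku0, ku1} a0 a1 a2 a3 a4) ?_ (fun c0 c1 => ?_) a4) a3 :) <;> (rfl')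
private noncomputable def _root_.Cfsg.Agent.KO5f7e57d.k28 : (by first | exact type_of% @Cfsg.Agent.H135.TwoG.run | exact Unit : Sort _) := by first | (refine @Subtype.val _ (fun g => @Cfsg.Agent.H135.TwoG.run = @g) (@Subtype.mk _ _ (@(fun x0 x1 x2 x3 => @Cfsg.Agent.KO5f7e57d.k5.{0, 0} _ _ (@Cfsg.Agent.H135.TwoG.step @x0 @x1) @x2 @x3)) ?_); rewrite [← Cfsg.Agent.KO5f7e57d.e5.{0, 0}]; (try delta Cfsg.Agent.H135.TwoG.run); (try generalize @Cfsg.Agent.H135.TwoG.step = g0); rfl') | exact @Cfsg.Agent.H135.TwoG.run | exact ()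
private theorem _root_.Cfsg.Agent.KO5f7e57d.e28 : (by first | exact @Cfsg.Agent.H135.TwoG.run = @_root_.Cfsg.Agent.KO5f7e57d.k28 | exact True : Prop) := by first | (delta _root_.Cfsg.Agent.KO5f7e57d.k28; exact @Subtype.property _ (fun g => @Cfsg.Agent.H135.TwoG.run = @g) _) | rfl | trivial
private noncomputable def _root_.Cfsg.Agent.KO5f7e57d.k29.{ku0, ku1} : type_of% @List.foldr.{ku0, ku1} := @(fun x0 x1 x2 x3 x4 => @List.rec.{(ku1+1), ku0} @x0 @(fun x5 => @x1) @x3 @(fun x5 x6 x7 => @x2 @x5 @x7) @x4)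
private theorem _root_.Cfsg.Agent.KO5f7e57d.e29.{ku0, ku1} : @List.foldr.{ku0, ku1} = @_root_.Cfsg.Agent.KO5f7e57d.k29.{ku0, ku1} := by delta _root_.Cfsg.Agent.KO5f7e57d.k29; funext a0 a1 a2 a3 a4; refine (_root_.Cfsg.Agent.KO5f7e57d.e4 (fun a4 => @List.foldr.{ku0, ku1} a0 a1 a2 a3 a4) ?_ (fun c0 c1 => ?_) a4 :) <;> (rfl')
private noncomputable def _root_.Cfsg.Agent.KO5f7e57d.k30 : (by first | exact type_of% @Cfsg.Agent.ChevalleyStructure.W0Core.look | exact Unit : Sort _) := by first | (refine @Subtype.val _ (fun g => @Cfsg.Agent.ChevalleyStructure.W0Core.look = @g) (@Subtype.mk _ _ (@(fun x0 x1 => @Nat.mod (@Nat.shiftRight @x0 (@Nat.mul (nat_lit 8) @x1)) (nat_lit 256))) ?_); rfl') | exact @Cfsg.Agent.ChevalleyStructure.W0Core.look | exact ()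
private theorem _root_.Cfsg.Agent.KO5f7e57d.e30 : (by first | exact @Cfsg.Agent.ChevalleyStructure.W0Core.look = @_root_.Cfsg.Agent.KO5f7e57d.k30 | exact True : Prop) := by first | (delta _root_.Cfsg.Agent.KO5f7e57d.k30; exact @Subtype.property _ (fun g => @Cfsg.Agent.ChevalleyStructure.W0Core.look = @g) _) | rfl | trivial
private noncomputable def _root_.Cfsg.Agent.KO5f7e57d.k31 : (by first | exact type_of% @Cfsg.Agent.H135.TwoG.wT | exact Unit : Sort _) := by first | (refine @Subtype.val _ (fun g => @Cfsg.Agent.H135.TwoG.wT = @g) (@Subtype.mk _ _ (@(fun x0 x1 x2 => @Cfsg.Agent.KO5f7e57d.k29.{0, 0} _ _ @(fun x3 x4 => @Cfsg.Agent.KO5f7e57d.k30 (@x0 @x3) @x4) @x2 @x1)) ?_); rewrite [← Cfsg.Agent.KO5f7e57d.e30, ← Cfsg.Agent.KO5f7e57d.e29.{0, 0}]; (try delta Cfsg.Agent.H135.TwoG.wT); (try generalize @Cfsg.Agent.ChevalleyStructure.W0Core.look = g0); rfl') | exact @Cfsg.Agent.H135.TwoG.wT | exact ()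
private theorem _root_.Cfsg.Agent.KO5f7e57d.e31 : (by first | exact @Cfsg.Agent.H135.TwoG.wT = @_root_.Cfsg.Agent.KO5f7e57d.k31 | exact True : Prop) := by first | (delta _root_.Cfsg.Agent.KO5f7e57d.k31; exact @Subtype.property _ (fun g => @Cfsg.Agent.H135.TwoG.wT = @g) _) | rfl | trivial
private noncomputable def _root_.Cfsg.Agent.KO5f7e57d.k32 : (by first | exact type_of% @Cfsg.Agent.ChevalleyStructure.W0E6.tabE6 | exact Unit : Sort _) := by first | (refine @Subtype.val _ (fun g => @Cfsg.Agent.ChevalleyStructure.W0E6.tabE6 = @g) (@Subtype.mk _ _ (@(fun x0 => @Decidable.rec.{1} _ @(fun x1 => ℕ) @(fun x1 => @Decidable.rec.{1} _ @(fun x2 => ℕ) @(fun x2 => @Decidable.rec.{1} _ @(fun x3 => ℕ) @(fun x3 => @Decidable.rec.{1} _ @(fun x4 => ℕ) @(fun x4 => @Decidable.rec.{1} _ @(fun x5 => ℕ) @(fun x5 => @Decidable.rec.{1} _ @(fun x6 => ℕ) @(fun x6 => nat_lit 0) @(fun x6 => @Eq.rec.{1, 1} ℕ (nat_lit 5) @(fun x7 x8 => ℕ) @Cfsg.Agent.ChevalleyStructure.W0E6.tabE6_5 @x0 (@Eq.symm.{1}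 _ _ _ @x6)) (@Cfsg.Agent.KO5f7e57d.k2 @x0 (nat_lit 5))) @(fun x5 => @Eq.rec.{1, 1} ℕ (nat_lit 4) @(fun x6 x7 => ℕ) @Cfsg.Agent.ChevalleyStructure.W0E6.tabE6_4 @x0 (@Eq.symm.{1} _ _ _ @x5)) (@Cfsg.Agent.KO5f7e57d.k2 @x0 (nat_lit 4))) @(fun x4 => @Eq.rec.{1, 1} ℕ (nat_lit 3) @(fun x5 x6 => ℕ) @Cfsg.Agent.ChevalleyStructure.W0E6.tabE6_3 @x0 (@Eq.symm.{1} _ _ _ @x4)) (@Cfsg.Agent.KO5f7e57d.k2 @x0 (nat_lit 3))) @(fun x3 => @Eq.rec.{1, 1} ℕ (nat_lit 2) @(fun x4 x5 => ℕ) @Cfsg.Agent.ChevalleyStructure.W0E6.tabE6_2 @x0 (@Eq.symm.{1} _ _ _ @x3)) (@Cfsg.Agent.KO5f7e57d.k2 @x0 (nat_lit 2))) @(fun x2 => @Eq.rec.{1, 1} ℕ (nat_lit 1) @(fun x3 x4 => ℕ) @Cfsg.Agent.ChevalleyStructure.W0E6.tabE6_1 @x0 (@Eq.symm.{1} _ _ _ @x2)) (@Cfsg.Agent.KO5f7e57d.k2 @x0 (nat_lit 1))) @(fun x1 => @Eq.rec.{1, 1} ℕ (nat_lit 0) @(fun x2 x3 => ℕ) @Cfsg.Agent.ChevalleyStructure.W0E6.tabE6_0 @x0 (@Eq.symm.{1} _ _ _ @x1)) (@Cfsg.Agent.KO5f7e57d.k2 @x0 (nat_lit 0)))) ?_); rewrite [← Cfsg.Agent.KO5f7e57d.e2]; (try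 delta Cfsg.Agent.ChevalleyStructure.W0E6.tabE6); (try generalize @Cfsg.Agent.ChevalleyStructure.W0E6.tabE6_5 = g0); (try generalize @Cfsg.Agent.ChevalleyStructure.W0E6.tabE6_4 = g1); (try generalize @Cfsg.Agent.ChevalleyStructure.W0E6.tabE6_3 = g2); (try generalize @Cfsg.Agent.ChevalleyStructure.W0E6.tabE6_2 = g3); (try generalize @Cfsg.Agent.ChevalleyStructure.W0E6.tabE6_1 = g4); (try generalize @Cfsg.Agent.ChevalleyStructure.W0E6.tabE6_0 = g5); rfl') | exact @Cfsg.Agent.ChevalleyStructure.W0E6.tabE6 | exact ()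
private theorem _root_.Cfsg.Agent.KO5f7e57d.e32 : (by first | exact @Cfsg.Agent.ChevalleyStructure.W0E6.tabE6 = @_root_.Cfsg.Agent.KO5f7e57d.k32 | exact True : Prop) := by first | (delta _root_.Cfsg.Agent.KO5f7e57d.k32; exact @Subtype.property _ (fun g => @Cfsg.Agent.ChevalleyStructure.W0E6.tabE6 = @g) _) | rfl | trivial

theorem torE6 (p : ℕ) [CharP F p] (hq : 3 ≤ Fintype.card F) : Tor p ↥(chevE6.group F) :=
  tor_one (D := chevE6) (by simp) p hq (l := [0, 1, 2, 3, 4, 5]) (by decide +kernel)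
    (W := wT tabE6 [0, 1, 2, 3, 4, 5]) (wT_eq (by simp) tabE6_ok (by decide +kernel)) (a := 2) (a' := 7) (i := 2)
    (j := 2) (k := 0) (s := 7) (by decide +kernel) (by decide +kernel) (by decide +kernel) (by decide +kernel)
    (by decide +kernel) (by decide +kernel) (by decide +kernel) (by decide +kernel) (by decide +kernel)
    (by decide +kernel) (by decide +kernel) (steps := twoStepsE6) (by (first | (refine of_decide_eq_true ?_; rewrite [Cfsg.Agent.KO5f7e57d.e1, Cfsg.Agent.KO5f7e57d.e3, Cfsg.Agent.KO5f7e57d.e28, Cfsg.Agent.KO5f7e57d.e31, Cfsg.Agent.KO5f7e57d.e32]; decide +kernel) | decide +kernel))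

theorem torE7 (p : ℕ) [CharP F p] (hq : 3 ≤ Fintype.card F) : Tor p ↥(chevE7.group F) :=
  tor_one (D := chevE7) (by simp) p hq (l := [0, 1, 2, 3, 4, 5, 6]) (by decide +kernel)
    (W := wT tabE7 [0, 1, 2, 3, 4, 5, 6]) (wT_eq (by simp) tabE7_ok (by decide +kernel)) (a := 3) (a' := 10) (i := 1)
    (j := 1) (k := 0) (s := 0) (by decide +kernel) (by decide +kernel) (by decide +kernel) (by decide +kernel)
    (by decide +kernel) (by decide +kernel) (by decide +kernel) (by decide +kernel) (by decide +kernel)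
    (by decide +kernel) (by decide +kernel) (steps := twoStepsE7) (by decide +kernel)

private noncomputable def _root_.Cfsg.Agent.KO5f7e57d.k34 : (by first | exact type_of% @Cfsg.Agent.ChevalleyStructure.W0E8.tabE8 | exact Unit : Sort _) := by first | (refine @Subtype.val _ (fun g => @Cfsg.Agent.ChevalleyStructure.W0E8.tabE8 = @g) (@Subtype.mk _ _ (@(fun x0 => @Decidable.rec.{1} _ @(fun x1 => ℕ) @(fun x1 => @Decidable.rec.{1} _ @(fun x2 => ℕ) @(fun x2 => @Decidable.rec.{1} _ @(fun x3 => ℕ) @(fun x3 => @Decidable.rec.{1} _ @(fun x4 => ℕ) @(fun x4 => @Decidable.rec.{1} _ @(fun x5 => ℕ) @(fun x5 => @Decidable.rec.{1} _ @(fun x6 => ℕ) @(fun x6 => @Decidable.rec.{1} _ @(fun x7 => ℕ) @(fun x7 => @Decidable.rec.{1} _ @(fun x8 => ℕ) @(fun x8 => nat_lit 0) @(fun x8 => @Eq.rec.{1, 1} ℕ (nat_lit 7) @(fun x9 x10 => ℕ) @Cfsg.Agent.ChevalleyStructure.W0E8.tabE8_7 @x0 (@Eq.symm.{1} _ _ _ @x8)) (@Cfsg.Agent.KO5f7e57d.k2 @x0 (nat_lit 7))) @(fun x7 => @Eq.rec.{1, 1} ℕ (nat_lit 6) @(fun x8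 x9 => ℕ) @Cfsg.Agent.ChevalleyStructure.W0E8.tabE8_6 @x0 (@Eq.symm.{1} _ _ _ @x7)) (@Cfsg.Agent.KO5f7e57d.k2 @x0 (nat_lit 6))) @(fun x6 => @Eq.rec.{1, 1} ℕ (nat_lit 5) @(fun x7 x8 => ℕ) @Cfsg.Agent.ChevalleyStructure.W0E8.tabE8_5 @x0 (@Eq.symm.{1} _ _ _ @x6)) (@Cfsg.Agent.KO5f7e57d.k2 @x0 (nat_lit 5))) @(fun x5 => @Eq.rec.{1, 1} ℕ (nat_lit 4) @(fun x6 x7 => ℕ) @Cfsg.Agent.ChevalleyStructure.W0E8.tabE8_4 @x0 (@Eq.symm.{1} _ _ _ @x5)) (@Cfsg.Agent.KO5f7e57d.k2 @x0 (nat_lit 4))) @(fun x4 => @Eq.rec.{1, 1} ℕ (nat_lit 3) @(fun x5 x6 => ℕ) @Cfsg.Agent.ChevalleyStructure.W0E8.tabE8_3 @x0 (@Eq.symm.{1} _ _ _ @x4)) (@Cfsg.Agent.KO5f7e57d.k2 @x0 (nat_lit 3))) @(fun x3 => @Eq.rec.{1, 1} ℕ (nat_lit 2) @(fun x4 x5 => ℕ) @Cfsg.Agent.ChevalleyStructure.W0E8.tabE8_2 @x0 (@Eq.symm.{1} _ _ _ @x3)) (@Cfsg.Agent.KO5f7e57d.k2 @x0 (nat_lit 2))) @(fun x2 => @Eq.rec.{1, 1} ℕ (nat_lit 1) @(fun x3 x4 => ℕ) @Cfsg.Agent.ChevalleyStructure.W0E8.tabE8_1 @x0 (@Eq.symm.{1} _ _ _ @x2)) (@Cfsg.Agent.KO5f7e57d.k2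 @x0 (nat_lit 1))) @(fun x1 => @Eq.rec.{1, 1} ℕ (nat_lit 0) @(fun x2 x3 => ℕ) @Cfsg.Agent.ChevalleyStructure.W0E8.tabE8_0 @x0 (@Eq.symm.{1} _ _ _ @x1)) (@Cfsg.Agent.KO5f7e57d.k2 @x0 (nat_lit 0)))) ?_); rewrite [← Cfsg.Agent.KO5f7e57d.e2]; (try delta Cfsg.Agent.ChevalleyStructure.W0E8.tabE8); (try generalize @Cfsg.Agent.ChevalleyStructure.W0E8.tabE8_7 = g0); (try generalize @Cfsg.Agent.ChevalleyStructure.W0E8.tabE8_6 = g1); (try generalize @Cfsg.Agent.ChevalleyStructure.W0E8.tabE8_5 = g2); (try generalize @Cfsg.Agent.ChevalleyStructure.W0E8.tabE8_4 = g3); (try generalize @Cfsg.Agent.ChevalleyStructure.W0E8.tabE8_3 = g4); (try generalize @Cfsg.Agent.ChevalleyStructure.W0E8.tabE8_2 = g5); (try generalize @Cfsg.Agent.ChevalleyStructure.W0E8.tabE8_1 = g6); (try generalize @Cfsg.Agent.ChevalleyStructure.W0E8.tabE8_0 = g7); rfl') | exact @Cfsg.Agent.ChevalleyStructure.W0E8.tabE8 | exact ()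
private theorem _root_.Cfsg.Agent.KO5f7e57d.e34 : (by first | exact @Cfsg.Agent.ChevalleyStructure.W0E8.tabE8 = @_root_.Cfsg.Agent.KO5f7e57d.k34 | exact True : Prop) := by first | (delta _root_.Cfsg.Agent.KO5f7e57d.k34; exact @Subtype.property _ (fun g => @Cfsg.Agent.ChevalleyStructure.W0E8.tabE8 = @g) _) | rfl | trivial

theorem torE8 (p : ℕ) [CharP F p] (hq : 3 ≤ Fintype.card F) : Tor p ↥(chevE8.group F) :=
  tor_one (D := chevE8) (by simp) p hq (l := [0, 1, 2, 3, 4, 5, 6, 7]) (by decide +kernel)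
    (W := wT tabE8 [0, 1, 2, 3, 4, 5, 6, 7]) (wT_eq (by simp) tabE8_ok (by decide +kernel)) (a := 0) (a' := 1)
    (i := 7) (j := 7) (k := 0) (s := 6) (by decide +kernel) (by decide +kernel) (by decide +kernel)
    (by decide +kernel) (by decide +kernel) (by decide +kernel) (by decide +kernel) (by decide +kernel)
    (by decide +kernel) (by decide +kernel) (by decide +kernel) (steps := twoStepsE8) (by (first | (refine of_decide_eq_true ?_; rewrite [Cfsg.Agent.KO5f7e57d.e1, Cfsg.Agent.KO5f7e57d.e3, Cfsg.Agent.KO5f7e57d.e28, Cfsg.Agent.KO5f7e57d.e31, Cfsg.Agent.KO5f7e57d.e34]; decide +kernel) | decide +kernel))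

/-- a unit different from `1` -/
theorem exists_unit (hq : 3 ≤ Fintype.card F) : ∃ c : Fˣ, (c : F) ≠ 1 := by
  by_contra hcon
  push Not at hcon
  have : Nat.card Fˣ = 1 := Nat.card_eq_one_iff_unique.2
    ⟨⟨fun a b => Units.ext (by rw [hcon a, hcon b])⟩, ⟨1⟩⟩
  rw [Nat.card_units, Nat.card_eq_fintype_card] at this
  omega

theorem exists_unit_sq (hq : 4 ≤ Fintype.card F) : ∃ c : Fˣ, (c : F) ^ 2 ≠ 1 := by
  obtain ⟨k, hk⟩ := IsCyclic.exists_generator (α := Fˣ)
  refine ⟨k, fun h => ?_⟩
  have h1 : k ^ 2 = 1 := Units.ext (by rw [Units.val_pow_eq_pow_val, h, Units.val_one])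
  have h2 : orderOf k = Fintype.card F - 1 := by
    rw [orderOf_eq_card_of_forall_mem_zpowers hk, Nat.card_units, Nat.card_eq_fintype_card]
  have h3 := orderOf_dvd_of_pow_eq_one h1
  rw [h2] at h3
  have := Nat.le_of_dvd (by norm_num) h3
  omega

/-- closure steps, type G2 -/
def stepsG2 : List (ℕ × ℕ) := [(6, 6), (1, 1), (0, 0), (5, 5), (9, 9), (8, 8), (4, 4), (2, 2), (3, 3), (10, 10)]

theorem torG2 (p : ℕ) [CharP F p] (hq : 4 ≤ Fintype.card F) : Tor p ↥(chevG2.group F) := by
  obtain ⟨c, hc⟩ := exists_unit (F := F) (by omega)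
  obtain ⟨d, hd⟩ := exists_unit_sq (F := F) hq
  have e1 : chevG2.cartan 1 11 = 1 := by decide +kernel
  have e2 : chevG2.cartan 0 7 = 2 := by decide +kernel
  exact tor_two (D := chevG2) (by simp) p (l := [0, 1]) (by decide +kernel)
    (W := wT tabG2 [0, 1]) (wT_eq (by simp) tabG2_ok (by decide +kernel)) (a := 6) (a' := 11) (b := 9) (b' := 7)
    (i := 1) (i2 := 0) (j := 1) (j2 := 0) (k := 1) (s := 0) (by decide +kernel) (by decide +kernel)
    (by decide +kernel) (by decide +kernel) (by decide +kernel) (by decide +kernel) (by decide +kernel)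
    (by decide +kernel) (by decide +kernel) (by decide +kernel) (by decide +kernel)
    (c := c) (by rw [e1, zpow_one]; exact hc) (by decide +kernel) (by decide +kernel)
    (d := d) (by rw [e2]; exact_mod_cast hd) (by decide +kernel) (by decide +kernel) (by decide +kernel)
    (by decide +kernel) (by decide +kernel) (by decide +kernel) (steps := stepsG2) (by decide +kernel)

/-- closure steps, type F4 -/
def stepsF4 : List (ℕ × ℕ) :=
  [(1, 1), (0, 0), (8, 8), (15, 15), (18, 18), (21, 21), (34, 34), (37, 37), (41, 41), (44, 44), (40, 40), (39, 39),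
  (29, 29), (13, 13), (10, 10), (3, 3), (45, 45), (46, 46), (47, 47), (32, 32), (26, 26), (6, 6), (0, 32), (5, 5),
  (17, 17), (4, 4), (16, 16), (22, 22), (23, 23), (42, 42), (30, 30), (43, 43), (31, 31), (25, 25), (0, 39), (9, 9),
  (19, 19), (11, 11), (33, 33), (27, 27), (35, 35), (38, 38), (28, 28), (36, 36), (14, 14), (20, 20)]

theorem torF4 (p : ℕ) [CharP F p] (hq : 3 ≤ Fintype.card F) : Tor p ↥(chevF4.group F) := by
  obtain ⟨c, hc⟩ := exists_unit (F := F) hq
  have e1 : chevF4.cartan 2 2 = 1 := by decide +kernel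
  have e2 : chevF4.cartan 0 7 = 1 := by decide +kernel
  exact tor_two (D := chevF4) (by simp) p (l := [0, 1, 2, 3]) (by decide +kernel)
    (W := wT tabF4 [0, 1, 2, 3]) (wT_eq (by simp) tabF4_ok (by decide +kernel)) (a := 1) (a' := 2) (b := 8) (b' := 7)
    (i := 2) (i2 := 1) (j := 2) (j2 := 0) (k := 0) (s := 3) (by decide +kernel) (by decide +kernel)
    (by decide +kernel) (by decide +kernel) (by decide +kernel) (by decide +kernel) (by decide +kernel)
    (by decide +kernel) (by decide +kernel) (by decide +kernel) (by decide +kernel)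
    (c := c) (by rw [e1, zpow_one]; exact hc) (by decide +kernel) (by decide +kernel)
    (d := c) (by rw [e2, zpow_one]; exact hc) (by decide +kernel) (by decide +kernel) (by decide +kernel)
    (by decide +kernel) (by decide +kernel) (by decide +kernel) (steps := stepsF4) (by decide +kernel)

/-! ### the field with two elements -/

theorem invGen_of [CharP F 2] {D : ChevalleyDatum} (hD : InList D) (hF : ∀ x : F, x = 0 ∨ x = 1) {l : List ℕ}
    (hl : ∀ i ∈ l, i < D.rank) {W : ℕ → ℕ} (hW : ∀ s < D.nroots, W s = wact D l s) {a : ℕ} (ha : a < D.nroots)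
    {steps : List (ℕ × ℕ)} (hrun : run D W (1 <<< a) steps = 2 ^ D.nroots - 1) : InvGen ↥(D.group F) := by
  refine ⟨⟨xG hD a 1, xG_mem_group hD _ _⟩, ⟨wG hD F l, wG_mem_group hD _⟩, Subtype.ext (sq_root hD),
    fun h => root_ne hD ha one_ne_zero (congrArg Subtype.val h), ?_⟩
  rw [eq_top_iff]
  intro x _
  set! M := (Subgroup.closure ({⟨xG hD a 1, xG_mem_group hD _ _⟩, ⟨wG hD F l, wG_mem_group hD _⟩} :
    Set ↥(D.group F))).map (D.group F).subtype with hM
  have m1 : xG hD a (1 : F) ∈ M := ⟨_, Subgroup.subset_closure (Set.mem_insert _ _), rfl⟩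
  have m2 : wG hD F l ∈ M := ⟨_, Subgroup.subset_closure (Set.mem_insert_of_mem _ rfl), rfl⟩
  have h1 : D.group F ≤ M := by
    refine group_le_of_run (hD := hD) hl hW m2 (S := 1 <<< a) ?_ hrun
    intro k hk
    rw [Nat.one_shiftLeft, Nat.testBit_two_pow] at hk
    have : a = k := by simpa using hk
    exact this ▸ has_of_one hF m1
  obtain ⟨y, hy, e⟩ := h1 x.2
  have : y = x := Subtype.ext e
  rwa [this] at hy

theorem invE6 [CharP F 2] (hF : ∀ x : F, x = 0 ∨ x = 1) : InvGen ↥(chevE6.group F) :=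
  invGen_of (D := chevE6) (by simp) hF (l := [0, 1, 2, 3, 4, 5]) (by decide +kernel)
    (W := wT tabE6 [0, 1, 2, 3, 4, 5]) (wT_eq (by simp) tabE6_ok (by decide +kernel)) (a := 2) (by decide +kernel)
    (steps := twoStepsE6) (by (first | (refine of_decide_eq_true ?_; rewrite [Cfsg.Agent.KO5f7e57d.e1, Cfsg.Agent.KO5f7e57d.e3, Cfsg.Agent.KO5f7e57d.e28, Cfsg.Agent.KO5f7e57d.e31, Cfsg.Agent.KO5f7e57d.e32]; decide +kernel) | decide +kernel))

private noncomputable def _root_.Cfsg.Agent.KO5f7e57d.k33 : (by first | exact type_of% @Cfsg.Agent.ChevalleyStructure.W0E7.tabE7 | exact Unit : Sort _) := by first | (refine @Subtype.val _ (fun g => @Cfsg.Agent.ChevalleyStructure.W0E7.tabE7 = @g) (@Subtype.mk _ _ (@(fun x0 => @Decidable.rec.{1} _ @(fun x1 => ℕ) @(fun x1 => @Decidable.rec.{1} _ @(fun x2 => ℕ) @(fun x2 => @Decidable.rec.{1} _ @(fun x3 => ℕ) @(fun x3 => @Decidable.rec.{1} _ @(fun x4 => ℕ) @(fun x4 => @Decidable.rec.{1} _ @(fun x5 => ℕ) @(fun x5 => @Decidable.rec.{1} _ @(fun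 x6 => ℕ) @(fun x6 => @Decidable.rec.{1} _ @(fun x7 => ℕ) @(fun x7 => nat_lit 0) @(fun x7 => @Eq.rec.{1, 1} ℕ (nat_lit 6) @(fun x8 x9 => ℕ) @Cfsg.Agent.ChevalleyStructure.W0E7.tabE7_6 @x0 (@Eq.symm.{1} _ _ _ @x7)) (@Cfsg.Agent.KO5f7e57d.k2 @x0 (nat_lit 6))) @(fun x6 => @Eq.rec.{1, 1} ℕ (nat_lit 5) @(fun x7 x8 => ℕ) @Cfsg.Agent.ChevalleyStructure.W0E7.tabE7_5 @x0 (@Eq.symm.{1} _ _ _ @x6)) (@Cfsg.Agent.KO5f7e57d.k2 @x0 (nat_lit 5))) @(fun x5 => @Eq.rec.{1, 1} ℕ (nat_lit 4) @(fun x6 x7 => ℕ) @Cfsg.Agent.ChevalleyStructure.W0E7.tabE7_4 @x0 (@Eq.symm.{1} _ _ _ @x5)) (@Cfsg.Agent.KO5f7e57d.k2 @x0 (nat_lit 4))) @(fun x4 => @Eq.rec.{1, 1} ℕ (nat_lit 3) @(fun x5 x6 => ℕ) @Cfsg.Agent.ChevalleyStructure.W0E7.tabE7_3 @x0 (@Eq.symm.{1} _ _ _ @x4)) (@Cfsg.Agent.KO5f7e57d.k2 @x0 (nat_lit 3))) @(fun x3 => @Eq.rec.{1, 1} ℕ (nat_lit 2) @(fun x4 x5 => ℕ) @Cfsg.Agent.ChevalleyStructure.W0E7.tabE7_2 @x0 (@Eq.symm.{1} _ _ _ @x3)) (@Cfsg.Agent.KO5f7e57d.k2 @x0 (nat_lit 2))) @(fun x2 => @Eq.rec.{1,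 1} ℕ (nat_lit 1) @(fun x3 x4 => ℕ) @Cfsg.Agent.ChevalleyStructure.W0E7.tabE7_1 @x0 (@Eq.symm.{1} _ _ _ @x2)) (@Cfsg.Agent.KO5f7e57d.k2 @x0 (nat_lit 1))) @(fun x1 => @Eq.rec.{1, 1} ℕ (nat_lit 0) @(fun x2 x3 => ℕ) @Cfsg.Agent.ChevalleyStructure.W0E7.tabE7_0 @x0 (@Eq.symm.{1} _ _ _ @x1)) (@Cfsg.Agent.KO5f7e57d.k2 @x0 (nat_lit 0)))) ?_); rewrite [← Cfsg.Agent.KO5f7e57d.e2]; (try delta Cfsg.Agent.ChevalleyStructure.W0E7.tabE7); (try generalize @Cfsg.Agent.ChevalleyStructure.W0E7.tabE7_6 = g0); (try generalize @Cfsg.Agent.ChevalleyStructure.W0E7.tabE7_5 = g1); (try generalize @Cfsg.Agent.ChevalleyStructure.W0E7.tabE7_4 = g2); (try generalize @Cfsg.Agent.ChevalleyStructure.W0E7.tabE7_3 = g3); (try generalize @Cfsg.Agent.ChevalleyStructure.W0E7.tabE7_2 = g4); (try generalize @Cfsg.Agent.ChevalleyStructure.W0E7.tabE7_1 = g5); (try generalize @Cfsg.Agent.ChevalleyStructure.W0E7.tabE7_0 = g6); rfl') | exact @Cfsg.Agent.ChevalleyStructure.W0E7.tabE7 | exact ()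
private theorem _root_.Cfsg.Agent.KO5f7e57d.e33 : (by first | exact @Cfsg.Agent.ChevalleyStructure.W0E7.tabE7 = @_root_.Cfsg.Agent.KO5f7e57d.k33 | exact True : Prop) := by first | (delta _root_.Cfsg.Agent.KO5f7e57d.k33; exact @Subtype.property _ (fun g => @Cfsg.Agent.ChevalleyStructure.W0E7.tabE7 = @g) _) | rfl | trivial

theorem invE7 [CharP F 2] (hF : ∀ x : F, x = 0 ∨ x = 1) : InvGen ↥(chevE7.group F) :=
  invGen_of (D := chevE7) (by simp) hF (l := [0, 1, 2, 3, 4, 5, 6]) (by decide +kernel)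
    (W := wT tabE7 [0, 1, 2, 3, 4, 5, 6]) (wT_eq (by simp) tabE7_ok (by decide +kernel)) (a := 3) (by decide +kernel)
    (steps := twoStepsE7) (by (first | (refine of_decide_eq_true ?_; rewrite [Cfsg.Agent.KO5f7e57d.e1, Cfsg.Agent.KO5f7e57d.e3, Cfsg.Agent.KO5f7e57d.e28, Cfsg.Agent.KO5f7e57d.e31, Cfsg.Agent.KO5f7e57d.e33]; decide +kernel) | decide +kernel))

theorem invE8 [CharP F 2] (hF : ∀ x : F, x = 0 ∨ x = 1) : InvGen ↥(chevE8.group F) :=
  invGen_of (D := chevE8) (by simp) hF (l := [0, 1, 2, 3, 4, 5, 6, 7]) (by decide +kernel)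
    (W := wT tabE8 [0, 1, 2, 3, 4, 5, 6, 7]) (wT_eq (by simp) tabE8_ok (by decide +kernel)) (a := 0)
    (by decide +kernel) (steps := twoStepsE8) (by (first | (refine of_decide_eq_true ?_; rewrite [Cfsg.Agent.KO5f7e57d.e1, Cfsg.Agent.KO5f7e57d.e3, Cfsg.Agent.KO5f7e57d.e28, Cfsg.Agent.KO5f7e57d.e31, Cfsg.Agent.KO5f7e57d.e34]; decide +kernel) | decide +kernel))

end Cfsg.Agent.H288.DG.UntwTab
end

-- part: H288/DG/UntwSmall
section
/-!
# TEAM GEN: `F₄(2)` and `G₂(3)` are generated by an involution and another element (helper288, for S4180)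
-/

set_option autoImplicit false
set_option linter.unusedSectionVars false

namespace Cfsg.Agent.H288.DG.UntwSmall

open Cfsg.Lie Cfsg.Agent.ChevalleyStructure.Elts Cfsg.Agent.H135.TwoG Cfsg.Agent.H288.DG Cfsg.Agent.H288.DG.Untw
open Cfsg.Agent.ChevalleyStructure.W0Small (tabG2 tabG2_ok tabF4 tabF4_ok)

universe u

variable {F : Type u} [Field F]

theorem invGen_ambient {X : Type*} [Group X] {S : Subgroup X} {c b : X} (hc : c ∈ S) (hb : b ∈ S) (h2 : c ^ 2 = 1)
    (h1 : c ≠ 1) (h : ∀ M : Subgroup X, c ∈ M → b ∈ M → S ≤ M) : InvGen ↥S := by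
  refine ⟨⟨c, hc⟩, ⟨b, hb⟩, Subtype.ext h2, fun h => h1 (congrArg Subtype.val h), ?_⟩
  rw [eq_top_iff]
  intro x _
  obtain ⟨y, hy, e⟩ := h ((Subgroup.closure ({⟨c, hc⟩, ⟨b, hb⟩} : Set ↥S)).map S.subtype)
    ⟨_, Subgroup.subset_closure (Set.mem_insert _ _), rfl⟩
    ⟨_, Subgroup.subset_closure (Set.mem_insert_of_mem _ rfl), rfl⟩ x.2
  have : y = x := Subtype.ext e
  rwa [this] at hy

/-! ### `F₄(2)` -/

theorem comm_one {G : Type*} [Group G] {a b x y : G} (hax : a * x = x * a) (hay : a * y = y * a)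
    (hbx : b * x = x * b) : (a * b)⁻¹ * (x * y)⁻¹ * (a * b) * (x * y) = b⁻¹ * y⁻¹ * b * y := by
  have h1 : (a * b) * (x * y) = a * x * (b * y) := by
    calc (a * b) * (x * y) = a * (b * x) * y := by group
      _ = a * x * (b * y) := by rw [hbx]; group
  have h2 : (x * y) * (a * b) = a * x * (y * b) := by
    calc (x * y) * (a * b) = x * (y * a) * b := by group
      _ = (x * a) * y * b := by rw [← hay]; group
      _ = a * x * (y * b) := by rw [← hax]; group
  calc (a * b)⁻¹ * (x * y)⁻¹ * (a * b) * (x * y) = ((x * y) * (a * b))⁻¹ * ((a * b) * (x * y)) := by group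
    _ = b⁻¹ * y⁻¹ * b * y := by rw [h1, h2]; group

/-- closure steps, type F4, first part -/
def steps1F4 : List (ℕ × ℕ) :=
  [(7, 7), (8, 8), (18, 18), (34, 34), (37, 37), (44, 44), (40, 40), (39, 39), (29, 29), (13, 13), (10, 10), (3, 37),
  (11, 11), (33, 33), (27, 27), (35, 35), (38, 38), (28, 28), (36, 36), (14, 14), (20, 20), (12, 12), (9, 9)]

/-- closure steps, type F4, second part -/
def steps2F4 : List (ℕ × ℕ) :=
  [(0, 0), (15, 15), (21, 21), (41, 41), (45, 45), (46, 46), (47, 47), (32, 32), (26, 26), (6, 6), (2, 2), (0, 32),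
  (5, 5), (17, 17), (4, 4), (16, 16), (22, 22), (23, 23), (42, 42), (30, 30), (43, 43), (31, 31), (25, 25)]

theorem invF4 [CharP F 2] (hF : ∀ x : F, x = 0 ∨ x = 1) : InvGen ↥(chevF4.group F) := by
  have hD : InList chevF4 := by simp
  have hl : ∀ i ∈ [0, 1, 2, 3], i < chevF4.rank := by decide +kernel
  have hW := wT_eq hD tabF4_ok hl
  have hneg : (-1 : F) = 1 := by
    rcases hF (-1) with h | h
    · exact absurd h (neg_ne_zero.2 one_ne_zero)
    · exact h
  have cm : ∀ {r s : ℕ}, r < 48 → s < 48 → (s ≠ r ∧ s ≠ chevF4.neg r ∧ chevF4.commTerms r s = []) →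
      xG hD s (1 : F) * xG hD r 1 = xG hD r 1 * xG hD s 1 := fun hr hs h =>
    commute_of_terms hD hr hs h.1 h.2.1 h.2.2 1 1
  have cj : ∀ s < 48, wG hD F [0, 1, 2, 3] * xG hD s (1 : F) * (wG hD F [0, 1, 2, 3])⁻¹ =
      xG hD (wT tabF4 [0, 1, 2, 3] s) 1 := by
    intro s hs
    obtain ⟨η, hη, h⟩ := wG_conj (F := F) hD hl hs
    rw [h, hW s hs]
    rcases hη with rfl | rfl
    · rw [one_mul]
    · rw [mul_one, hneg]
  have h09 := cm (r := 0) (s := 9) (by norm_num) (by norm_num) (by decide +kernel)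
  refine invGen_ambient (c := xG hD 0 (1 : F) * xG hD 9 1) (b := wG hD F [0, 1, 2, 3])
    (mul_mem (xG_mem_group hD _ _) (xG_mem_group hD _ _)) (wG_mem_group hD _) ?_ ?_ (fun M hc hw => ?_)
  · rw [(show Commute (xG hD 0 (1 : F)) (xG hD 9 1) from h09.symm).mul_pow, sq_root, sq_root, one_mul]
  · intro h
    have h3 : xG hD 0 (1 : F) = xG hD 9 (-1) := by
      rw [← xG_inv]
      exact eq_inv_of_mul_eq_one_left h
    exact absurd (eq_of_xG hD (by decide +kernel) (by decide +kernel) one_ne_zero h3) (by norm_num)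
  · -- the commutator
    have e0 : wG hD F [0, 1, 2, 3] * (xG hD 0 (1 : F) * xG hD 9 1) * (wG hD F [0, 1, 2, 3])⁻¹ =
        xG hD 15 1 * xG hD 19 1 := by
      have h1 := cj 0 (by norm_num)
      have h2 := cj 9 (by norm_num)
      have w0 : wT tabF4 [0, 1, 2, 3] 0 = 15 := by decide +kernel
      have w9 : wT tabF4 [0, 1, 2, 3] 9 = 19 := by decide +kernel
      rw [w0] at h1
      rw [w9] at h2
      rw [← h1, ← h2]; group
    have hc1 : xG hD 15 (1 : F) * xG hD 19 1 ∈ M := by
      rw [← e0]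
      exact mul_mem (mul_mem hw hc) (inv_mem hw)
    have e1 := comm_one (a := xG hD 0 (1 : F)) (b := xG hD 9 1) (x := xG hD 15 1) (y := xG hD 19 1)
      (cm (r := 0) (s := 15) (by norm_num) (by norm_num) (by decide +kernel)).symm
      (cm (r := 0) (s := 19) (by norm_num) (by norm_num) (by decide +kernel)).symm
      (cm (r := 9) (s := 15) (by norm_num) (by norm_num) (by decide +kernel)).symm
    have e2 : (xG hD 9 (1 : F))⁻¹ * (xG hD 19 1)⁻¹ * xG hD 9 1 * xG hD 19 1 ∈ M := by
      rw [← e1]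
      exact mul_mem (mul_mem (mul_mem (inv_mem hc) (inv_mem hc1)) hc) hc1
    have e3 := comm_word (F := F) hD (r := 9) (s := 19) (by decide +kernel) (by decide +kernel) (by norm_num)
      (by decide +kernel) 1 1
    have e4 : chevF4.commWord F 9 19 1 1 = [(7, 1)] := by
      show (chevF4.commTerms 9 19).map _ = _
      have : chevF4.commTerms 9 19 = [(7, -1, 1, 1)] := by decide +kernel
      rw [this]
      simp only [_root_.one_pow, _root_.mul_one, _root_.Int.reduceNeg, _root_.List.map_cons, _root_.Int.cast_neg, _root_.Int.cast_one, _root_.pow_one, _root_.mul_neg, _root_.neg_neg, _root_.List.map_nil]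
    rw [e4, wordG_cons, wordG_nil, mul_one] at e3
    have e5 : xG hD 7 (1 : F) ∈ M := by
      have e6 : xG hD 7 (1 : F) = ((xG hD 9 (1 : F))⁻¹ * (xG hD 19 1)⁻¹ * xG hD 9 1 * xG hD 19 1)⁻¹ := by
        calc xG hD 7 (1 : F) = (xG hD 9 1 * xG hD 19 1)⁻¹ * (xG hD 9 1 * xG hD 19 1 * xG hD 7 1) := by group
          _ = (xG hD 9 1 * xG hD 19 1)⁻¹ * (xG hD 19 1 * xG hD 9 1) := by rw [← e3]
          _ = _ := by group
      rw [e6]
      exact inv_mem e2
    have hS1 := run_sound (hD := hD) hl hW hw steps1F4 (S := 1 <<< 7) (by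
      intro k hk
      rw [Nat.one_shiftLeft, Nat.testBit_two_pow] at hk
      have : 7 = k := by simpa using hk
      exact this ▸ has_of_one hF e5)
    have h9 : Has hD M 9 := hS1 9 (by decide +kernel)
    have h0 : Has hD M 0 := has_of_one hF (by
      have h3 := M.mul_mem hc (M.inv_mem (h9 1))
      rwa [mul_inv_cancel_right] at h3)
    refine group_le_of_run hl hW hw (S := run chevF4 (wT tabF4 [0, 1, 2, 3]) (1 <<< 7) steps1F4 ||| (1 <<< 0)) ?_
      (steps := steps2F4) (by decide +kernel)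
    intro r hr
    rcases testBit_insert hr with h | rfl
    · exact hS1 r h
    · exact h0

/-! ### `G₂(3)` -/

theorem three_step {G : Type*} [Group G] {M : Subgroup G} {h w x y : G} (hx : x ^ 3 = 1) (hy : y ^ 3 = 1)
    (hxy : x * y = y * x) (h1 : h * x * h⁻¹ = x⁻¹) (h2 : h * y * h⁻¹ = y⁻¹)
    (h3 : (w * h * w⁻¹) * x * (w * h * w⁻¹)⁻¹ = x⁻¹) (h4 : (w * h * w⁻¹) * y * (w * h * w⁻¹)⁻¹ = y)
    (h5 : (w * (w * h * w⁻¹) * w⁻¹) * y * (w * (w * h * w⁻¹) * w⁻¹)⁻¹ = y⁻¹)
    (h6 : h * (w * h * w⁻¹) = (w * h * w⁻¹) * h)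
    (h7 : h * (w * (w * h * w⁻¹) * w⁻¹) = (w * (w * h * w⁻¹) * w⁻¹) * h) (mh : h ∈ M) (mg : x * y * w ∈ M) :
    x ∈ M ∧ y ∈ M ∧ w ∈ M := by
  have key : ∀ z k : G, z ^ 3 = 1 → h * z * h⁻¹ = z⁻¹ → h * k = k * h → k * z * k⁻¹ = z⁻¹ → z * k * z⁻¹ ∈ M →
      z ∈ M ∧ k ∈ M := by
    intro z k hz hzh hk hkz hm
    have e1 : z * k * z⁻¹ = z * z * k := by
      have : k * z⁻¹ = z * k := by
        rw [mul_inv_eq_iff_eq_mul] at hkz
        calc k * z⁻¹ = z * (z⁻¹ * k) * z⁻¹ := by group
          _ = z * (k * z) * z⁻¹ := by rw [hkz]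
          _ = z * k := by group
      rw [mul_assoc, this, ← mul_assoc]
    rw [e1] at hm
    have e2 : h * (z * z * k) * h⁻¹ * (z * z * k)⁻¹ = z⁻¹ * z⁻¹ * z⁻¹ * z⁻¹ := by
      calc h * (z * z * k) * h⁻¹ * (z * z * k)⁻¹ = (h * z * h⁻¹) * (h * z * h⁻¹) * (h * k) * h⁻¹ * k⁻¹ * z⁻¹ * z⁻¹ := by
            group
        _ = z⁻¹ * z⁻¹ * z⁻¹ * z⁻¹ := by rw [hzh, hk]; group
    have e3 : z⁻¹ * z⁻¹ * z⁻¹ * z⁻¹ = z⁻¹ := by
      have : z⁻¹ * z⁻¹ * z⁻¹ = 1 := by
        calc z⁻¹ * z⁻¹ * z⁻¹ = (z ^ 3)⁻¹ := by group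
          _ = 1 := by rw [hz, inv_one]
      rw [this, one_mul]
    have mz : z ∈ M := by
      have h8 := M.mul_mem (M.mul_mem (M.mul_mem mh hm) (M.inv_mem mh)) (M.inv_mem hm)
      rw [e2, e3] at h8
      exact (M.inv_mem_iff).1 h8
    refine ⟨mz, ?_⟩
    have h8 := M.mul_mem (M.mul_mem (M.inv_mem mz) (M.inv_mem mz)) hm
    have e4 : z⁻¹ * z⁻¹ * (z * z * k) = k := by group
    rwa [e4] at h8
  -- step 1
  have s1 : x * (w * h * w⁻¹) * x⁻¹ ∈ M := by
    have h8 := M.mul_mem (M.mul_mem mg mh) (M.inv_mem mg)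
    have e : x * y * w * h * (x * y * w)⁻¹ = x * (w * h * w⁻¹) * x⁻¹ := by
      have e1 : y * (w * h * w⁻¹) * y⁻¹ = w * h * w⁻¹ := by
        rw [mul_inv_eq_iff_eq_mul] at h4 ⊢
        exact h4.symm
      calc x * y * w * h * (x * y * w)⁻¹ = x * (y * (w * h * w⁻¹) * y⁻¹) * x⁻¹ := by group
        _ = _ := by rw [e1]
    rwa [e] at h8
  obtain ⟨mx, mh'⟩ := key x _ hx h1 h6 h3 s1
  have mg2 : y * w ∈ M := by
    have h8 := M.mul_mem (M.inv_mem mx) mg
    have e : x⁻¹ * (x * y * w) = y * w := by group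
    rwa [e] at h8
  have s2 : y * (w * (w * h * w⁻¹) * w⁻¹) * y⁻¹ ∈ M := by
    have h8 := M.mul_mem (M.mul_mem mg2 mh') (M.inv_mem mg2)
    have e : y * w * (w * h * w⁻¹) * (y * w)⁻¹ = y * (w * (w * h * w⁻¹) * w⁻¹) * y⁻¹ := by group
    rwa [e] at h8
  obtain ⟨my, -⟩ := key y _ hy h2 h7 h5 s2
  refine ⟨mx, my, ?_⟩
  have h8 := M.mul_mem (M.inv_mem my) mg2
  rwa [inv_mul_cancel_left] at h8

/-- closure steps, type G2 -/
def steps3G2 : List (ℕ × ℕ) :=
  [(1, 1), (0, 0), (2, 2), (3, 3), (5, 5), (7, 7), (9, 9), (8, 8), (10, 10), (11, 11)]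

/-- conjugating a torus element by the word -/
theorem conj_torus {D : ChevalleyDatum} (hD : InList D) {l : List ℕ} (hl : ∀ i ∈ l, i < D.rank) {s s' : ℕ}
    (hs' : s' < D.nroots) (hss : wact D l s' = s) {k : GL D.Idx F} {ε : F}
    (hk : ∀ t : F, k * xG hD s' t * k⁻¹ = xG hD s' (ε * t)) (t : F) :
    (wG hD F l * k * (wG hD F l)⁻¹) * xG hD s t * (wG hD F l * k * (wG hD F l)⁻¹)⁻¹ = xG hD s (ε * t) := by
  obtain ⟨η, hη, hwc0⟩ := wG_conj (F := F) hD hl hs'
  have hη2 : η * η = 1 := sq_one hη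
  rw [hss] at hwc0
  have hwc' : (wG hD F l)⁻¹ * xG hD s t * wG hD F l = xG hD s' (η * t) := by
    have h := hwc0 (η * t)
    rw [← mul_assoc, hη2, one_mul] at h
    rw [← h]; group
  calc (wG hD F l * k * (wG hD F l)⁻¹) * xG hD s t * (wG hD F l * k * (wG hD F l)⁻¹)⁻¹
      = wG hD F l * (k * ((wG hD F l)⁻¹ * xG hD s t * wG hD F l) * k⁻¹) * (wG hD F l)⁻¹ := by group
    _ = _ := by
      rw [hwc', hk, hwc0]
      congr 1
      calc η * (ε * (η * t)) = (η * η) * (ε * t) := by ring
        _ = _ := by rw [hη2, one_mul]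

theorem invG2 [Fintype F] (hF : Fintype.card F = 3) : InvGen ↥(chevG2.group F) := by
  have hD : InList chevG2 := by simp
  have hl : ∀ i ∈ [0, 1], i < chevG2.rank := by decide +kernel
  have hW := wT_eq hD tabG2_ok hl
  have h3 : (3 : F) = 0 := by
    have := Nat.cast_card_eq_zero F
    rw [hF] at this
    exact_mod_cast this
  have hx3 : ∀ s, (xG hD s (1 : F)) ^ 3 = 1 := by
    intro s
    rw [pow_succ, pow_two, xG_add, xG_add]
    have : (1 : F) + 1 + 1 = 0 := by
      rw [← h3]; norm_num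
    rw [this, xG_zero]
  set! h := hG hD (chevG2.simple 0) (-1 : F) with hh
  set! w := wG hD F [0, 1] with hw
  have hm1 : ((-1 : Fˣ) : F) = -1 := by simp
  have hhd : h ∈ chevG2.diagonalSubgroup F := by
    have := h_mem (F := F) hD (i := 0) (by decide +kernel) (-1)
    rwa [hm1] at this
  have hwN : w ∈ chevG2.monomialSubgroup F := wG_mem_monomial hD hl
  have hc : ∀ s < 12, ∀ t : F, h * xG hD s t * h⁻¹ = xG hD s ((-1) ^ (chevG2.cartan 0 s) * t) := fun s hs t =>
    h_conj hD (by decide +kernel) hs (neg_ne_zero.2 one_ne_zero) t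
  have ho : ∀ s < 12, chevG2.cartan 0 s % 2 ≠ 0 → ∀ t : F, h * xG hD s t * h⁻¹ = xG hD s (-1 * t) := by
    intro s hs ho t
    rw [hc s hs]
    have h6 : Odd (chevG2.cartan 0 s) := Int.odd_iff.2 (by omega)
    rw [h6.neg_one_zpow]
  have he : ∀ s < 12, chevG2.cartan 0 s % 2 = 0 → ∀ t : F, h * xG hD s t * h⁻¹ = xG hD s (1 * t) := by
    intro s hs ho t
    rw [hc s hs]
    have h6 : Even (chevG2.cartan 0 s) := Int.even_iff.2 (by omega)
    rw [h6.neg_one_zpow]
  have wa : ∀ {s' s : ℕ}, s' < 12 → wT tabG2 [0, 1] s' = s → wact chevG2 [0, 1] s' = s := fun h1 h2 => by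
    rw [← hW _ h1]; exact h2
  have i1 : ∀ s, (xG hD s (1 : F))⁻¹ = xG hD s (-1 * 1) := fun s => by rw [xG_inv, mul_one]
  have hd1 := diag_conj (F := F) hD hwN hhd
  have hd2 := diag_conj (F := F) hD hwN hd1
  have h12 := commute_of_terms (F := F) hD (r := 1) (s := 2) (by decide +kernel) (by decide +kernel) (by norm_num)
    (by decide +kernel) (by decide +kernel) 1 1
  refine invGen_ambient (c := h) (b := xG hD 1 (1 : F) * xG hD 2 1 * w) (hG_mem_group hD _ _)
    (mul_mem (mul_mem (xG_mem_group hD _ _) (xG_mem_group hD _ _)) (wG_mem_group hD _)) ?_ ?_ (fun M mh mg => ?_)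
  · rw [hh, ← hm1, hG_eq_hh hD (by decide +kernel), ← map_pow, neg_one_sq, map_one]
  · intro h1
    have h4 := ho 1 (by norm_num) (by decide +kernel) 1
    rw [h1, one_mul, inv_one, mul_one] at h4
    have h5 := xG_injective hD (by decide +kernel) h4
    have h6 : (2 : F) = 0 := by
      rw [← one_add_one_eq_two]
      nth_rewrite 1 [h5]
      ring
    have h7 : (1 : F) = 3 - 2 := by norm_num
    rw [h3, h6, sub_zero] at h7
    exact one_ne_zero h7
  · obtain ⟨mx, my, mw⟩ := three_step (M := M) (h := h) (w := w) (x := xG hD 1 (1 : F)) (y := xG hD 2 1)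
      (hx3 1) (hx3 2) h12.symm
      (by rw [i1]; exact ho 1 (by norm_num) (by decide +kernel) 1)
      (by rw [i1]; exact ho 2 (by norm_num) (by decide +kernel) 1)
      (by rw [i1]; exact conj_torus hD hl (s' := 6) (by decide +kernel) (wa (by norm_num) (by decide +kernel))
            (ho 6 (by norm_num) (by decide +kernel)) 1)
      (by
        have := conj_torus (F := F) hD hl (s := 2) (s' := 4) (by decide +kernel) (wa (by norm_num) (by decide +kernel))
            (he 4 (by norm_num) (by decide +kernel)) 1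
        rwa [one_mul] at this)
      (by
        rw [i1]
        refine conj_torus hD hl (s' := 4) (by decide +kernel) (wa (by norm_num) (by decide +kernel)) ?_ 1
        exact conj_torus hD hl (s' := 8) (by decide +kernel) (wa (by norm_num) (by decide +kernel))
          (ho 8 (by norm_num) (by decide +kernel)))
      (diag_comm hD hhd hd1) (diag_comm hD hhd hd2) mh mg
    have hcases : ∀ t : F, t = 0 ∨ t = 1 ∨ t = -1 := by
      intro t
      classical
      by_contra hcon
      push Not at hcon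
      have h4 : ({0, 1, -1, t} : Finset F).card ≤ 3 := by rw [← hF]; exact Finset.card_le_univ _
      have h5 : (1 : F) ≠ -1 := by
        intro h6
        have h7 : (2 : F) = 0 := by
          rw [← one_add_one_eq_two]
          nth_rewrite 1 [h6]
          ring
        have h8 : (1 : F) = 3 - 2 := by norm_num
        rw [h3, h7, sub_zero] at h8
        exact one_ne_zero h8
      rw [Finset.card_insert_of_notMem, Finset.card_insert_of_notMem, Finset.card_insert_of_notMem,
        Finset.card_singleton] at h4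
      · omega
      · rw [Finset.mem_singleton]; exact fun h => hcon.2.2 h.symm
      · simp only [Finset.mem_insert, Finset.mem_singleton, not_or]
        exact ⟨h5, fun h => hcon.2.1 h.symm⟩
      · simp only [Finset.mem_insert, Finset.mem_singleton, not_or]
        exact ⟨zero_ne_one, (neg_ne_zero.2 one_ne_zero).symm, fun h => hcon.1 h.symm⟩
    have has : ∀ s, xG hD s (1 : F) ∈ M → Has hD M s := by
      intro s hs t
      rcases hcases t with rfl | rfl | rfl
      · rw [xG_zero]; exact M.one_mem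
      · exact hs
      · rw [← xG_inv]; exact M.inv_mem hs
    refine group_le_of_run hl hW mw (S := (1 <<< 1) ||| (1 <<< 2)) ?_ (steps := steps3G2) (by decide +kernel)
    intro r hr
    rcases testBit_insert hr with h | rfl
    · rw [Nat.one_shiftLeft, Nat.testBit_two_pow] at h
      have : 1 = r := by simpa using h
      exact this ▸ has 1 mx
    · exact has 2 my

end Cfsg.Agent.H288.DG.UntwSmall
end

-- part: H288/DG/UntwRow
section
/-!
# TEAM GEN: `CohAt` for `G₂(q)`, `F₄(q)`, `E₆(q)`, `E₇(q)`, `E₈(q)` in the defining characteristic (helper288, for S4180)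
-/

set_option autoImplicit false
set_option linter.unusedSectionVars false

namespace Cfsg.Agent.H288.DG.UntwRow

open Cfsg.Lie Cfsg.Agent.H891.DG Cfsg.Agent.H288.DG Cfsg.Agent.H288.DG.UntwTab Cfsg.Agent.H288.DG.UntwSmall

universe u v

variable {T : Type u} [Group T] [Finite T] [IsSimpleGroup T] {F : Type v} [Field F] [Fintype F]

theorem two_elements (h : Fintype.card F = 2) (p : ℕ) [CharP F p] : (∀ x : F, x = 0 ∨ x = 1) ∧ p = 2 := by
  classical
  have h1 : ∀ x : F, x = 0 ∨ x = 1 := by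
    intro x
    by_contra hcon
    push Not at hcon
    have h4 : ({0, 1, x} : Finset F).card ≤ 2 := by rw [← h]; exact Finset.card_le_univ _
    rw [Finset.card_insert_of_notMem, Finset.card_insert_of_notMem, Finset.card_singleton] at h4
    · omega
    · rw [Finset.mem_singleton]; exact fun h => hcon.2 h.symm
    · simp only [Finset.mem_insert, Finset.mem_singleton, not_or]
      exact ⟨zero_ne_one, fun h => hcon.1 h.symm⟩
  refine ⟨h1, ?_⟩
  have h3 : p ∣ Fintype.card F := (CharP.cast_eq_zero_iff F p _).1 (Nat.cast_card_eq_zero F)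
  rw [h] at h3
  exact (Nat.prime_dvd_prime_iff_eq (CharP.char_is_prime F p) Nat.prime_two).1 h3

/-- **G₂(q)**, `q ≥ 3` -/
theorem cohAt_g2 (hna : ¬ IsMulCommutative T) (e : T ≃* ↥(chevG2.group F)) (hq : 3 ≤ Fintype.card F) (p : ℕ)
    [CharP F p] : CohAt p T := by
  have hp : p.Prime := CharP.char_is_prime F p
  rcases hq.eq_or_lt with h | h
  · exact coh_of_invGen hna ((invG2 h.symm).congr e.symm) p hp
  · exact cohAt_of_tor hp ((torG2 (F := F) p h).congr e.symm)

/-- **F₄(q)** -/
theorem cohAt_f4 (hna : ¬ IsMulCommutative T) (e : T ≃* ↥(chevF4.group F)) (p : ℕ) [CharP F p] : CohAt p T := by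
  have hp : p.Prime := CharP.char_is_prime F p
  have hq : 2 ≤ Fintype.card F := Fintype.one_lt_card
  rcases hq.eq_or_lt with h | h
  · obtain ⟨h1, rfl⟩ := two_elements h.symm p
    exact coh_of_invGen hna ((invF4 h1).congr e.symm) 2 hp
  · exact cohAt_of_tor hp ((torF4 (F := F) p h).congr e.symm)

/-- **E₆(q)** -/
theorem cohAt_e6 (hna : ¬ IsMulCommutative T) (e : T ≃* ↥(chevE6.group F)) (p : ℕ) [CharP F p] : CohAt p T := by
  have hp : p.Prime := CharP.char_is_prime F p
  have hq : 2 ≤ Fintype.card F := Fintype.one_lt_card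
  rcases hq.eq_or_lt with h | h
  · obtain ⟨h1, rfl⟩ := two_elements h.symm p
    exact coh_of_invGen hna ((invE6 h1).congr e.symm) 2 hp
  · exact cohAt_of_tor hp ((torE6 (F := F) p h).congr e.symm)

/-- **E₇(q)** -/
theorem cohAt_e7 (hna : ¬ IsMulCommutative T) (e : T ≃* ↥(chevE7.group F)) (p : ℕ) [CharP F p] : CohAt p T := by
  have hp : p.Prime := CharP.char_is_prime F p
  have hq : 2 ≤ Fintype.card F := Fintype.one_lt_card
  rcases hq.eq_or_lt with h | h
  · obtain ⟨h1, rfl⟩ := two_elements h.symm p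
    exact coh_of_invGen hna ((invE7 h1).congr e.symm) 2 hp
  · exact cohAt_of_tor hp ((torE7 (F := F) p h).congr e.symm)

/-- **E₈(q)** -/
theorem cohAt_e8 (hna : ¬ IsMulCommutative T) (e : T ≃* ↥(chevE8.group F)) (p : ℕ) [CharP F p] : CohAt p T := by
  have hp : p.Prime := CharP.char_is_prime F p
  have hq : 2 ≤ Fintype.card F := Fintype.one_lt_card
  rcases hq.eq_or_lt with h | h
  · obtain ⟨h1, rfl⟩ := two_elements h.symm p
    exact coh_of_invGen hna ((invE8 h1).congr e.symm) 2 hp
  · exact cohAt_of_tor hp ((torE8 (F := F) p h).congr e.symm)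

end Cfsg.Agent.H288.DG.UntwRow
end

-- part: H911/DG/PsuOdd
section
/-!
# TEAM GEN, S4180: `SU` in odd dimension is generated by the diagonal subgroup, a Siegel element and a
Weyl element; a diagonal element commuting with the Siegel element (helper911)
-/

set_option autoImplicit false

namespace Cfsg.Agent.H911.DG

open Cfsg Cfsg.Agent.LieClassical.HermBasic Cfsg.Agent.LieClassical.HermSiegel
  Cfsg.Agent.LieClassical.HermGen Cfsg.Agent.H137.Herm Matrix

variable {F : Type*} [Field F] [Fintype F] {q n : ℕ}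

section Odd

variable {m : ℕ} [NeZero m] [NeZero (2 * m)] (D : Odd' q m F)

/-- Generation in odd dimension. -/
theorem odd_gen (hF : Fintype.card F = q ^ 2) (hm : 2 ≤ m) {μ : F} (hk : IsSiegel q (D.v 0) D.d μ)
    {H : Subgroup (SU (2 * m + 1) F q)} (hT : (Tz D.u : Subgroup (SU (2 * m + 1) F q)) ≤ H)
    (htH : siegel hF (D.v 0) D.d μ hk ∈ H) (hwH : D.w ∈ H) : H = ⊤ := by
  obtain ⟨z, hz0, hz1, hz2⟩ := exists_gen hF
  have hzq : z ^ q ≠ 0 := pow_ne_zero _ hz0
  obtain ⟨S, hS, hSd⟩ := D.exists_S hF hz0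
  have hST : S ∈ (Tz D.u : Subgroup (SU (2 * m + 1) F q)) := by
    rintro (_ | j)
    · exact ⟨_, mul_ne_zero hzq (inv_ne_zero hz0), hSd⟩
    · exact ⟨_, dg_ne hz0 (inv_ne_zero hzq) j, hS j⟩
  have hSH := hT hST
  have hS0 : act S (D.v 0) = z • D.v 0 := by rw [hS 0, dg_self]
  have htau : SM hF H (D.v 0) D.d μ := ⟨hk, htH⟩
  have hone : (1 : ZMod (2 * m)) = ((1 : ℕ) : ZMod (2 * m)) := Nat.cast_one.symm
  have hR : R hF H D.v 0 ((m : ZMod (2 * m)) + 1) := by
    refine D.R_of_tau hm hwH htau hSH hz0 hz1 hS0 ?_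
    rw [hS, dg_other]
    · rw [hone, ← Nat.cast_add, ← Nat.cast_zero, Ne, cast_inj (by omega) (by omega)]
      omega
    · rw [zero_add, hone, ← Nat.cast_add, Ne, cast_inj (by omega) (by omega)]
      omega
  have h10 : (1 : ZMod (2 * m)) ≠ 0 := by
    rw [hone, ← Nat.cast_zero, Ne, cast_inj (by omega) (by omega)]; omega
  have h1m : (1 : ZMod (2 * m)) ≠ 0 + (m : ZMod (2 * m)) := by
    rw [zero_add, hone, Ne, cast_inj (by omega) (by omega)]; omega
  have hR1 : R hF H D.v 0 1 :=
    R.all hm D.std hwH (fun _ => one_ne_zero) D.hw' hR 0 1 h10 h1m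
  refine D.finish hwH ?_ (Or.inr ⟨hm, hR⟩)
  -- all multiples of `d`
  obtain ⟨e, he, B⟩ := D.shift_tau hwH htau 1
  rw [Nat.cast_one] at B
  obtain ⟨kB, hB⟩ := B
  intro b
  set! a := b / e with ha
  have h1 := (hR a).conj hB
  have e1 : act (siegel hF (D.v 1) (e • D.d) μ kB) (D.v 0) = D.v 0 := by
    apply act_siegel_of_orth
    · exact D.std.orth h1m
    · rw [herm_smul_right, D.hvd, mul_zero]
  have hpair : hermForm (2 * m + 1) F q (D.v ((m : ZMod (2 * m)) + 1)) (D.v 1) = 1 := by
    have := D.std.pair' 1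
    rwa [add_comm (1 : ZMod (2 * m)) (m : ZMod (2 * m))] at this
  have e2 : act (siegel hF (D.v 1) (e • D.d) μ kB) (a • D.v ((m : ZMod (2 * m)) + 1)) =
      a • D.v ((m : ZMod (2 * m)) + 1) + b • D.d + (μ * a) • D.v 1 := by
    rw [act_siegel, herm_smul_left, herm_smul_left, hpair, herm_smul_right, D.hvd, smul_smul,
      mul_one, mul_zero, mul_zero, sub_zero, ha, div_mul_cancel₀ _ he]
  rw [e1, e2] at h1
  have h2 : a • D.v ((m : ZMod (2 * m)) + 1) + b • D.d + (μ * a) • D.v 1 ∈
      WS hF H (D.v 0) (D.std.iso 0) := ⟨_, h1⟩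
  have h3 : a • D.v ((m : ZMod (2 * m)) + 1) ∈ WS hF H (D.v 0) (D.std.iso 0) := ⟨_, hR a⟩
  have h4 : (μ * a) • D.v 1 ∈ WS hF H (D.v 0) (D.std.iso 0) := ⟨_, hR1 _⟩
  have h5 := AddSubgroup.sub_mem _ (AddSubgroup.sub_mem _ h2 h4) h3
  have e3 : a • D.v ((m : ZMod (2 * m)) + 1) + b • D.d + (μ * a) • D.v 1 - (μ * a) • D.v 1 -
      a • D.v ((m : ZMod (2 * m)) + 1) = b • D.d := by abel
  rwa [e3] at h5

/-- A noncentral diagonal element commuting with the Siegel element. -/
theorem odd_cent (hF : Fintype.card F = q ^ 2) (hm : 2 ≤ m) {μ : F} (hk : IsSiegel q (D.v 0) D.d μ) :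
    ∃ h : SU (2 * m + 1) F q, h ∈ (Tz D.u : Subgroup (SU (2 * m + 1) F q)) ∧
      h * siegel hF (D.v 0) D.d μ hk = siegel hF (D.v 0) D.d μ hk * h ∧
      h ∉ Subgroup.center (SU (2 * m + 1) F q) := by
  have h2 := two_le hF
  have hv0 : ∀ i, D.v i ≠ 0 := by
    intro i h0
    have := D.std.pair i
    rw [h0, herm_zero_left] at this
    exact zero_ne_one this
  rcases h2.eq_or_lt with hq | hq
  · -- `q = 2`
    obtain ⟨z, hz0, hz1, hz2⟩ := exists_gen hF
    have hz3 : z ^ 3 = 1 := by
      have := FiniteField.pow_card_sub_one_eq_one z hz0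
      rwa [hF, ← hq] at this
    have hzz : z ≠ 1 := by
      have := hz2 1 one_pos (by rw [← hq]; norm_num)
      rwa [pow_one] at this
    have hzq : z ^ q ≠ 0 := pow_ne_zero _ hz0
    have hzq2 : z * z ^ q = 1 := by rw [← hq, ← pow_succ', hz3]
    have hzd : z ^ q * z⁻¹ = z := by
      have : z ^ q = z ^ 2 := by rw [← hq]
      rw [this, pow_two, mul_assoc, mul_inv_cancel₀ hz0, mul_one]
    obtain ⟨S, hS, hSd⟩ := D.exists_S hF hz0
    rw [hzd] at hSd
    refine ⟨S, ?_, ?_, ?_⟩
    · rintro (_ | j)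
      · exact ⟨_, hz0, hSd⟩
      · exact ⟨_, dg_ne hz0 (inv_ne_zero hzq) j, hS j⟩
    · refine comm_of_eig hk (s := z) (t := z) ?_ hSd ?_ ?_ (Or.inl hzq2)
      · rw [hS 0, dg_self]
      · rw [mul_comm]; exact hzq2
      · rw [hzq2, one_mul]
    · refine not_mem_center (x := D.v 0) (y := D.v (0 + 1)) (a := z) (b := 1) (hv0 _) one_ne_zero
        (D.hw' _) ?_ ?_ hzz
      · rw [hS 0, dg_self]
      · rw [hS, zero_add, dg_other]
        · rw [← Nat.cast_one, ← Nat.cast_zero, Ne, cast_inj (by omega) (by omega)]; omega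
        · rw [zero_add, ← Nat.cast_one, Ne, cast_inj (by omega) (by omega)]; omega
  · -- `q ≥ 3`
    obtain ⟨s, hs0, hsq, hs⟩ := exists_sub_ne_one hF hq
    have hex : ∃ S : SU (2 * m + 1) F q, ∀ o : Option (ZMod (2 * m)),
        act S (D.u o) = (o.elim 1 (fun j => dg 1 s s⁻¹ j) : F) •
          D.u ((1 : Equiv.Perm (Option (ZMod (2 * m)))) o) := by
      refine D.W.exists_mono hF (by rw [Fintype.card_option, ZMod.card]) 1 (fun _ => rfl) _ ?_ ?_
      · rintro (_ | j)
        · simp only [Option.elim, sgO, Option.map_none]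
          rw [one_pow, one_mul]
        · simp only [Option.elim, sgO, Option.map_some]
          apply dg_norm
          · rw [inv_pow, hsq, mul_inv_cancel₀ hs0]
          · rw [hsq, inv_mul_cancel₀ hs0]
      · rw [Fintype.prod_option]
        simp only [Option.elim, Equiv.Perm.sign_one, Units.val_one, Int.cast_one, one_mul]
        rw [dg_prod, mul_inv_cancel₀ hs0]
    obtain ⟨S, hS'⟩ := hex
    have hS : ∀ j, act S (D.v j) = dg 1 s s⁻¹ j • D.v j := fun j => hS' (some j)
    have hSd : act S D.d = (1 : F) • D.d := hS' none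
    have hS0 : act S (D.v 0) = (1 : F) • D.v 0 := by
      rw [hS 0, dg_other]
      · rw [← Nat.cast_one, ← Nat.cast_zero, Ne, cast_inj (by omega) (by omega)]; omega
      · rw [← Nat.cast_one, ← Nat.cast_zero, ← Nat.cast_add, Ne, cast_inj (by omega) (by omega)]; omega
    refine ⟨S, ?_, ?_, ?_⟩
    · rintro (_ | j)
      · exact ⟨_, one_ne_zero, hSd⟩
      · exact ⟨_, dg_ne hs0 (inv_ne_zero hs0) j, hS j⟩
    · refine comm_of_eig hk (s := 1) (t := 1) hS0 hSd ?_ ?_ (Or.inl ?_)
      · rw [one_pow, one_mul]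
      · rw [one_pow, one_mul, one_mul]
      · rw [one_pow, one_mul]
    · refine not_mem_center (x := D.v 0) (y := D.v (0 + 1)) (a := 1) (b := s) (hv0 _) one_ne_zero
        (D.hw' _) hS0 ?_ hs.symm
      rw [hS, zero_add, dg_self]

end Odd

end Cfsg.Agent.H911.DG
end

-- part: H911/DG/PsuKlein
section
/-!
# TEAM GEN, S4180: monomial subgroups of `SU`, the case `SU_4(3)` (helper911)
-/

set_option autoImplicit false

namespace Cfsg.Agent.H911.DG

open Cfsg Cfsg.Agent.LieClassical.HermBasic Cfsg.Agent.LieClassical.HermSiegel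
  Cfsg.Agent.LieClassical.HermGen Cfsg.Agent.H137.Herm Matrix

section Mz

variable {F : Type*} [Field F] {q n : ℕ} {ι : Type}

/-- The monomial elements with respect to a frame, with permutation in `V`. -/
def Mz (v : ι → Fin n → F) (V : Subgroup (Equiv.Perm ι)) : Subgroup (SU n F q) where
  carrier := {g | ∃ κ ∈ V, ∀ i, ∃ a : F, a ≠ 0 ∧ act g (v i) = a • v (κ i)}
  one_mem' := ⟨1, V.one_mem, fun i => ⟨1, one_ne_zero, by rw [act_one, one_smul]; rfl⟩⟩
  mul_mem' := by
    rintro g h ⟨κ, hκ, hg⟩ ⟨κ', hκ', hh⟩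
    refine ⟨κ * κ', V.mul_mem hκ hκ', fun i => ?_⟩
    obtain ⟨b, hb, hb'⟩ := hh i
    obtain ⟨a, ha, ha'⟩ := hg (κ' i)
    exact ⟨b * a, mul_ne_zero hb ha, by rw [act_mul, hb', act_smul, ha', smul_smul]; rfl⟩
  inv_mem' := by
    rintro g ⟨κ, hκ, hg⟩
    refine ⟨κ⁻¹, V.inv_mem hκ, fun i => ?_⟩
    obtain ⟨a, ha, ha'⟩ := hg (κ⁻¹ i)
    rw [show κ (κ⁻¹ i) = i from κ.apply_symm_apply i] at ha'
    exact ⟨a⁻¹, inv_ne_zero ha, act_inv_of ha ha'⟩

theorem Tz_le_Mz (v : ι → Fin n → F) (V : Subgroup (Equiv.Perm ι)) :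
    (Tz v : Subgroup (SU n F q)) ≤ Mz v V := fun _ hg => ⟨1, V.one_mem, hg⟩

theorem Mz_conj' {v : ι → Fin n → F} {V : Subgroup (Equiv.Perm ι)} {w : SU n F q} {γ : ι → F}
    (π : Equiv.Perm ι) (hV : ∀ κ ∈ V, π⁻¹ * κ * π ∈ V) (hγ : ∀ i, γ i ≠ 0)
    (hw : ∀ i, act w (v i) = γ i • v (π i)) :
    ∀ h ∈ (Mz v V : Subgroup (SU n F q)), w⁻¹ * h * w ∈ (Mz v V : Subgroup (SU n F q)) := by
  rintro h ⟨κ, hκ, hh⟩
  refine ⟨π⁻¹ * κ * π, hV κ hκ, fun i => ?_⟩
  obtain ⟨a, ha, ha'⟩ := hh (π i)
  set! j := π⁻¹ (κ (π i)) with hj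
  have hj' : π j = κ (π i) := π.apply_symm_apply _
  refine ⟨γ i * a * (γ j)⁻¹, mul_ne_zero (mul_ne_zero (hγ i) ha) (inv_ne_zero (hγ j)), ?_⟩
  have h1 := act_inv_of (hγ j) (hw j)
  rw [hj'] at h1
  rw [act_mul, act_mul, hw, act_smul, ha', act_smul, act_smul, h1, smul_smul, smul_smul]
  rfl

end Mz

section Cop

variable {F : Type*} [Field F] [Fintype F] {q n : ℕ} {ι : Type} [DecidableEq ι] [Fintype ι]
  {σ : ι → ι} {v : ι → Fin n → F}

omit [Fintype F] [Fintype ι] in
theorem witt_ne_zero (W : Witt q σ v) (i : ι) : v i ≠ 0 := by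
  intro h0
  have h2 := W.gram i (σ i)
  rw [if_pos rfl, h0, herm_zero_left] at h2
  exact zero_ne_one h2

omit [Fintype F] in
theorem witt_idx_eq (W : Witt q σ v) {i j : ι} {a b : F} (ha : a ≠ 0) (h : a • v i = b • v j) : i = j := by
  by_contra hij
  have h1 := W.linInd
  have h2 := (linearIndependent_iff'.1 h1) {i, j} (fun k => if k = i then a else -b) (by
    rw [Finset.sum_pair hij, if_pos rfl, if_neg (Ne.symm hij), h, neg_smul, add_neg_cancel]) i (by simp)
  rw [if_pos rfl] at h2
  exact ha h2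

theorem Mz_coprime (W : Witt q σ v) (hc : Fintype.card ι = n) {p : ℕ} (hp : p.Prime) [CharP F p]
    {V : Subgroup (Equiv.Perm ι)} (hV : ∀ κ ∈ V, κ ^ p = 1 → κ = 1) :
    ¬ p ∣ Nat.card (Mz v V : Subgroup (SU n F q)) := by
  intro h
  have : Fact p.Prime := ⟨hp⟩
  obtain ⟨g, hg⟩ := exists_prime_orderOf_dvd_card' p h
  have hgp : (g : SU n F q) ^ p = 1 := by
    have := pow_orderOf_eq_one g
    rw [hg] at this
    exact_mod_cast congrArg Subtype.val this
  obtain ⟨κ, hκ, hgκ⟩ := g.2
  have h1 : ∀ (k : ℕ) (i : ι), ∃ a : F, a ≠ 0 ∧ act ((g : SU n F q) ^ k) (v i) = a • v ((κ ^ k) i) := by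
    intro k
    induction k with
    | zero => exact fun i => ⟨1, one_ne_zero, by rw [pow_zero, pow_zero, act_one, one_smul]; rfl⟩
    | succ k ih =>
      intro i
      obtain ⟨a, ha, ha'⟩ := ih i
      obtain ⟨b, hb, hb'⟩ := hgκ ((κ ^ k) i)
      refine ⟨a * b, mul_ne_zero ha hb, ?_⟩
      rw [pow_succ', act_mul, ha', act_smul, hb', smul_smul, pow_succ']
      rfl
  have h2 : κ ^ p = 1 := by
    ext i
    obtain ⟨a, ha, ha'⟩ := h1 p i
    rw [hgp, act_one] at ha'
    have h3 := witt_idx_eq W (i := i) (a := 1) (b := a) one_ne_zero (by rw [one_smul]; exact ha')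
    rw [← h3]
    rfl
  have h3 := hV κ hκ h2
  have h4 : (g : SU n F q) ∈ (Tz v : Subgroup (SU n F q)) := by
    intro i
    obtain ⟨a, ha, ha'⟩ := hgκ i
    refine ⟨a, ha, ?_⟩
    rw [ha', h3]
    rfl
  have h5 : g = 1 := Subtype.ext (eq_one_of_Tz W hc hp h4 hgp)
  rw [h5, orderOf_one] at hg
  exact hp.one_lt.ne hg

end Cop

/-! ### The dihedral group of permutations -/

section Dih

variable {m : ℕ}

/-- The permutations `i ↦ i + 2 c` and `i ↦ 2 c + 1 - i`. -/
def Dih (m : ℕ) : Subgroup (Equiv.Perm (ZMod (2 * m))) where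
  carrier := {κ | ∃ c : ZMod (2 * m), (∀ i, κ i = i + 2 * c) ∨ (∀ i, κ i = 2 * c + 1 - i)}
  one_mem' := ⟨0, Or.inl fun i => by rw [mul_zero, add_zero]; rfl⟩
  mul_mem' := by
    rintro κ κ' ⟨c, h | h⟩ ⟨d, h' | h'⟩
    · exact ⟨c + d, Or.inl fun i => by rw [Equiv.Perm.mul_apply, h', h]; ring⟩
    · exact ⟨c + d, Or.inr fun i => by rw [Equiv.Perm.mul_apply, h', h]; ring⟩
    · exact ⟨c - d, Or.inr fun i => by rw [Equiv.Perm.mul_apply, h', h]; ring⟩
    · exact ⟨c - d, Or.inl fun i => by rw [Equiv.Perm.mul_apply, h', h]; ring⟩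
  inv_mem' := by
    rintro κ ⟨c, h | h⟩
    · exact ⟨-c, Or.inl fun i => by rw [Equiv.Perm.inv_eq_iff_eq, h]; ring⟩
    · exact ⟨c, Or.inr fun i => by rw [Equiv.Perm.inv_eq_iff_eq, h]; ring⟩

theorem Dih_conj (κ : Equiv.Perm (ZMod (2 * m))) (hκ : κ ∈ Dih m) :
    (Equiv.addRight (1 : ZMod (2 * m)))⁻¹ * κ * Equiv.addRight (1 : ZMod (2 * m)) ∈ Dih m := by
  obtain ⟨c, h | h⟩ := hκ
  · refine ⟨c, Or.inl fun i => ?_⟩
    rw [Equiv.Perm.mul_apply, Equiv.Perm.mul_apply, Equiv.Perm.inv_eq_iff_eq, h, Equiv.coe_addRight]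
    ring
  · refine ⟨c - 1, Or.inr fun i => ?_⟩
    rw [Equiv.Perm.mul_apply, Equiv.Perm.mul_apply, Equiv.Perm.inv_eq_iff_eq, h, Equiv.coe_addRight]
    ring

theorem Dih_sq {κ : Equiv.Perm (ZMod (2 * 2))} (hκ : κ ∈ Dih 2) : κ * κ = 1 := by
  have h4 : (4 : ZMod (2 * 2)) = 0 := by decide
  obtain ⟨c, h | h⟩ := hκ
  · ext i
    rw [Equiv.Perm.mul_apply, h, h, Equiv.Perm.one_apply]
    linear_combination c * h4
  · ext i
    rw [Equiv.Perm.mul_apply, h, h, Equiv.Perm.one_apply]
    ring

theorem Dih_cube {κ : Equiv.Perm (ZMod (2 * 2))} (hκ : κ ∈ Dih 2) (h : κ ^ 3 = 1) : κ = 1 := by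
  have h1 := Dih_sq hκ
  calc κ = (κ * κ) * κ := by rw [h1, one_mul]
    _ = κ ^ 3 := by rw [pow_succ, pow_two]
    _ = 1 := h

end Dih

/-! ### The case `SU_4(3)` -/

section Four

variable {F : Type*} [Field F] [Fintype F]

theorem four_cent (hF : Fintype.card F = 3 ^ 2) {v : ZMod (2 * 2) → Fin (2 * 2) → F}
    (W : Witt 3 (fun j => j + ((2 : ℕ) : ZMod (2 * 2))) v) {γ : ZMod (2 * 2) → F} (hγ0 : ∀ j, γ j ≠ 0)
    {w : SU (2 * 2) F 3} (hw : ∀ j, act w (v j) = γ j • v (j + 1))
    (hk : IsSiegel 3 (v 0) (v (((2 : ℕ) : ZMod (2 * 2)) + 1)) (0 : F)) :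
    ∃ h : SU (2 * 2) F 3, h ∈ (Mz v (Dih 2) : Subgroup (SU (2 * 2) F 3)) ∧
      h * siegel hF (v 0) (v (((2 : ℕ) : ZMod (2 * 2)) + 1)) 0 hk =
        siegel hF (v 0) (v (((2 : ℕ) : ZMod (2 * 2)) + 1)) 0 hk * h ∧
      h ∉ Subgroup.center (SU (2 * 2) F 3) := by
  have h3 : ((2 : ℕ) : ZMod (2 * 2)) + 1 = 3 := by decide
  set! γ' : ZMod (2 * 2) → F := fun i => if i = 0 ∨ i = 2 then 1 else -1 with hγ'
  obtain ⟨g, hg⟩ : ∃ g : SU (2 * 2) F 3, ∀ i, act g (v i) = γ' i • v (Equiv.subLeft (3 : ZMod (2 * 2)) i) := by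
    refine W.exists_mono hF (ZMod.card _) (Equiv.subLeft (3 : ZMod (2 * 2))) ?_ γ' ?_ ?_
    · decide
    · intro i
      have h4 : ∀ i : ZMod (2 * 2), (i = 0 ∨ i = 2) ↔ (i + ((2 : ℕ) : ZMod (2 * 2)) = 0 ∨
          i + ((2 : ℕ) : ZMod (2 * 2)) = 2) := by decide
      simp only [hγ']
      by_cases h5 : i = 0 ∨ i = 2
      · rw [if_pos h5, if_pos ((h4 i).1 h5), one_pow, one_mul]
      · rw [if_neg h5, if_neg (fun h => h5 ((h4 i).2 h))]
        ring
    · have h4 : Equiv.Perm.sign (Equiv.subLeft (3 : ZMod (2 * 2))) = 1 := by decide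
      rw [h4]
      have h5 : (Finset.univ : Finset (ZMod (2 * 2))) = {0, 1, 2, 3} := by decide
      rw [h5, Finset.prod_insert (by decide), Finset.prod_insert (by decide),
        Finset.prod_insert (by decide), Finset.prod_singleton]
      simp only [hγ']
      rw [if_pos (by decide), if_neg (by decide), if_pos (by decide), if_neg (by decide)]
      simp
  have hg0 : act g (v 0) = v 3 := by
    rw [hg, show γ' 0 = 1 from if_pos (by decide), one_smul]
    rfl
  have hg3 : act g (v 3) = -v 0 := by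
    rw [hg, show γ' 3 = -1 from if_neg (by decide), neg_smul, one_smul]
    rfl
  have hv : Std 3 v := W.gram
  have hγ'0 : ∀ i, γ' i ≠ 0 := by
    intro i
    simp only [hγ']
    split_ifs
    · exact one_ne_zero
    · exact neg_ne_zero.2 one_ne_zero
  refine ⟨g, ⟨Equiv.subLeft 3, ⟨1, Or.inr fun i => ?_⟩, fun i => ⟨γ' i, hγ'0 i, hg i⟩⟩, ?_, ?_⟩
  · rw [Equiv.subLeft_apply]
    norm_num
  · rw [← mul_inv_eq_iff_eq_mul, conj_siegel]
    apply ext_act
    intro x
    rw [act_siegel, act_siegel]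
    rw [h3, hg0, hg3, herm_neg_right hF]
    funext i
    simp only [Pi.add_apply, Pi.smul_apply, smul_eq_mul, Pi.neg_apply]
    ring
  · intro hc
    have h4 := congrArg (fun t => act t (v 0)) (Subgroup.mem_center_iff.1 hc w)
    simp only [act_mul, hg0, hw, act_smul, zero_add] at h4
    rw [hg, smul_smul] at h4
    have h5 := witt_idx_eq W (hγ0 3) h4
    exact absurd h5 (by decide)

end Four

end Cfsg.Agent.H911.DG
end

-- part: H911/DG/PsuTwo
section
/-!
# TEAM GEN, S4180: transvections of `SU_n(2)`; the groups `SU_4(2)` and `SU_6(2)` (helper911)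
-/

set_option autoImplicit false

namespace Cfsg.Agent.H911.DG

open Cfsg Cfsg.Agent.LieClassical.HermBasic Cfsg.Agent.LieClassical.HermSiegel
  Cfsg.Agent.LieClassical.HermGen Cfsg.Agent.H137.Herm Matrix

variable {F : Type*} [Field F] [Fintype F] {n : ℕ}

theorem two_eq_zero (hF : Fintype.card F = 2 ^ 2) : (2 : F) = 0 := by
  have h : ((Fintype.card F : ℕ) : F) = 0 := FiniteField.cast_card_eq_zero F
  rw [hF] at h
  push_cast at h
  have h' : (2 : F) * 2 = 0 := by linear_combination h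
  exact mul_self_eq_zero.1 h'

theorem cube_eq_one (hF : Fintype.card F = 2 ^ 2) {x : F} (hx : x ≠ 0) : x ^ 3 = 1 := by
  have := FiniteField.pow_card_sub_one_eq_one x hx
  rwa [hF] at this

/-- A primitive cube root of one. -/
theorem exists_omega (hF : Fintype.card F = 2 ^ 2) : ∃ z : F, z ≠ 0 ∧ z ≠ 1 ∧ z ^ 2 + z + 1 = 0 := by
  obtain ⟨z, hz0, hz1, hz2⟩ := exists_gen hF
  have hzz : z ≠ 1 := by
    have := hz2 1 one_pos (by norm_num)
    rwa [pow_one] at this
  refine ⟨z, hz0, hzz, ?_⟩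
  have h1 : (z - 1) * (z ^ 2 + z + 1) = 0 := by linear_combination cube_eq_one hF hz0
  rcases mul_eq_zero.1 h1 with h | h
  · exact absurd (sub_eq_zero.1 h) hzz
  · exact h

/-- The standard basis. -/
def eb (i : Fin n) : Fin n → F := Pi.single i 1

theorem herm_eb {q : ℕ} (hF : Fintype.card F = q ^ 2) (i j : Fin n) :
    hermForm n F q (eb i) (eb j) = if j = i then 1 else 0 := by
  rw [eb, eb, herm_single_right hF, Pi.single_apply, one_pow, mul_one]

theorem witt_eb {q : ℕ} (hF : Fintype.card F = q ^ 2) :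
    Witt q (fun i : Fin n => i) (eb : Fin n → Fin n → F) :=
  ⟨fun _ => rfl, fun i j => herm_eb hF i j⟩

theorem herm_eb_right {q : ℕ} (hF : Fintype.card F = q ^ 2) (x : Fin n → F) (i : Fin n) :
    hermForm n F q x (eb i) = x i := by
  rw [eb, herm_single_right hF, one_pow, mul_one]

/-- The transvection with vector `x` is in `H`. -/
def TV (hF : Fintype.card F = 2 ^ 2) (H : Subgroup (SU n F 2)) (x : Fin n → F) : Prop :=
  SM hF H x 0 1

variable {hF : Fintype.card F = 2 ^ 2} {H : Subgroup (SU n F 2)} {x y u : Fin n → F}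

theorem TV.conj (h : TV hF H x) {g : SU n F 2} (hg : g ∈ H) : TV hF H (act g x) :=
  (SM.conj h hg).congr rfl (act_zero g) rfl

theorem TV.smul {c : F} (h : TV hF H (c • x)) (hc : c ≠ 0) : TV hF H x :=
  (SM.smul h hc).congr rfl (smul_zero _) (by rw [mul_one, ← pow_succ', cube_eq_one hF hc])

theorem TV.iso (h : TV hF H x) : hermForm n F 2 x x = 0 := h.1.iso

theorem TV.move (h : TV hF H x) (h' : TV hF H y) : TV hF H (y + hermForm n F 2 y x • x) := by
  obtain ⟨k, hk⟩ := h
  have h1 := TV.conj h' hk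
  have h2 : act (siegel hF x 0 1 k) y = y + hermForm n F 2 y x • x := by
    rw [act_siegel, herm_zero_right hF, smul_zero, add_zero, sub_zero, one_mul]
  rwa [h2] at h1

/-- Three transvections give a Siegel element. -/
theorem TV.toSM (h : TV hF H u) (h' : TV hF H x) (h'' : TV hF H (u + x))
    (hux : hermForm n F 2 u x = 0) : SM hF H u x 0 := by
  have hu := h.iso
  have hx := h'.iso
  have hxu : hermForm n F 2 x u = 0 := herm_eq_zero_swap hF hux
  obtain ⟨k, hk⟩ := h
  obtain ⟨k', hk'⟩ := h'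
  obtain ⟨k'', hk''⟩ := h''
  have h2 := two_eq_zero hF
  have hs : IsSiegel 2 u x (0 : F) := ⟨hu, hxu, by rw [hx]; norm_num⟩
  have e : siegel hF u 0 1 k * siegel hF x 0 1 k' * siegel hF (u + x) 0 1 k'' = siegel hF u x 0 hs := by
    apply ext_act
    intro y
    simp only [act_mul, act_siegel, herm_zero_right hF, herm_add_left, herm_add_right hF, herm_smul_left,
      hu, hx, hux, hxu, smul_zero, add_zero, sub_zero, one_mul, mul_zero]
    funext i
    simp only [Pi.add_apply, Pi.smul_apply, smul_eq_mul]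
    ring_nf
    linear_combination (hermForm n F 2 y u * u i + hermForm n F 2 y x * x i + hermForm n F 2 y x * u i) * h2
  refine ⟨hs, ?_⟩
  rw [← e]
  exact H.mul_mem (H.mul_mem hk hk') hk''

/-- All transvections with vectors of weight two and four suffice. -/
theorem eq_top_of_TV (hn : 4 ≤ n)
    (h2 : ∀ i j : Fin n, i ≠ j → ∀ a b : F, a ≠ 0 → b ≠ 0 → TV hF H (a • eb i + b • eb j))
    (h4 : ∀ i j k l : Fin n, i ≠ j → i ≠ k → i ≠ l → j ≠ k → j ≠ l → k ≠ l → ∀ a b c d : F, a ≠ 0 →
      b ≠ 0 → c ≠ 0 → d ≠ 0 → TV hF H (a • eb i + b • eb j + c • eb k + d • eb l)) : H = ⊤ := by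
  have h20 := two_eq_zero hF
  obtain ⟨z, hz0, hz1, hz⟩ := exists_omega hF
  have hz1' : z + 1 ≠ 0 := by
    intro h
    apply hz1
    linear_combination h - h20
  have W := witt_eb (n := n) hF
  -- the full Siegel group of a weight two vector
  have hfull : ∀ i j : Fin n, i ≠ j → ∀ c : F, c ≠ 0 → Full hF H ((1 : F) • eb i + c • eb j) := by
    intro i j hij c hc
    set u : Fin n → F := (1 : F) • eb i + c • eb j with hu
    have hTu := h2 i j hij 1 c one_ne_zero hc
    have huu : hermForm n F 2 u u = 0 := hTu.iso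
    have hui : u i = 1 := by
      rw [hu]; simp [eb, hij]
    have huj : u j = c := by
      rw [hu]; simp [eb, hij.symm]
    have hu0 : u ≠ 0 := by
      intro h
      rw [h] at hui
      exact zero_ne_one hui
    refine full_of_WS (by omega) huu hu0 ?_
    have hpair : ∀ k l : Fin n, i ≠ k → i ≠ l → j ≠ k → j ≠ l → k ≠ l → ∀ a b : F, a ≠ 0 → b ≠ 0 →
        a • eb k + b • eb l ∈ WS hF H u huu := by
      intro k l hik hil hjk hjl hkl a b ha hb
      refine ⟨0, TV.toSM hTu (h2 k l hkl a b ha hb) ?_ ?_⟩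
      · have := h4 i j k l hij hik hil hjk hjl hkl 1 c a b one_ne_zero hc ha hb
        rwa [add_assoc] at this
      · simp only [hu, herm_add_left, herm_add_right hF, herm_smul_left, herm_smul_right, herm_eb hF,
          if_neg hik.symm, if_neg hil.symm, if_neg hjk.symm, if_neg hjl.symm]
        ring
    have hone : ∀ k : Fin n, i ≠ k → j ≠ k → ∀ a : F, a • eb k ∈ WS hF H u huu := by
      intro k hik hjk a
      by_cases ha : a = 0
      · rw [ha, zero_smul]; exact AddSubgroup.zero_mem _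
      · obtain ⟨l, hl⟩ : ∃ l : Fin n, l ∉ ({i, j, k} : Finset (Fin n)) := by
          by_contra hne
          push Not at hne
          have h5 : (Finset.univ : Finset (Fin n)) ⊆ {i, j, k} := fun x _ => hne x
          have h6 := Finset.card_le_card h5
          have h7 : ({i, j, k} : Finset (Fin n)).card ≤ 3 := Finset.card_le_three
          rw [Finset.card_univ, Fintype.card_fin] at h6
          omega
        simp only [Finset.mem_insert, Finset.mem_singleton, not_or] at hl
        obtain ⟨hli, hlj, hlk⟩ := hl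
        have h5 := hpair k l hik (Ne.symm hli) hjk (Ne.symm hlj) (Ne.symm hlk) (z * a) 1 (mul_ne_zero hz0 ha)
          one_ne_zero
        have h6 := hpair k l hik (Ne.symm hli) hjk (Ne.symm hlj) (Ne.symm hlk) ((z + 1) * a) 1
          (mul_ne_zero hz1' ha) one_ne_zero
        have h7 := AddSubgroup.add_mem _ h5 h6
        have h8 : (z * a) • eb k + (1 : F) • eb l + (((z + 1) * a) • eb k + (1 : F) • eb l) =
            (a • eb k : Fin n → F) := by
          funext t
          simp only [Pi.add_apply, Pi.smul_apply, smul_eq_mul]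
          linear_combination (z * a * (eb k : Fin n → F) t + (eb l : Fin n → F) t) * h20
        rwa [h8] at h7
    intro y hy
    -- reduce modulo `u`
    have hy' : y i + y j * c ^ 2 = 0 := by
      have h5 : hermForm n F 2 y u = y i + y j * c ^ 2 := by
        rw [hu, herm_add_right hF, herm_smul_right, herm_smul_right, herm_eb_right hF, herm_eb_right hF]
        ring
      rw [← h5]; exact hy
    set! y' : Fin n → F := y - y i • u with hy'd
    have hy'i : y' i = 0 := by
      rw [hy'd, Pi.sub_apply, Pi.smul_apply, hui, smul_eq_mul, mul_one, sub_self]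
    have hy'j : y' j = 0 := by
      rw [hy'd, Pi.sub_apply, Pi.smul_apply, huj, smul_eq_mul]
      linear_combination (-c) * hy' + y j * cube_eq_one hF hc + y j * h20
    have h5 : y = y' + y i • u := by rw [hy'd, sub_add_cancel]
    rw [h5]
    refine AddSubgroup.add_mem _ ?_ (mem_WS_self _ _)
    rw [W.expand (by rw [Fintype.card_fin]) y']
    refine AddSubgroup.sum_mem _ fun t _ => ?_
    rw [herm_eb_right hF]
    by_cases ht : t = i
    · rw [ht, hy'i, zero_smul]; exact AddSubgroup.zero_mem _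
    · by_cases ht' : t = j
      · rw [ht', hy'j, zero_smul]; exact AddSubgroup.zero_mem _
      · exact hone t (Ne.symm ht) (Ne.symm ht') _
  let i : Fin n := ⟨0, by omega⟩
  let j : Fin n := ⟨1, by omega⟩
  have hij : i ≠ j := by simp [i, j]
  have f1 := hfull i j hij 1 one_ne_zero
  have f2 := hfull i j hij z hz0
  refine eq_top_of_full (by omega) (h2 i j hij 1 1 one_ne_zero one_ne_zero).iso
    (h2 i j hij 1 z one_ne_zero hz0).iso ?_ f1 f2
  simp only [herm_add_left, herm_add_right hF, herm_smul_left, herm_smul_right, herm_eb hF,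
    if_neg hij, if_neg hij.symm, if_true]
  intro h
  apply hz0
  linear_combination (-1 : F) * h + hz

/-- From weight four to weight two. -/
theorem TV_pair {i j k l : Fin n} (hij : i ≠ j) (hik : i ≠ k) (hil : i ≠ l) (hjk : j ≠ k) (hjl : j ≠ l)
    (hkl : k ≠ l) (h4 : ∀ a b c d : F, a ≠ 0 →
      b ≠ 0 → c ≠ 0 → d ≠ 0 → TV hF H (a • eb i + b • eb j + c • eb k + d • eb l)) {a b : F}
    (ha : a ≠ 0) (hb : b ≠ 0) : TV hF H (a • eb i + b • eb j) := by
  have h20 := two_eq_zero hF
  obtain ⟨z, hz0, hz1, hz⟩ := exists_omega hF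
  have hz2 : z ^ 2 ≠ 0 := pow_ne_zero _ hz0
  have hz3 := cube_eq_one hF hz0
  have h1 := h4 (z * a) (z ^ 2 * b) 1 1 (mul_ne_zero hz0 ha) (mul_ne_zero hz2 hb) one_ne_zero one_ne_zero
  have h2 := h4 (z ^ 2 * a) (z * b) 1 1 (mul_ne_zero hz2 ha) (mul_ne_zero hz0 hb) one_ne_zero one_ne_zero
  have h3 := TV.move h1 h2
  have e1 : hermForm n F 2 ((z ^ 2 * a) • eb i + (z * b) • eb j + (1 : F) • eb k + (1 : F) • eb l)
      ((z * a) • eb i + (z ^ 2 * b) • eb j + (1 : F) • eb k + (1 : F) • eb l) = 1 := by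
    simp only [herm_add_left, herm_add_right hF, herm_smul_left, herm_smul_right, herm_eb hF,
      if_neg hij, if_neg hij.symm, if_neg hik, if_neg hik.symm, if_neg hil, if_neg hil.symm,
      if_neg hjk, if_neg hjk.symm, if_neg hjl, if_neg hjl.symm, if_neg hkl, if_neg hkl.symm, if_true]
    have ha3 := cube_eq_one hF ha
    have hb3 := cube_eq_one hF hb
    linear_combination (z ^ 4) * ha3 + (z ^ 5) * hb3 + (z + z ^ 2) * hz3 + hz
  refine SM.congr h3 ?_ rfl rfl
  rw [e1]
  funext t
  simp only [Pi.add_apply, Pi.smul_apply, smul_eq_mul]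
  linear_combination (a * (eb i : Fin n → F) t + b * (eb j : Fin n → F) t) * hz +
    ((eb k : Fin n → F) t + (eb l : Fin n → F) t - a * (eb i : Fin n → F) t - b * (eb j : Fin n → F) t) * h20

/-- Diagonal elements. -/
theorem exists_diag (hF : Fintype.card F = 2 ^ 2) (a : Fin n → F) (ha : ∀ i, a i ≠ 0) (h : ∏ i, a i = 1) :
    ∃ g ∈ (Tz (eb : Fin n → Fin n → F) : Subgroup (SU n F 2)), ∀ i, act g (eb i) = a i • eb i := by
  obtain ⟨g, hg⟩ := (witt_eb (n := n) hF).exists_mono hF (Fintype.card_fin n) 1 (fun _ => rfl) a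
    (fun i => by rw [← pow_succ', cube_eq_one hF (ha i)])
    (by rw [h, Equiv.Perm.sign_one]; simp)
  exact ⟨g, fun i => ⟨a i, ha i, hg i⟩, hg⟩

end Cfsg.Agent.H911.DG
end

-- part: H911/DG/PsuTwoB
section
/-!
# TEAM GEN, S4180: generation of `SU_4(2)` and `SU_6(2)` (helper911)
-/

set_option autoImplicit false

namespace Cfsg.Agent.H911.DG

open Cfsg Cfsg.Agent.LieClassical.HermBasic Cfsg.Agent.LieClassical.HermSiegel
  Cfsg.Agent.LieClassical.HermGen Cfsg.Agent.H137.Herm Matrix

variable {F : Type*} [Field F] [Fintype F]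

theorem fin4_mem {i j k l t : Fin 4} (hij : i ≠ j) (hik : i ≠ k) (hil : i ≠ l) (hjk : j ≠ k) (hjl : j ≠ l)
    (hkl : k ≠ l) : t = i ∨ t = j ∨ t = k ∨ t = l := by
  omega

/-- `SU_4(2)` is generated by the diagonal group and a transvection. -/
theorem four_two_gen (hF : Fintype.card F = 2 ^ 2) {H : Subgroup (SU 4 F 2)}
    (hD : (Tz (eb : Fin 4 → Fin 4 → F) : Subgroup (SU 4 F 2)) ≤ H)
    (hT : TV hF H (∑ i, eb i : Fin 4 → F)) : H = ⊤ := by
  have key : ∀ x : Fin 4 → F, (∀ t, x t ≠ 0) → TV hF H x := by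
    intro x hx
    set! P := ∏ t, x t with hP
    have hP0 : P ≠ 0 := Finset.prod_ne_zero_iff.2 fun t _ => hx t
    have hl : P⁻¹ ≠ 0 := inv_ne_zero hP0
    obtain ⟨g, hg, hg'⟩ := exists_diag hF (fun t => P⁻¹ * x t) (fun t => mul_ne_zero hl (hx t)) (by
      rw [Finset.prod_mul_distrib, Finset.prod_const, Finset.card_univ, Fintype.card_fin, ← hP]
      have h3 := cube_eq_one hF hl
      calc P⁻¹ ^ 4 * P = P⁻¹ ^ 3 * (P⁻¹ * P) := by ring
        _ = 1 := by rw [h3, inv_mul_cancel₀ hP0, one_mul])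
    have h1 := hT.conj (hD hg)
    rw [act_sum] at h1
    refine TV.smul (c := P⁻¹) (SM.congr h1 ?_ rfl rfl) hl
    funext t
    rw [Finset.sum_apply, Finset.sum_eq_single t]
    · rw [hg']; simp [eb]
    · intro s _ hs
      rw [hg']; simp [eb, hs.symm]
    · intro h; exact absurd (Finset.mem_univ t) h
  have h4 : ∀ i j k l : Fin 4, i ≠ j → i ≠ k → i ≠ l → j ≠ k → j ≠ l → k ≠ l → ∀ a b c d : F, a ≠ 0 →
      b ≠ 0 → c ≠ 0 → d ≠ 0 → TV hF H (a • eb i + b • eb j + c • eb k + d • eb l) := by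
    intro i j k l hij hik hil hjk hjl hkl a b c d ha hb hc hd
    apply key
    intro t
    rcases fin4_mem (t := t) hij hik hil hjk hjl hkl with h | h | h | h
    · rw [h]; simpa [eb, hij, hik, hil] using ha
    · rw [h]; simpa [eb, hij.symm, hjk, hjl] using hb
    · rw [h]; simpa [eb, hik.symm, hjk.symm, hkl] using hc
    · rw [h]; simpa [eb, hil.symm, hjl.symm, hkl.symm] using hd
  refine eq_top_of_TV le_rfl ?_ h4
  intro i j hij a b ha hb
  obtain ⟨k, l, hik, hil, hjk, hjl, hkl⟩ : ∃ k l : Fin 4, i ≠ k ∧ i ≠ l ∧ j ≠ k ∧ j ≠ l ∧ k ≠ l := by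
    revert i j
    decide +kernel
  exact TV_pair hij hik hil hjk hjl hkl (h4 i j k l hij hik hil hjk hjl hkl) ha hb

/-- The permutations realised in `H`. -/
def PP {n q : ℕ} (H : Subgroup (SU n F q)) : Subgroup (Equiv.Perm (Fin n)) where
  carrier := {π | ∃ g ∈ H, ∀ i, act g (eb i) = eb (π i)}
  one_mem' := ⟨1, H.one_mem, fun i => act_one _⟩
  mul_mem' := by
    rintro π π' ⟨g, hg, hg'⟩ ⟨h, hh, hh'⟩
    exact ⟨g * h, H.mul_mem hg hh, fun i => by rw [act_mul, hh', hg']; rfl⟩
  inv_mem' := by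
    rintro π ⟨g, hg, hg'⟩
    refine ⟨g⁻¹, H.inv_mem hg, fun i => ?_⟩
    have h1 := hg' (π⁻¹ i)
    rw [show π (π⁻¹ i) = i from π.apply_symm_apply i] at h1
    rw [← h1, act_inv_act]

/-- `SU_6(2)` is generated by the diagonal group, a permutation and a transvection. -/
theorem six_two_gen (hF : Fintype.card F = 2 ^ 2) {H : Subgroup (SU 6 F 2)}
    (hD : (Tz (eb : Fin 6 → Fin 6 → F) : Subgroup (SU 6 F 2)) ≤ H) {w : SU 6 F 2} (hwH : w ∈ H)
    (hw : ∀ i, act w (eb i) = eb (finRotate 6 i))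
    (hT : TV hF H (eb 0 + eb 1 + eb 2 + eb 3 : Fin 6 → F)) : H = ⊤ := by
  have h20 := two_eq_zero hF
  have c1 : ∀ a b c d : F, a ≠ 0 → b ≠ 0 → c ≠ 0 → d ≠ 0 →
      TV hF H (a • eb 0 + b • eb 1 + c • eb 2 + d • eb 3 : Fin 6 → F) := by
    intro a b c d ha hb hc hd
    have habcd : a * b * c * d ≠ 0 := mul_ne_zero (mul_ne_zero (mul_ne_zero ha hb) hc) hd
    obtain ⟨g, hg, hg'⟩ := exists_diag hF (![a, b, c, d, (a * b * c * d)⁻¹, 1] : Fin 6 → F) (by
      intro i
      fin_cases i
      · exact ha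
      · exact hb
      · exact hc
      · exact hd
      · exact inv_ne_zero habcd
      · exact one_ne_zero) (by
      rw [Fin.prod_univ_six]
      show a * b * c * d * (a * b * c * d)⁻¹ * 1 = 1
      rw [mul_one, mul_inv_cancel₀ habcd])
    have h1 := hT.conj (hD hg)
    rw [act_add, act_add, act_add, hg', hg', hg', hg'] at h1
    exact h1
  have c2 : TV hF H ((1 : F) • eb 0 + (1 : F) • eb 1 : Fin 6 → F) :=
    TV_pair (k := 2) (l := 3) (by decide) (by decide) (by decide) (by decide) (by decide) (by decide) c1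
      one_ne_zero one_ne_zero
  have hP : PP H = ⊤ := by
    rw [eq_top_iff, ← Equiv.Perm.closure_cycle_adjacent_swap (σ := finRotate 6) isCycle_finRotate
      support_finRotate 0, Subgroup.closure_le]
    rintro π (rfl | hπ)
    · exact ⟨w, hwH, hw⟩
    · rw [Set.mem_singleton_iff] at hπ
      obtain ⟨k, hk⟩ := c2
      refine ⟨_, hk, fun i => ?_⟩
      have h01 : finRotate 6 0 = 1 := by decide
      rw [hπ, h01, act_siegel, herm_zero_right hF, smul_zero, add_zero, sub_zero, one_mul,
        herm_add_right hF, herm_smul_right, herm_smul_right, herm_eb_right hF, herm_eb_right hF]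
      by_cases hi0 : i = 0
      · subst hi0
        rw [Equiv.swap_apply_left]
        funext t
        have e0 : (eb 0 : Fin 6 → F) 0 = 1 := by simp [eb]
        have e1 : (eb 0 : Fin 6 → F) 1 = 0 := by simp [eb]
        simp only [Pi.add_apply, Pi.smul_apply, smul_eq_mul, e0, e1]
        linear_combination (eb 0 : Fin 6 → F) t * h20
      · by_cases hi1 : i = 1
        · subst hi1
          rw [Equiv.swap_apply_right]
          funext t
          have e0 : (eb 1 : Fin 6 → F) 0 = 0 := by simp [eb]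
          have e1 : (eb 1 : Fin 6 → F) 1 = 1 := by simp [eb]
          simp only [Pi.add_apply, Pi.smul_apply, smul_eq_mul, e0, e1]
          linear_combination (eb 1 : Fin 6 → F) t * h20
        · rw [Equiv.swap_apply_of_ne_of_ne hi0 hi1]
          have e0 : (eb i : Fin 6 → F) 0 = 0 := by simp [eb, Ne.symm hi0]
          have e1 : (eb i : Fin 6 → F) 1 = 0 := by simp [eb, Ne.symm hi1]
          rw [e0, e1]
          simp
  have h4 : ∀ i j k l : Fin 6, i ≠ j → i ≠ k → i ≠ l → j ≠ k → j ≠ l → k ≠ l → ∀ a b c d : F, a ≠ 0 →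
      b ≠ 0 → c ≠ 0 → d ≠ 0 → TV hF H (a • eb i + b • eb j + c • eb k + d • eb l) := by
    intro i j k l hij hik hil hjk hjl hkl a b c d ha hb hc hd
    obtain ⟨π, hπ⟩ := Equiv.Perm.exists_extending_pair (![0, 1, 2, 3] : Fin 4 → Fin 6) ![i, j, k, l]
      (by decide) (by
        intro x y hxy
        fin_cases x <;> fin_cases y <;> simp_all only [_root_.finRotate_apply, _root_.Fin.isValue, _root_.ne_eq, _root_.one_smul, _root_.Nat.succ_eq_add_one, _root_.Nat.reduceAdd, _root_.Fin.zero_eta, _root_.Matrix.cons_val_zero, _root_.Fin.mk_one, _root_.Matrix.cons_val_one, _root_.Fin.reduceFinMk, _root_.Matrix.cons_val, _root_.one_ne_zero, _root_.not_true_eq_false, _root_.Fin.reduceEq, _root_.not_false_eq_true])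
    have hπP : π ∈ PP H := hP ▸ Subgroup.mem_top π
    obtain ⟨g, hg, hg'⟩ := hπP
    have h1 := (c1 a b c d ha hb hc hd).conj hg
    rw [act_add, act_add, act_add, act_smul, act_smul, act_smul, act_smul, hg', hg', hg', hg'] at h1
    have e0 : π 0 = i := hπ 0
    have e1 : π 1 = j := hπ 1
    have e2 : π 2 = k := hπ 2
    have e3 : π 3 = l := hπ 3
    rw [e0, e1, e2, e3] at h1
    exact h1
  refine eq_top_of_TV (by norm_num) ?_ h4
  intro i j hij a b ha hb
  obtain ⟨k, l, hik, hil, hjk, hjl, hkl⟩ : ∃ k l : Fin 6, i ≠ k ∧ i ≠ l ∧ j ≠ k ∧ j ≠ l ∧ k ≠ l := by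
    revert i j
    decide +kernel
  exact TV_pair hij hik hil hjk hjl hkl (h4 i j k l hij hik hil hjk hjl hkl) ha hb

end Cfsg.Agent.H911.DG
end

-- part: H911/DG/PsuCoh
section
/-!
# TEAM GEN, S4180, K9c: derivations of `PSU_n(q)`, `n ≥ 4`, in the defining characteristic (helper911)
-/

set_option autoImplicit false

namespace Cfsg.Agent.H911.DG

open Cfsg Cfsg.Agent.LieClassical.HermBasic Cfsg.Agent.LieClassical.HermSiegel
  Cfsg.Agent.LieClassical.HermGen Cfsg.Agent.H137.Herm Cfsg.Agent.H891.DG Cfsg.Agent.H891.DG.Tools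

universe u

section Transfer

variable {G : Type*} [Group G] {T : Type u} [Group T] [Finite T] [IsSimpleGroup T] {p : ℕ}

/-- The torus lemma for a quotient. -/
theorem cohAt_map_torus (hp : p.Prime) (f : G →* T) (hf : Function.Surjective f) {H : Subgroup G}
    (hH : ¬ p ∣ Nat.card H) {n t h : G} (hn : ∀ x ∈ H, n⁻¹ * x * n ∈ H) (hh : h ∈ H)
    (hht : h * t = t * h) (hh1 : f h ≠ 1) (hg : H ⊔ Subgroup.closure {t, n} = ⊤) : CohAt p T := by
  refine cohAt_of_torus hp (H := H.map f) (H₁ := Subgroup.zpowers (f h)) (n := f n) (u := f t) ?_ ?_ ?_ ?_ ?_ ?_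
  · intro h1
    exact hH (h1.trans (Subgroup.card_map_dvd H f))
  · rintro _ ⟨x, hx, rfl⟩
    exact ⟨n⁻¹ * x * n, hn x hx, by rw [map_mul, map_mul, map_inv]⟩
  · rw [Subgroup.zpowers_le]
    exact ⟨h, hh, rfl⟩
  · rw [Ne, Subgroup.zpowers_eq_bot]
    exact hh1
  · rintro _ ⟨k, rfl⟩
    have h1 : Commute (f h) (f t) := by
      show f h * f t = f t * f h
      rw [← map_mul, hht, map_mul]
    exact h1.zpow_left k
  · have h1 := congrArg (Subgroup.map f) hg
    rw [Subgroup.map_sup, MonoidHom.map_closure, Set.image_pair, ← MonoidHom.range_eq_map,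
      MonoidHom.range_eq_top.2 hf] at h1
    exact h1

/-- A group of order prime to `p` and an involution, for a quotient. -/
theorem cohAt_map_inv (hp : p.Prime) (f : G →* T) (hf : Function.Surjective f) {H : Subgroup G}
    (hH : ¬ p ∣ Nat.card H) {c h : G} (hc : c ^ 2 = 1) (hc1 : f c ≠ 1) (hh : h ^ 3 = 1) (hh1 : f h ≠ 1)
    (hg : H ⊔ Subgroup.closure {c} = ⊤) : CohAt p T := by
  refine cohAt_of_coprime_involution hp ?_ (A := H.map f) (c := f c) ?_ ?_ hc1 ?_
  · intro hcomm
    have : IsMulCommutative T := hcomm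
    let _ : CommGroup T := { (inferInstance : Group T) with mul_comm := fun a b => hcomm.is_comm.comm a b }
    have h1 : (Nat.card T).Prime := IsSimpleGroup.prime_card
    have h2 : orderOf (f c) = 2 := orderOf_eq_prime (by rw [← map_pow, hc, map_one]) hc1
    have h3 : orderOf (f h) = 3 := orderOf_eq_prime (by rw [← map_pow, hh, map_one]) hh1
    have h4 : 2 ∣ Nat.card T := h2 ▸ orderOf_dvd_natCard _
    have h5 : 3 ∣ Nat.card T := h3 ▸ orderOf_dvd_natCard _
    rw [Nat.prime_dvd_prime_iff_eq Nat.prime_two h1] at h4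
    rw [← h4] at h5
    norm_num at h5
  · intro h1
    exact hH (h1.trans (Subgroup.card_map_dvd H f))
  · rw [← map_pow, hc, map_one]
  · have h1 := congrArg (Subgroup.map f) hg
    rw [Subgroup.map_sup, MonoidHom.map_closure, Set.image_singleton, ← MonoidHom.range_eq_map,
      MonoidHom.range_eq_top.2 hf] at h1
    exact h1

end Transfer

section Main

variable {T : Type u} [Group T] [Finite T] [IsSimpleGroup T] {F : Type} [Field F] [Fintype F] {n q : ℕ}

theorem even_coh (hF : Fintype.card F = q ^ 2) {m : ℕ} (hm : 2 ≤ m)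
    (hq : 4 ≤ q ∨ (3 ≤ m ∧ 3 ≤ q) ∨ (4 ≤ m ∧ q = 2)) {p : ℕ} (hp : p.Prime) [CharP F p]
    (f : SU (2 * m) F q →* T) (hf : Function.Surjective f)
    (hker : ∀ x, f x = 1 → x ∈ Subgroup.center (SU (2 * m) F q)) : CohAt p T := by
  have : NeZero m := ⟨by omega⟩
  have : NeZero (2 * m) := ⟨by omega⟩
  obtain ⟨v, W⟩ := exists_witt_even (q := q) hF m
  obtain ⟨γ, hγ0, w, hw⟩ := exists_weyl hF W
  have hk := isSiegel_even hF hm W
  obtain ⟨h, hh, hht, hhc⟩ := even_cent hF hm hq W hγ0 hw hk
  refine cohAt_map_torus hp f hf (Tz_coprime W (ZMod.card _) hp) (n := w)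
    (Tz_conj' (Equiv.addRight 1) hγ0 hw) hh hht (fun h1 => hhc (hker _ h1)) ?_
  refine even_gen hF hm W hγ0 hw hk le_sup_left ?_ ?_
  · exact Subgroup.mem_sup_right (Subgroup.subset_closure (by simp))
  · exact Subgroup.mem_sup_right (Subgroup.subset_closure (by simp))

theorem odd_coh (hF : Fintype.card F = q ^ 2) {m : ℕ} (hm : 2 ≤ m) {p : ℕ} (hp : p.Prime) [CharP F p]
    (f : SU (2 * m + 1) F q →* T) (hf : Function.Surjective f)
    (hker : ∀ x, f x = 1 → x ∈ Subgroup.center (SU (2 * m + 1) F q)) : CohAt p T := by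
  have : NeZero m := ⟨by omega⟩
  have : NeZero (2 * m) := ⟨by omega⟩
  obtain ⟨D⟩ := exists_odd (q := q) hF m
  obtain ⟨μ, hk⟩ := D.exists_tau hF
  obtain ⟨h, hh, hht, hhc⟩ := odd_cent D hF hm hk
  have hw : ∀ o : Option (ZMod (2 * m)), act D.w (D.u o) =
      (o.elim D.e (fun _ => 1) : F) • D.u (Equiv.optionCongr (Equiv.addRight (1 : ZMod (2 * m))) o) := by
    rintro (_ | j)
    · exact D.hwd
    · exact D.hw j
  refine cohAt_map_torus hp f hf (Tz_coprime D.W (by rw [Fintype.card_option, ZMod.card]) hp) (n := D.w)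
    (Tz_conj' _ ?_ hw) hh hht (fun h1 => hhc (hker _ h1)) ?_
  · rintro (_ | j)
    · exact D.he
    · exact one_ne_zero
  refine odd_gen D hF hm hk le_sup_left ?_ ?_
  · exact Subgroup.mem_sup_right (Subgroup.subset_closure (by simp))
  · exact Subgroup.mem_sup_right (Subgroup.subset_closure (by simp))

theorem four_three_coh (hF : Fintype.card F = 3 ^ 2) {p : ℕ} (hp : p.Prime) [CharP F p] (hp3 : p = 3)
    (f : SU (2 * 2) F 3 →* T) (hf : Function.Surjective f)
    (hker : ∀ x, f x = 1 → x ∈ Subgroup.center (SU (2 * 2) F 3)) : CohAt p T := by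
  obtain ⟨v, W⟩ := exists_witt_even (q := 3) hF 2
  obtain ⟨γ, hγ0, w, hw⟩ := exists_weyl hF W
  have hk := isSiegel_even hF le_rfl W
  obtain ⟨h, hh, hht, hhc⟩ := four_cent hF W hγ0 hw hk
  refine cohAt_map_torus hp f hf (Mz_coprime W (ZMod.card _) hp (V := Dih 2) ?_) (n := w)
    (Mz_conj' (Equiv.addRight 1) (fun κ hκ => Dih_conj κ hκ) hγ0 hw) hh hht (fun h1 => hhc (hker _ h1)) ?_
  · intro κ hκ h1
    rw [hp3] at h1
    exact Dih_cube hκ h1
  refine even_gen hF le_rfl W hγ0 hw hk ((Tz_le_Mz v (Dih 2)).trans le_sup_left) ?_ ?_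
  · exact Subgroup.mem_sup_right (Subgroup.subset_closure (by simp))
  · exact Subgroup.mem_sup_right (Subgroup.subset_closure (by simp))

theorem four_two_coh (hF : Fintype.card F = 2 ^ 2) {p : ℕ} (hp : p.Prime) [CharP F p]
    (f : SU 4 F 2 →* T) (hf : Function.Surjective f)
    (hker : ∀ x, f x = 1 → x ∈ Subgroup.center (SU 4 F 2)) : CohAt p T := by
  have h20 := two_eq_zero hF
  obtain ⟨z, hz0, hz1, hz⟩ := exists_omega hF
  have hz3 := cube_eq_one hF hz0
  have W := witt_eb (n := 4) hF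
  set! v : Fin 4 → F := ∑ i, eb i with hv
  have hvt : ∀ t, v t = 1 := by
    intro t
    rw [hv, Finset.sum_apply, Finset.sum_eq_single t]
    · simp [eb]
    · intro s _ hs; simp [eb, hs.symm]
    · intro h; exact absurd (Finset.mem_univ t) h
  have hk : IsSiegel 2 v 0 (1 : F) := by
    refine ⟨?_, herm_zero_left _, ?_⟩
    · rw [herm_def, Fin.sum_univ_four]
      simp only [hvt]
      linear_combination 2 * h20
    · rw [herm_zero_left]
      linear_combination h20
  have hc : (siegel hF v 0 1 hk) ^ 2 = 1 := by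
    rw [pow_two]
    apply ext_act
    intro y
    rw [act_mul, act_siegel, act_siegel, act_one, herm_zero_right hF, herm_zero_right hF, smul_zero, smul_zero]
    simp only [herm_add_left, herm_smul_left, hk.iso]
    funext t
    simp only [Pi.add_apply, Pi.smul_apply, smul_eq_mul, Pi.zero_apply, herm_zero_left]
    linear_combination (hermForm 4 F 2 y v * v t) * h20
  obtain ⟨h, hh, hh'⟩ := exists_diag hF (![1, 1, z, z ^ 2] : Fin 4 → F) (by
    intro i
    fin_cases i
    · exact one_ne_zero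
    · exact one_ne_zero
    · exact hz0
    · exact pow_ne_zero _ hz0) (by
    rw [Fin.prod_univ_four]
    show 1 * 1 * z * z ^ 2 = 1
    linear_combination hz3)
  have hh3 : h ^ 3 = 1 := by
    apply W.ext (Fintype.card_fin 4)
    intro i
    have h1 : (![1, 1, z, z ^ 2] : Fin 4 → F) i ≠ 0 := by
      fin_cases i
      · exact one_ne_zero
      · exact one_ne_zero
      · exact hz0
      · exact pow_ne_zero _ hz0
    rw [act_pow_eig (hh' i), cube_eq_one hF h1, one_smul, act_one]
  have hne : h * siegel hF v 0 1 hk ≠ siegel hF v 0 1 hk * h := by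
    intro h1
    have h2 := congrFun (congrArg (fun t => act t (eb 0)) h1) 2
    simp only [act_mul] at h2
    have e1 : act (siegel hF v 0 1 hk) (eb 0) = eb 0 + v := by
      rw [act_siegel, herm_zero_right hF, smul_zero, herm_def, Fin.sum_univ_four]
      simp [hvt, eb]
    have e2 : act h (eb 0) = eb 0 := by
      rw [hh']
      exact one_smul F _
    rw [e2, e1, act_add, e2] at h2
    have e3 : (eb 0 + v : Fin 4 → F) 2 = 1 := by
      rw [Pi.add_apply, hvt]
      simp [eb]
    have e4 : (eb 0 + act h v : Fin 4 → F) 2 = z := by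
      rw [hv, act_sum, Fin.sum_univ_four, hh', hh', hh', hh']
      simp [eb]
    rw [e3, e4] at h2
    exact hz1 h2
  refine cohAt_map_inv hp f hf (Tz_coprime W (Fintype.card_fin 4) hp) hc ?_ hh3 ?_ ?_
  · intro h1
    exact hne ((Subgroup.mem_center_iff.1 (hker _ h1) h))
  · intro h1
    exact hne ((Subgroup.mem_center_iff.1 (hker _ h1) _).symm)
  · refine four_two_gen hF le_sup_left ⟨hk, ?_⟩
    exact Subgroup.mem_sup_right (Subgroup.subset_closure (Set.mem_singleton _))

theorem six_two_coh (hF : Fintype.card F = 2 ^ 2) {p : ℕ} (hp : p.Prime) [CharP F p]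
    (f : SU 6 F 2 →* T) (hf : Function.Surjective f)
    (hker : ∀ x, f x = 1 → x ∈ Subgroup.center (SU 6 F 2)) : CohAt p T := by
  have h20 := two_eq_zero hF
  obtain ⟨z, hz0, hz1, hz⟩ := exists_omega hF
  have hz3 := cube_eq_one hF hz0
  have W := witt_eb (n := 6) hF
  set! v : Fin 6 → F := eb 0 + eb 1 + eb 2 + eb 3 with hv
  have hk : IsSiegel 2 v 0 (1 : F) := by
    refine ⟨?_, herm_zero_left _, ?_⟩
    · have e0 : v 0 = 1 := by simp [hv, eb]
      have e1 : v 1 = 1 := by simp [hv, eb]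
      have e2 : v 2 = 1 := by simp [hv, eb]
      have e3 : v 3 = 1 := by simp [hv, eb]
      have e4 : v 4 = 0 := by simp [hv, eb]
      have e5 : v 5 = 0 := by simp [hv, eb]
      rw [herm_def, Fin.sum_univ_six, e0, e1, e2, e3, e4, e5]
      linear_combination 2 * h20
    · rw [herm_zero_left]
      linear_combination h20
  obtain ⟨w, hw⟩ := W.exists_mono hF (Fintype.card_fin 6) (finRotate 6) (fun _ => rfl) (fun _ => (1 : F))
    (fun _ => by rw [one_pow, one_mul]) (by
      rw [Finset.prod_const_one, mul_one]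
      rcases Int.units_eq_one_or (Equiv.Perm.sign (finRotate 6)) with h | h
      · rw [h]; simp
      · rw [h]
        push_cast
        linear_combination (-1 : F) * h20)
  obtain ⟨h, hh, hh'⟩ := exists_diag hF (![1, 1, 1, 1, z, z ^ 2] : Fin 6 → F) (by
    intro i
    fin_cases i
    · exact one_ne_zero
    · exact one_ne_zero
    · exact one_ne_zero
    · exact one_ne_zero
    · exact hz0
    · exact pow_ne_zero _ hz0) (by
    rw [Fin.prod_univ_six]
    show 1 * 1 * 1 * 1 * z * z ^ 2 = 1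
    linear_combination hz3)
  have hhv : act h v = (1 : F) • v := by
    rw [hv, act_add, act_add, act_add, hh', hh', hh', hh']
    simp
  have hhc : h ∉ Subgroup.center (SU 6 F 2) := by
    refine not_mem_center (w := w) (x := eb 3) (y := eb 4) (a := 1) (b := z) (g := 1) ?_ one_ne_zero ?_ ?_ ?_ hz1.symm
    · exact witt_ne_zero W 4
    · exact hw 3
    · exact hh' 3
    · exact hh' 4
  refine cohAt_map_torus hp f hf (Tz_coprime W (Fintype.card_fin 6) hp) (n := w) (h := h)
    (t := siegel hF v 0 1 hk)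
    (Tz_conj' (finRotate 6) (fun _ => one_ne_zero) hw) hh ?_ (fun h1 => hhc (hker _ h1)) ?_
  · refine comm_of_eig hk (s := 1) (t := 1) hhv (by rw [act_zero, smul_zero]) ?_ ?_ (Or.inl ?_)
    · norm_num
    · norm_num
    · norm_num
  · refine six_two_gen hF le_sup_left (w := w) ?_ (fun i => by rw [hw, one_smul]) ⟨hk, ?_⟩
    · exact Subgroup.mem_sup_right (Subgroup.subset_closure (by simp))
    · exact Subgroup.mem_sup_right (Subgroup.subset_closure (Set.mem_insert _ _))

/-- K9c. -/
theorem cohAt_psu (hn : 4 ≤ n) (hF : Fintype.card F = q ^ 2) {p : ℕ} (hp : p.Prime) [CharP F p]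
    (e : T ≃* PSU n F q) : CohAt p T := by
  set! f : SU n F q →* T := ((e.symm : PSU n F q →* T).comp (QuotientGroup.mk' (Subgroup.center (SU n F q))) :) with hfd
  have hf : Function.Surjective f := e.symm.surjective.comp (QuotientGroup.mk'_surjective _)
  have hker : ∀ x, f x = 1 → x ∈ Subgroup.center (SU n F q) := by
    intro x hx
    have h1 : e.symm (QuotientGroup.mk' (Subgroup.center (SU n F q)) x) = 1 := hx
    rw [MulEquiv.map_eq_one_iff] at h1
    exact (QuotientGroup.eq_one_iff x).1 h1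
  clear_value f
  have h2 := two_le hF
  rcases Nat.even_or_odd' n with ⟨m, h | h⟩
  · subst h
    by_cases hq : 4 ≤ q ∨ (3 ≤ m ∧ 3 ≤ q) ∨ (4 ≤ m ∧ q = 2)
    · exact even_coh hF (by omega) hq hp f hf hker
    · have h3 : (m = 2 ∧ q = 3) ∨ (m = 2 ∧ q = 2) ∨ (m = 3 ∧ q = 2) := by (clear * - h2 hn hq; solve | lia | omega)
      rcases h3 with ⟨rfl, rfl⟩ | ⟨rfl, rfl⟩ | ⟨rfl, rfl⟩
      · have hp3 : p = 3 := by
          have h4 : ((Fintype.card F : ℕ) : F) = 0 := FiniteField.cast_card_eq_zero F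
          have h5 : p ∣ 3 ^ 2 := by
            rw [← hF]
            exact (CharP.cast_eq_zero_iff F p _).1 h4
          exact (Nat.prime_dvd_prime_iff_eq hp Nat.prime_three).1 (hp.dvd_of_dvd_pow h5)
        exact four_three_coh hF hp hp3 f hf hker
      · exact four_two_coh hF hp f hf hker
      · exact six_two_coh hF hp f hf hker
  · subst h
    exact odd_coh hF (by omega) hp f hf hker

end Main

end Cfsg.Agent.H911.DG
end

private theorem dce_38e6a5efb440 : _root_.True := by
  try have : _root_.True := by simp only [_root_.Cfsg.Agent.H911.DG.TV.congr_simp]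
  try have : _root_.True := by simp only [_root_.Cfsg.Agent.H911.DG.eb.eq_1]
  exact _root_.True.intro
end

-- part: H528/DG/CohTwF_mg
section
prune_inst 0x4d10039440c80020000000080310020046c0001921060800188400a400300a3424d00094004803112182aa20020010028111800c00240000004000000000000001008020e90480008400088000084000000000000000000000000000000000004000000000
set_option linter.all false
open scoped Cfsg.Agent.FastGrp

-- part: H528/DG/TwFour
section
/-!
# `²F₄(q)`, `q ≥ 8`: two ways to generate the group (helper528, S4180, task K7)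

* `exists_two` : `T = ⟨A, c⟩`, `A` a 2-group, `c` an involution;
* `exists_torus` : `T = ⟨H, u n⟩`, `H` the torus, `n` the rotation, `u` a root element centralised by a nontrivial
  subgroup of `H`.
-/

set_option autoImplicit false
set_option linter.unusedSectionVars false

namespace Cfsg.Agent.H528.DG.TwFour

open Subgroup
open Cfsg.Agent.KFacts.TwF4 Cfsg.Agent.SplitTwo Cfsg.Agent.SplitTwo.ZS Cfsg.Agent.TitsThree.RankTwoZ
open Cfsg.Agent.KFacts.TwF4.Arc Cfsg.Agent.KFacts.TwF4.Inv

universe u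

/-! ### the group with coordinates -/

section

variable {F : Type*} [Field F] {σ : F →+* F} {G : Type u} [Group G] (S : Full σ G)

theorem not_comm : S.rot * S.e 0 1 0 ≠ S.e 0 1 0 * S.rot := by
  intro h
  have h1 := S.rot_e 0 1 0
  rw [h, mul_inv_cancel_right, zero_add] at h1
  have h2 : S.e 0 1 0 ∈ S.XZ 0 := mem_X0 S |>.2 ⟨1, 0, rfl⟩
  have h3 : S.e 0 1 0 ∈ S.XZ 2 := mem_X2 S |>.2 ⟨1, 0, h1.symm⟩
  exact one_ne_zero (S.e_eq_one (S.X_inf_near (by norm_num) (by norm_num) h2 h3)).1

theorem rot_top {M : Subgroup G} (h1 : S.XZ 1 ≤ M) (h8 : S.XZ 8 ≤ M) (hr : S.rot ^ 4 ∈ M) [Finite F] : M = ⊤ := by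
  have key : ∀ j : ℤ, S.XZ j ≤ M → S.XZ (j + 8) ≤ M := by
    intro j hj x hx
    have h2 : S.rot ^ (4 : ℤ) * ((S.rot ^ (4 : ℤ))⁻¹ * x * S.rot ^ (4 : ℤ)) * (S.rot ^ (4 : ℤ))⁻¹ = x := by group
    have h3 : (S.rot ^ (4 : ℤ))⁻¹ * x * S.rot ^ (4 : ℤ) ∈ S.XZ j := by
      rw [← S.rotk_X 4 j, h2]
      exact hx
    have hr' : S.rot ^ (4 : ℤ) ∈ M := by exact_mod_cast hr
    rw [← h2]
    exact mul_mem (mul_mem hr' (hj h3)) (inv_mem hr')
  have h9 : S.XZ 9 ≤ M := key 1 h1
  have h16 : S.XZ 16 ≤ M := key 8 h8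
  have h0 : S.XZ 0 ≤ M := by
    have e1 : S.XZ 16 = S.XZ 0 := by
      show S.R.X ((16 : ℤ) : ZMod (2 * 8)) = S.R.X ((0 : ℤ) : ZMod (2 * 8))
      congr 1
    rw [← e1]
    exact h16
  exact eq_top_of S h0 h1 h8 h9

theorem rot_eight [Finite F] (hc : center G = ⊥) : S.rot ^ 8 = 1 := by
  have h1 : centralizer ({S.rot ^ 8} : Set G) = ⊤ := by
    have ho : ∀ a t, S.rot ^ 8 * S.o a t * (S.rot ^ 8)⁻¹ = S.o a t := by
      intro a t
      rw [S.rotn_o 8 a t]
      congr 1
      have : ((8 : ℕ) : ZMod 8) = 0 := by decide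
      rw [this, add_zero]
    have he : ∀ a p u, S.rot ^ 8 * S.e a p u * (S.rot ^ 8)⁻¹ = S.e a p u := by
      intro a p u
      rw [S.rotn_e 8 a p u]
      congr 1
      have : ((8 : ℕ) : ZMod 8) = 0 := by decide
      rw [this, add_zero]
    refine eq_top_of S ?_ ?_ ?_ ?_
    · intro x hx
      obtain ⟨p, u, rfl⟩ := (mem_X0 S).1 hx
      exact mem_centralizer_singleton_iff.2 (mul_inv_eq_iff_eq_mul.1 (he _ p u)).symm
    · intro x hx
      obtain ⟨t, rfl⟩ := (mem_X1 S).1 hx
      exact mem_centralizer_singleton_iff.2 (mul_inv_eq_iff_eq_mul.1 (ho _ t)).symm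
    · intro x hx
      obtain ⟨p, u, rfl⟩ := (mem_X8 S).1 hx
      exact mem_centralizer_singleton_iff.2 (mul_inv_eq_iff_eq_mul.1 (he _ p u)).symm
    · intro x hx
      obtain ⟨t, rfl⟩ := (mem_X9 S).1 hx
      exact mem_centralizer_singleton_iff.2 (mul_inv_eq_iff_eq_mul.1 (ho _ t)).symm
  have h2 : S.rot ^ 8 ∈ center G := by
    rw [mem_center_iff]
    intro g
    have h3 : g ∈ centralizer ({S.rot ^ 8} : Set G) := by rw [h1]; trivial
    exact mem_centralizer_singleton_iff.1 h3
  rw [hc] at h2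
  exact mem_bot.1 h2

/-- **`T = ⟨A, c⟩`, `A` a 2-group, `c` an involution.** -/
theorem exists_two [Finite F] [Finite G] (hR : S.R.p = 2) (hc : center G = ⊥) :
    ∃ (A : Subgroup G) (c : G), IsPGroup 2 A ∧ c ^ 2 = 1 ∧ c ≠ 1 ∧ A ⊔ _root_.Subgroup.closure {c} = ⊤ := by
  have Z := S.zsys8
  have hU2 : IsPGroup 2 (J S.XZ 1 8) := isPGroup_J Z (two_X S hR) 8 1 8 (by norm_num) (by norm_num)
  refine ⟨J S.XZ 1 8, S.rot ^ 4, hU2, ?_, ?_, ?_⟩
  · rw [← pow_mul]
    exact rot_eight S hc
  · intro h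
    have h1 := S.rotn_e 4 0 1 0
    rw [h, one_mul, inv_one, mul_one] at h1
    have h2 : S.e 0 1 0 ∈ S.XZ 0 := (mem_X0 S).2 ⟨1, 0, rfl⟩
    have h3 : S.e 0 1 0 ∈ S.XZ (0 + 8) := (mem_X8 S).2 ⟨1, 0, by rw [h1]; rfl⟩
    exact one_ne_zero (S.e_eq_one (S.X_inf_opp h2 h3)).1
  · refine rot_top S ?_ ?_ ?_
    · exact (X_le_J le_rfl (by norm_num)).trans le_sup_left
    · exact (X_le_J (by norm_num) le_rfl).trans le_sup_left
    · exact (le_sup_right : _root_.Subgroup.closure {S.rot ^ 4} ≤ _) (_root_.Subgroup.subset_closure rfl)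

theorem rot_T {t : G} (ht : t ∈ S.T) : S.rot * t * S.rot⁻¹ ∈ S.T := by
  have h1 := S.rot_maps 1
  have h2 := S.rot_maps (-1)
  rw [zpow_one] at h1
  rw [zpow_neg_one] at h2
  have ht' : Maps S.R.X t id := ht
  have h3 : Maps S.R.X (S.rot * t * S.rot⁻¹) id := by
    refine ((h1.mul ht').mul h2).congr fun k => ?_
    show ((2 * 1 : ℤ) : ZMod (2 * 8)) + id (((2 * (-1) : ℤ) : ZMod (2 * 8)) + k) = id k
    rw [id, id, ← add_assoc]
    have : ((2 * 1 : ℤ) : ZMod (2 * 8)) + ((2 * (-1) : ℤ) : ZMod (2 * 8)) = 0 := by decide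
    rw [this, zero_add]
  exact h3

theorem rot_T' {t : G} (ht : t ∈ S.T) : S.rot⁻¹ * t * S.rot ∈ S.T := by
  have h1 := S.rot_maps 1
  have h2 := S.rot_maps (-1)
  rw [zpow_one] at h1
  rw [zpow_neg_one] at h2
  have ht' : Maps S.R.X t id := ht
  have h3 : Maps S.R.X (S.rot⁻¹ * t * S.rot) id := by
    refine ((h2.mul ht').mul h1).congr fun k => ?_
    show ((2 * (-1) : ℤ) : ZMod (2 * 8)) + id (((2 * 1 : ℤ) : ZMod (2 * 8)) + k) = id k
    rw [id, id, ← add_assoc]
    have : ((2 * (-1) : ℤ) : ZMod (2 * 8)) + ((2 * 1 : ℤ) : ZMod (2 * 8)) = 0 := by decide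
    rw [this, zero_add]
  exact h3

theorem T_comm {s t : G} (hs : s ∈ S.T) (ht : t ∈ S.T) : s * t = t * s := by
  obtain ⟨c, d, rfl⟩ := S.mem_T.1 hs
  obtain ⟨c', d', rfl⟩ := S.mem_T.1 ht
  rw [S.h_mul, S.h_mul, mul_comm c, mul_comm d]

theorem T_odd [Finite G] : ¬ 2 ∣ Nat.card S.T := by
  intro h
  have hF : Fact (Nat.Prime 2) := ⟨Nat.prime_two⟩
  obtain ⟨t, ht⟩ := exists_prime_orderOf_dvd_card' 2 h
  obtain ⟨c, d, hcd⟩ := S.mem_T.1 t.2
  have h1 : S.h c d ^ (2 ^ 1) = 1 := by
    rw [hcd, pow_one, ← Subgroup.coe_pow, ← ht, pow_orderOf_eq_one]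
    rfl
  obtain ⟨rfl, rfl⟩ := SylU.torus_two S h1
  have h2 : t = 1 := Subtype.ext (by rw [← hcd, S.h_one]; rfl)
  rw [h2, orderOf_one] at ht
  norm_num at ht

include S in
/-- **`T = ⟨H, u n⟩`.** -/
theorem exists_torus [Finite F] [CharP F 2] [Finite G] {d : Fˣ} (hd : ∀ x : Fˣ, x ∈ zpowers d) (hd1 : d ≠ 1) :
    ∃ (H H₁ : Subgroup G) (n u : G), (¬ 2 ∣ Nat.card H) ∧ (∀ h ∈ H, n * h * n⁻¹ ∈ H) ∧ (∀ h ∈ H, n⁻¹ * h * n ∈ H) ∧
      H₁ ≤ H ∧ H₁ ≠ ⊥ ∧ (∀ h ∈ H₁, h * u = u * h) ∧ H ⊔ _root_.Subgroup.closure {u * n} = ⊤ := by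
  have hdT : S.h d d ∈ S.T := S.mem_T.2 ⟨d, d, rfl⟩
  refine ⟨S.T, zpowers (S.h d 1), S.rot, S.e 1 1 0, T_odd S, fun h hh => rot_T S hh, fun h hh => rot_T' S hh,
    zpowers_le.2 (S.mem_T.2 ⟨d, 1, rfl⟩), ?_, ?_, ?_⟩
  · intro h
    have h1 : S.h d 1 = S.h 1 1 := by
      rw [S.h_one]
      exact zpowers_eq_bot.1 h
    exact hd1 (S.h_inj _ _ _ _ h1).1
  · rintro _ ⟨k, rfl⟩
    have h1 : S.h d 1 * S.e 1 1 0 * (S.h d 1)⁻¹ = S.e 1 1 0 := by
      rw [S.h_e, chE_one]
      simp
    have h2 : Commute (S.h d 1) (S.e 1 1 0) := mul_inv_eq_iff_eq_mul.1 h1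
    exact (h2.zpow_left k).eq
  · set M := S.T ⊔ _root_.Subgroup.closure {S.e 1 1 0 * S.rot} with hM
    have key := H136.TwFour.mem_of S.toSys S.sq (h := S.h d d) (c := d) (d := d) (S.h_e d d) hd1 hd1 hd
      (T_comm S hdT (rot_T S hdT)) (M := M) ((le_sup_left : S.T ≤ M) hdT)
      ((le_sup_right : _root_.Subgroup.closure {S.e 1 1 0 * S.rot} ≤ M) (_root_.Subgroup.subset_closure rfl))
    refine eq_top_of S ?_ ?_ ?_ ?_
    · intro x hx
      obtain ⟨p, u, rfl⟩ := (mem_X0 S).1 hx
      exact key.1 _ p u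
    · intro x hx
      obtain ⟨t, rfl⟩ := (mem_X1 S).1 hx
      exact key.2 _ t
    · intro x hx
      obtain ⟨p, u, rfl⟩ := (mem_X8 S).1 hx
      exact key.1 _ p u
    · intro x hx
      obtain ⟨t, rfl⟩ := (mem_X9 S).1 hx
      exact key.2 _ t

end

/-! ### transfer -/

section

variable {T : Type u} [Group T] {G : Type*} [Group G] (e : T ≃* G)

theorem map_sup_closure {A : Subgroup G} {c : G} (h : A ⊔ _root_.Subgroup.closure {c} = ⊤) :
    A.map e.symm.toMonoidHom ⊔ _root_.Subgroup.closure {e.symm c} = ⊤ := by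
  have h1 : _root_.Subgroup.closure {e.symm c} = (_root_.Subgroup.closure {c}).map e.symm.toMonoidHom := by
    rw [MonoidHom.map_closure, Set.image_singleton]
    rfl
  rw [h1, ← Subgroup.map_sup, h]
  exact Subgroup.map_top_of_surjective _ e.symm.surjective

include e in
theorem two_congr (h : ∃ (A : Subgroup G) (c : G), IsPGroup 2 A ∧ c ^ 2 = 1 ∧ c ≠ 1 ∧ A ⊔ _root_.Subgroup.closure {c} = ⊤) :
    ∃ (A : Subgroup T) (c : T), IsPGroup 2 A ∧ c ^ 2 = 1 ∧ c ≠ 1 ∧ A ⊔ _root_.Subgroup.closure {c} = ⊤ := by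
  obtain ⟨A, c, hA, hc, hc1, h⟩ := h
  refine ⟨A.map e.symm.toMonoidHom, e.symm c, hA.map _, by rw [← map_pow, hc, map_one], ?_, map_sup_closure e h⟩
  intro h1
  exact hc1 (e.symm.injective (h1.trans (map_one _).symm))

include e in
theorem torus_congr {p : ℕ} (h : ∃ (H H₁ : Subgroup G) (n u : G), (¬ p ∣ Nat.card H) ∧ (∀ h ∈ H, n * h * n⁻¹ ∈ H) ∧
      (∀ h ∈ H, n⁻¹ * h * n ∈ H) ∧ H₁ ≤ H ∧ H₁ ≠ ⊥ ∧ (∀ h ∈ H₁, h * u = u * h) ∧ H ⊔ _root_.Subgroup.closure {u * n} = ⊤) :
    ∃ (H H₁ : Subgroup T) (n u : T), (¬ p ∣ Nat.card H) ∧ (∀ h ∈ H, n * h * n⁻¹ ∈ H) ∧ (∀ h ∈ H, n⁻¹ * h * n ∈ H) ∧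
      H₁ ≤ H ∧ H₁ ≠ ⊥ ∧ (∀ h ∈ H₁, h * u = u * h) ∧ H ⊔ _root_.Subgroup.closure {u * n} = ⊤ := by
  obtain ⟨H, H₁, n, u, h1, h2, h3, h4, h5, h6, h7⟩ := h
  refine ⟨H.map e.symm.toMonoidHom, H₁.map e.symm.toMonoidHom, e.symm n, e.symm u, ?_, ?_, ?_, map_mono h4, ?_, ?_, ?_⟩
  · rwa [card_map_of_injective e.symm.injective]
  · rintro _ ⟨x, hx, rfl⟩
    exact ⟨_, h2 x hx, by simp only [_root_.MulEquiv.toMonoidHom_eq_coe, _root_.MonoidHom.coe_coe, _root_.map_mul, _root_.map_inv]⟩
  · rintro _ ⟨x, hx, rfl⟩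
    exact ⟨_, h3 x hx, by simp only [_root_.MulEquiv.toMonoidHom_eq_coe, _root_.MonoidHom.coe_coe, _root_.map_mul, _root_.map_inv]⟩
  · intro h
    exact h5 ((Subgroup.map_eq_bot_iff_of_injective _ e.symm.injective).1 h)
  · rintro _ ⟨x, hx, rfl⟩
    change e.symm x * e.symm u = e.symm u * e.symm x
    rw [← map_mul, h6 x hx, map_mul]
  · rw [← map_mul]
    exact map_sup_closure e h7

end

/-! ### the groups `²F₄(q)` -/

theorem center_eq_bot {T : Type*} [Group T] [IsSimpleGroup T] (h : ¬ IsMulCommutative T) : center T = ⊥ := by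
  rcases (inferInstance : (center T).Normal).eq_bot_or_eq_top with h1 | h1
  · exact h1
  · exfalso
    apply h
    refine ⟨⟨fun a b => ?_⟩⟩
    have : b ∈ center T := by rw [h1]; trivial
    exact mem_center_iff.1 this a

/-- the facts about `²F₄(q)` -/
theorem facts {T : Type u} [Group T] [Finite T] [IsSimpleGroup T] (h : Cfsg.Lie.Iso2F4 T) :
    (¬ IsMulCommutative T) ∧
    (∃ (A : Subgroup T) (c : T), IsPGroup 2 A ∧ c ^ 2 = 1 ∧ c ≠ 1 ∧ A ⊔ _root_.Subgroup.closure {c} = ⊤) ∧
    ∃ (H H₁ : Subgroup T) (n u : T), (¬ 2 ∣ Nat.card H) ∧ (∀ h ∈ H, n * h * n⁻¹ ∈ H) ∧ (∀ h ∈ H, n⁻¹ * h * n ∈ H) ∧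
      H₁ ≤ H ∧ H₁ ≠ ⊥ ∧ (∀ h ∈ H₁, h * u = u * h) ∧ H ⊔ closure {u * n} = ⊤ := by
  obtain ⟨K, _, _, m, hm, hK, ⟨e⟩⟩ := h
  have : CharP K 2 := Cfsg.Agent.ChevalleyStructure.TwF4.Twisted.charP_two hK
  obtain ⟨φ, hφ⟩ := Cfsg.Agent.ChevalleyStructure.TwF4.TwistedFix.exists_rln hK
  have hfin : Finite ↥(Cfsg.Lie.twistedF4 K (2 ^ m)) := Finite.of_equiv _ e.toEquiv
  set S := Cfsg.Agent.KFacts.TwF4.Inst.full hK hφ with hS
  have hna : ¬ IsMulCommutative T := by
    intro hc
    apply not_comm S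
    apply e.symm.injective
    rw [map_mul, map_mul]
    exact hc.is_comm.comm _ _
  have hcT : center T = ⊥ := center_eq_bot hna
  have hcG : center ↥(Cfsg.Lie.twistedF4 K (2 ^ m)) = ⊥ := by
    rw [eq_bot_iff]
    intro g hg
    have h1 : e.symm g ∈ center T := by
      rw [mem_center_iff]
      intro t
      apply e.injective
      rw [map_mul, map_mul, e.apply_symm_apply]
      exact mem_center_iff.1 hg (e t)
    rw [hcT, mem_bot] at h1
    rw [mem_bot]
    exact e.symm.injective (h1.trans (map_one _).symm)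
  obtain ⟨d, hd⟩ := IsCyclic.exists_generator (α := Kˣ)
  have hd1 : d ≠ 1 := by
    classical
    rintro rfl
    have h1 : Fintype.card Kˣ = 1 := by
      rw [Fintype.card_eq_one_iff]
      refine ⟨1, fun x => ?_⟩
      obtain ⟨n, hn⟩ := hd x
      simpa using hn.symm
    rw [Fintype.card_units, hK] at h1
    have : 2 ^ 3 ≤ 2 ^ (2 * m + 1) := Nat.pow_le_pow_right (by norm_num) (by omega)
    omega
  exact ⟨hna, two_congr e (exists_two S rfl hcG), torus_congr e (exists_torus S hd hd1)⟩

end Cfsg.Agent.H528.DG.TwFour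
end

-- part: H528/DG/CohTwF
section
/-!
# S4180, task K7: `Coh` for `²F₄(q)` (helper528)
-/

set_option autoImplicit false

namespace Cfsg.Agent.H528.DG

open Subgroup Cfsg.Agent.H891.DG

universe u

/-- **`Coh` for `²F₄(q)`, `q ≥ 8`.** -/
theorem coh_twF4 (T : Type u) [Group T] [Finite T] [IsSimpleGroup T] (h : Cfsg.Lie.Iso2F4 T) : Coh T := by
  obtain ⟨hna, ⟨A, c, hA, hc, hc1, hAc⟩, H, H₁, n, u, hH, hn, hn', hH₁, hne, hu, hT⟩ := TwFour.facts h
  intro p hp
  by_cases hp2 : p = 2
  · subst hp2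
    exact Tools.cohAt_of_torus' hp hH hn' hH₁ hne hu hT
  · refine Tools.cohAt_of_coprime_involution hp hna (A := A) ?_ hc hc1 hAc
    intro hd
    have hF : Fact (Nat.Prime 2) := ⟨Nat.prime_two⟩
    obtain ⟨k, hk⟩ := IsPGroup.iff_card.1 hA
    rw [hk] at hd
    exact hp2 ((Nat.prime_dvd_prime_iff_eq hp Nat.prime_two).1 (hp.dvd_of_dvd_pow hd))

end Cfsg.Agent.H528.DG
end

-- part: H68/DG/J4
section
/-!
# `J4` is generated by an involution and another element (helper68, TEAM GEN, S4180)

`J4 = ⟨x, y, t⟩`, `⟨x, y⟩ ≅ M24`; `t` commutes with the element `w` of order `21` of `M24` and `M24 = ⟨y x y⁻¹, w⟩`; so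
`J4 = ⟨y x y⁻¹, t w⟩`.
-/

set_option autoImplicit false

open Cfsg

namespace Cfsg.Agent.H68.DG.J4

open Cfsg.Agent.J4.M24Hom Cfsg.Agent.J4.Pres Cfsg.Agent.J4.Rep112
open Cfsg.Agent.H440.TwoGen (left_mem_of_pow right_mem_of_pow)
open Cfsg.Agent.H440.TwoGen.JFour (w w_pow t_w t_pow)

/-- letters `c, w, w⁻¹` -/
def lt {G : Type*} [Group G] (c w : G) (i : ℕ) : G := if i = 0 then c else if i = 1 then w else w⁻¹

/-- value of a word in `c, w, w⁻¹` -/
def ev {G : Type*} [Group G] (c w : G) (l : List ℕ) : G := (l.map (lt c w)).prod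

theorem map_lt {G H : Type*} [Group G] [Group H] (f : G →* H) (c w : G) (i : ℕ) :
    f (lt c w i) = lt (f c) (f w) i := by
  unfold lt
  split_ifs <;> simp

theorem map_ev {G H : Type*} [Group G] [Group H] (f : G →* H) (c w : G) (l : List ℕ) :
    f (ev c w l) = ev (f c) (f w) l := by
  unfold ev
  rw [map_list_prod, List.map_map]
  congr 1
  exact List.map_congr_left fun i _ => map_lt f c w i

theorem ev_mem {G : Type*} [Group G] (S : Subgroup G) {c w : G} (hc : c ∈ S) (hw : w ∈ S) (l : List ℕ) :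
    ev c w l ∈ S := by
  unfold ev
  apply Subgroup.list_prod_mem
  intro g hg
  obtain ⟨i, -, rfl⟩ := List.mem_map.1 hg
  unfold lt
  split_ifs
  · exact hc
  · exact hw
  · exact S.inv_mem hw

/-- the element `w` of `M24` -/
def W0 : Equiv.Perm GolayPt := X * (Y * X * Y * (X * Y⁻¹) ^ 2 * (X * Y) ^ 3)

/-- word for `x` -/
def lx : List ℕ := [0,1,0,1,1,0,2,0,1,1,1,1,1,0,1,1,0,2,2,0,1,0,1,1,0,2,2,0,1,1]

/-- word for `y` -/
def ly : List ℕ := [0,1,1,1,1,0,2,0,2,2,2,2,2,2,2,0,2,0,1,0,1,0,2,2,2,0]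

theorem X_eq : X = ev (Y * X * Y⁻¹) W0 lx := by
  apply perm_ext; decide +kernel

theorem Y_eq : Y = ev (Y * X * Y⁻¹) W0 ly := by
  apply perm_ext; decide +kernel

/-- the element `w` of `M24` -/
def WM : M24 := XM * (YM * XM * YM * (XM * YM⁻¹) ^ 2 * (XM * YM) ^ 3)

theorem phi_W : phi WM = w := by
  unfold WM w
  simp only [map_mul, map_pow, map_inv, phi_X, phi_Y]

theorem x_eq : x = ev (y * x * y⁻¹) w lx := by
  have h1 : XM = ev (YM * XM * YM⁻¹) WM lx := by
    apply Subtype.ext
    have h2 := map_ev M24.subtype (YM * XM * YM⁻¹) WM lx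
    rw [← Subgroup.coe_subtype, h2]
    exact X_eq
  have h2 := congrArg phi h1
  rw [map_ev] at h2
  simpa only [map_mul, map_inv, phi_X, phi_Y, phi_W] using h2

theorem y_eq : y = ev (y * x * y⁻¹) w ly := by
  have h1 : YM = ev (YM * XM * YM⁻¹) WM ly := by
    apply Subtype.ext
    have h2 := map_ev M24.subtype (YM * XM * YM⁻¹) WM ly
    rw [← Subgroup.coe_subtype, h2]
    exact Y_eq
  have h2 := congrArg phi h1
  rw [map_ev] at h2
  simpa only [map_mul, map_inv, phi_X, phi_Y, phi_W] using h2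

theorem c_sq : (y * x * y⁻¹) ^ 2 = (1 : Cfsg.Spor.J4) := by
  have h1 : x * x = (1 : Cfsg.Spor.J4) := by rw [← pow_two]; exact all_rels.1
  calc (y * x * y⁻¹) ^ 2 = y * (x * x) * y⁻¹ := by rw [pow_two]; simp only [mul_assoc, inv_mul_cancel_left]
    _ = 1 := by rw [h1, mul_one, mul_inv_cancel]

/-- `J4 = ⟨y x y⁻¹, t w⟩`. -/
theorem closure_eq' : Subgroup.closure ({y * x * y⁻¹, t * w} : Set Cfsg.Spor.J4) = ⊤ := by
  set S := Subgroup.closure ({y * x * y⁻¹, t * w} : Set Cfsg.Spor.J4) with hS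
  have h0 : y * x * y⁻¹ ∈ S := Subgroup.subset_closure (by simp only [_root_.Set.mem_insert_iff, _root_.Set.mem_singleton_iff, _root_.true_or])
  have h1 : t * w ∈ S := Subgroup.subset_closure (by simp only [_root_.Set.mem_insert_iff, _root_.Set.mem_singleton_iff, _root_.or_true])
  have ht : t ∈ S := left_mem_of_pow S t_w t_pow w_pow (by decide) h1
  have hw : w ∈ S := right_mem_of_pow S t_w t_pow w_pow (by decide) h1
  have hx : x ∈ S := by rw [x_eq]; exact ev_mem S h0 hw _
  have hy : y ∈ S := by rw [y_eq]; exact ev_mem S h0 hw _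
  rw [eq_top_iff, ← closure_eq_top, Subgroup.closure_le]
  rintro s (rfl | rfl | rfl)
  · exact hx
  · exact hy
  · exact ht

/-- A commutative quotient of `J4` is trivial. -/
theorem not_comm [Nontrivial Cfsg.Spor.J4] : ¬ IsMulCommutative Cfsg.Spor.J4 := by
  intro hc
  have hm : ∀ a b : Cfsg.Spor.J4, a * b = b * a := fun a b => hc.is_comm.comm a b
  have hxy : x = (1 : Cfsg.Spor.J4) ∧ y = (1 : Cfsg.Spor.J4) := by
    have h1 : x ^ 2 = (1 : Cfsg.Spor.J4) := all_rels.1
    have h2 : y ^ 3 = (1 : Cfsg.Spor.J4) := all_rels.2.1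
    have h3 : (x * y) ^ 23 = (1 : Cfsg.Spor.J4) := all_rels.2.2.1
    have h4 : x * y = (1 : Cfsg.Spor.J4) := by
      have h5 : (x * y) ^ 6 = (1 : Cfsg.Spor.J4) := by
        rw [(show Commute x y from hm x y).mul_pow]
        rw [show x ^ 6 = (x ^ 2) ^ 3 by rw [← pow_mul], show y ^ 6 = (y ^ 3) ^ 2 by rw [← pow_mul], h1, h2]
        simp
      have h6 : (x * y) ^ 24 = (1 : Cfsg.Spor.J4) := by
        rw [show (24 : ℕ) = 6 * 4 from rfl, pow_mul, h5, one_pow]
      rw [pow_succ, h3, one_mul] at h6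
      exact h6
    have h5 : x = y⁻¹ := eq_inv_of_mul_eq_one_left h4
    have h6 : y ^ 2 = (1 : Cfsg.Spor.J4) := by
      rw [h5, inv_pow, inv_eq_one] at h1
      exact h1
    have h7 : y = (1 : Cfsg.Spor.J4) := by
      rw [pow_succ, h6, one_mul] at h2
      exact h2
    exact ⟨by rw [h5, h7, inv_one], h7⟩
  have ht : t = (1 : Cfsg.Spor.J4) := by
    have h1 := all_rels.2.2.2.2.2.2.2.2.2.2.1
    have h2 : t ^ 2 = (1 : Cfsg.Spor.J4) := t_pow
    rw [hxy.1, hxy.2] at h1
    simp only [inv_one, mul_one, one_mul] at h1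
    rw [pow_succ, h2, one_mul] at h1
    exact h1
  have htop : (⊤ : Subgroup Cfsg.Spor.J4) = ⊥ := by
    rw [← closure_eq_top, eq_bot_iff, Subgroup.closure_le]
    rintro s (rfl | rfl | rfl)
    · exact hxy.1
    · exact hxy.2
    · exact ht
  exact top_ne_bot htop

end Cfsg.Agent.H68.DG.J4
end

-- part: H68/DG/Ly
section
/-!
# `Ly` is generated by an involution and another element (helper68, TEAM GEN, S4180)

`Ly = ⟨a, b, c, d, z⟩`, `⟨a, b, c, d⟩ ≅ G₂(5)`; `z` commutes with the element `h` of order `3`, `z² = a²` and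
`G₂(5) = ⟨c₀, h, a²⟩` for a conjugate `c₀` of the involution `a⁴`; so `Ly = ⟨c₀, z h⟩`.
-/

set_option autoImplicit false

namespace Cfsg.Agent.H68.DG.Ly

open Cfsg.Agent.Ly.Mat7 Cfsg.Agent.Ly.Upper Cfsg.Agent.Ly.Index Cfsg.Agent.Ly.Pres Cfsg.Agent.Ly.WalkCtx
open Cfsg.Agent.H440.TwoGen (left_mem_of_pow right_mem_of_pow)
open Cfsg.Agent.H440.TwoGen.Lyons (wd wd_append wd_flat wd_eq h h' eh eh3 mem_of_mul z_sq z_pow z_h)

/-- the involution -/
def c0 : List ℕ := [0, 1, 2, 3, 2, 0, 0, 0, 0, 6, 7, 6, 5, 4]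
/-- `a²` -/
def s2 : List ℕ := [0, 0]
/-- `a⁻²` -/
def s2' : List ℕ := [4, 4]

/-- word for `a` -/
def la : List (List ℕ) :=
  [h', s2', c0, s2', c0, s2, c0, h, c0, s2', c0, h, c0, h, s2', c0, h', c0, h', s2', c0, s2', c0]
/-- word for `b` -/
def lb : List (List ℕ) :=
  [c0, s2, c0, s2, c0, s2, c0, s2', c0, s2, c0, s2, c0, s2, c0, h', s2']
/-- word for `c` -/
def lc : List (List ℕ) :=
  [c0, s2', c0, s2, c0, s2', c0, s2', c0, s2, c0, s2, c0, s2', c0, s2, c0, s2, s2]
/-- word for `d` -/
def ld : List (List ℕ) :=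
  [c0, s2, c0, h', s2, c0, h, c0, s2, s2, c0, h', s2', c0, h', s2', c0, h', s2', c0, h, c0, h', s2, s2, c0]

theorem ec0 : eqW (c0 ++ c0) [] = true := by decide +kernel
theorem es2 : eqW (s2 ++ s2') [] = true := by decide +kernel
theorem ea : eqW [0] la.flatten = true := by decide +kernel
theorem eb : eqW [1] lb.flatten = true := by decide +kernel
theorem ec : eqW [2] lc.flatten = true := by decide +kernel
theorem ed : eqW [3] ld.flatten = true := by decide +kernel

theorem c0_sq : wd c0 ^ 2 = 1 := by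
  have h1 : wd (c0 ++ c0) = 1 := wd_eq ec0
  rw [wd_append] at h1
  rw [pow_two]; exact h1

/-- `Ly = ⟨c₀, z h⟩`. -/
theorem closure_eq' : Subgroup.closure ({wd c0, gens 4 * wd h} : Set Cfsg.Spor.Ly) = ⊤ := by
  set S := Subgroup.closure ({wd c0, gens 4 * wd h} : Set Cfsg.Spor.Ly) with hS
  have h0 : wd c0 ∈ S := Subgroup.subset_closure (by simp)
  have h1 : gens 4 * wd h ∈ S := Subgroup.subset_closure (by simp)
  have h3 : wd h ^ 3 = 1 := by
    have h2 : wd (h ++ h ++ h) = 1 := wd_eq eh3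
    rw [wd_append, wd_append] at h2
    rw [pow_succ, pow_two]; exact h2
  have hz : gens 4 ∈ S := left_mem_of_pow S z_h z_pow h3 (by decide) h1
  have hh : wd h ∈ S := right_mem_of_pow S z_h z_pow h3 (by decide) h1
  have hh' : wd h' ∈ S := mem_of_mul (by rw [← wd_append]; exact wd_eq eh) hh
  have hs : wd s2 ∈ S := by
    have e : wd s2 = gens 0 * (gens 0 * 1) := rfl
    rw [e, mul_one, ← z_sq]
    exact S.mul_mem hz hz
  have hs' : wd s2' ∈ S := mem_of_mul (by rw [← wd_append]; exact wd_eq es2) hs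
  have hall : ∀ l ∈ [c0, h, h', s2, s2'], wd l ∈ S := by
    intro l hl
    simp only [List.mem_cons, List.not_mem_nil, or_false] at hl
    rcases hl with rfl | rfl | rfl | rfl | rfl
    · exact h0
    · exact hh
    · exact hh'
    · exact hs
    · exact hs'
  have ha : wd [0] ∈ S := by
    rw [wd_eq ea]; exact wd_flat la fun l hl => hall l (by revert l; decide)
  have hb : wd [1] ∈ S := by
    rw [wd_eq eb]; exact wd_flat lb fun l hl => hall l (by revert l; decide)
  have hc : wd [2] ∈ S := by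
    rw [wd_eq ec]; exact wd_flat lc fun l hl => hall l (by revert l; decide)
  have hd : wd [3] ∈ S := by
    rw [wd_eq ed]; exact wd_flat ld fun l hl => hall l (by revert l; decide)
  have e0 : wd [0] = gens 0 := mul_one _
  have e1 : wd [1] = gens 1 := mul_one _
  have e2 : wd [2] = gens 2 := mul_one _
  have e3 : wd [3] = gens 3 := mul_one _
  rw [e0] at ha
  rw [e1] at hb
  rw [e2] at hc
  rw [e3] at hd
  rw [eq_top_iff, ← closure_gens, Subgroup.closure_le]
  rintro _ ⟨i, rfl⟩
  fin_cases i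
  · exact ha
  · exact hb
  · exact hc
  · exact hd
  · exact hz

/-! ### `Ly` is not commutative -/

/-- exponent of the generator `i` in a word -/
def ex (i : Fin 5) (w : List (Fin 5 × Bool)) : ℤ :=
  (w.map fun l => if l.1 = i then (if l.2 then 1 else -1) else 0).sum

theorem lift_comm {A : Type*} [CommGroup A] (x : Fin 5 → A) (w : List (Fin 5 × Bool)) :
    FreeGroup.lift x (FreeGroup.mk w) = ∏ i, x i ^ ex i w := by
  rw [FreeGroup.lift_mk]
  induction w with
  | nil => simp [ex]
  | cons l w ih =>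
    rw [List.map_cons, List.prod_cons, ih]
    have h1 : ∀ i, ex i (l :: w) = (if l.1 = i then (if l.2 then 1 else -1) else 0) + ex i w := fun i => by
      simp [ex]
    simp only [h1, zpow_add, Finset.prod_mul_distrib]
    congr 1
    rw [Finset.prod_eq_single l.1]
    · cases l.2 <;> simp
    · intro b _ hb
      rw [if_neg (fun h => hb h.symm), zpow_zero]
    · intro hb
      exact absurd (Finset.mem_univ _) hb

theorem not_comm [Nontrivial Cfsg.Spor.Ly] : ¬ IsMulCommutative Cfsg.Spor.Ly := by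
  intro hcm
  let _ : CommGroup Cfsg.Spor.Ly := { (inferInstance : Group Cfsg.Spor.Ly) with mul_comm := hcm.is_comm.comm }
  have key : ∀ w ∈ relWords, gens 0 ^ ex 0 w * (gens 1 ^ ex 1 w * (gens 2 ^ ex 2 w * (gens 3 ^ ex 3 w * gens 4 ^ ex 4 w))) =
      (1 : Cfsg.Spor.Ly) := by
    intro w hw
    have h1 := rel_hold w hw
    have h2 := lift_comm gens w
    rw [h1] at h2
    rw [h2]
    simp [Fin.prod_univ_succ]
  have r23 := key rel23 (by simp only [relWords, _root_.List.mem_cons, _root_.List.not_mem_nil, _root_.or_false, _root_.true_or, _root_.or_true])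
  have r36 := key rel36 (by simp only [relWords, _root_.List.mem_cons, _root_.List.not_mem_nil, _root_.or_false, _root_.true_or, _root_.or_true])
  have r84 := key rel84 (by simp only [relWords, _root_.List.mem_cons, _root_.List.not_mem_nil, _root_.or_false, _root_.true_or, _root_.or_true])
  have r43 := key rel43 (by simp only [relWords, _root_.List.mem_cons, _root_.List.not_mem_nil, _root_.or_false, _root_.true_or, _root_.or_true])
  have r40 := key rel40 (by simp only [relWords, _root_.List.mem_cons, _root_.List.not_mem_nil, _root_.or_false, _root_.true_or, _root_.or_true])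
  have r81 := key rel81 (by simp only [relWords, _root_.List.mem_cons, _root_.List.not_mem_nil, _root_.or_false, _root_.true_or, _root_.or_true])
  have r82 := key rel82 (by simp only [relWords, _root_.List.mem_cons, _root_.List.not_mem_nil, _root_.or_false, _root_.true_or, _root_.or_true])
  rw [show ex 0 rel23 = 0 by decide, show ex 1 rel23 = 0 by decide, show ex 2 rel23 = 1 by decide,
    show ex 3 rel23 = 0 by decide, show ex 4 rel23 = 0 by decide] at r23
  rw [show ex 0 rel36 = 0 by decide, show ex 1 rel36 = 1 by decide, show ex 2 rel36 = 2 by decide,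
    show ex 3 rel36 = 0 by decide, show ex 4 rel36 = 0 by decide] at r36
  rw [show ex 0 rel84 = -1 by decide, show ex 1 rel84 = 0 by decide, show ex 2 rel84 = 1 by decide,
    show ex 3 rel84 = 0 by decide, show ex 4 rel84 = 0 by decide] at r84
  rw [show ex 0 rel43 = 0 by decide, show ex 1 rel43 = 0 by decide, show ex 2 rel43 = 0 by decide,
    show ex 3 rel43 = 5 by decide, show ex 4 rel43 = 0 by decide] at r43
  rw [show ex 0 rel40 = -4 by decide, show ex 1 rel40 = 0 by decide, show ex 2 rel40 = 0 by decide,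
    show ex 3 rel40 = 2 by decide, show ex 4 rel40 = 0 by decide] at r40
  rw [show ex 0 rel81 = -2 by decide, show ex 1 rel81 = 0 by decide, show ex 2 rel81 = 0 by decide,
    show ex 3 rel81 = 0 by decide, show ex 4 rel81 = 2 by decide] at r81
  rw [show ex 0 rel82 = 5 by decide, show ex 1 rel82 = 0 by decide, show ex 2 rel82 = 0 by decide,
    show ex 3 rel82 = 0 by decide, show ex 4 rel82 = 3 by decide] at r82
  have hc : gens 2 = (1 : Cfsg.Spor.Ly) := by simpa using r23
  rw [hc] at r36 r84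
  have hb : gens 1 = (1 : Cfsg.Spor.Ly) := by simpa using r36
  have ha : gens 0 = (1 : Cfsg.Spor.Ly) := by simpa using r84
  rw [ha] at r40 r81 r82
  simp only [one_zpow, zpow_zero, one_mul, mul_one] at r43 r40 r81 r82
  have fin : ∀ g : Cfsg.Spor.Ly, ∀ m n u v : ℤ, g ^ m = 1 → g ^ n = 1 → m * u + n * v = 1 → g = 1 := by
    intro g m n u v h1 h2 h3
    have h4 : g ^ (m * u + n * v) = 1 := by rw [zpow_add, zpow_mul, zpow_mul, h1, h2, one_zpow, one_zpow, one_mul]
    rwa [h3, zpow_one] at h4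
  have hd : gens 3 = (1 : Cfsg.Spor.Ly) := fin _ 5 2 1 (-2) r43 r40 (by norm_num)
  have hz : gens 4 = (1 : Cfsg.Spor.Ly) := fin _ 2 3 (-1) 1 r81 r82 (by norm_num)
  have htop : (⊤ : Subgroup Cfsg.Spor.Ly) = ⊥ := by
    rw [← closure_gens, eq_bot_iff, Subgroup.closure_le]
    rintro _ ⟨i, rfl⟩
    fin_cases i
    · exact ha
    · exact hb
    · exact hc
    · exact hd
    · exact hz
  exact top_ne_bot htop

end Cfsg.Agent.H68.DG.Ly
end

-- part: H68/DG/CohJ4Ly
section
/-!
# `Coh` for `J4` and `Ly` (helper68, TEAM GEN, S4180)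
-/

set_option autoImplicit false

namespace Cfsg.Agent.H68.DG.CohJ4Ly

open Cfsg Cfsg.Agent.H891.DG Subgroup

universe u

/-- transport of a generating pair, the first of order two -/
theorem coh_of_iso {T : Type u} [Group T] [Finite T] [IsSimpleGroup T] {S : Type*} [Group S] (e : T ≃* S)
    (hna : ¬ IsMulCommutative S) {c b : S} (hc : c ^ 2 = 1) (h : _root_.Subgroup.closure ({c, b} : Set S) = ⊤) : Coh T := by
  have hna' : ¬ IsMulCommutative T := by
    intro h1
    apply hna
    refine ⟨⟨fun a b => ?_⟩⟩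
    have h2 : e.symm a * e.symm b = e.symm b * e.symm a := h1.is_comm.comm _ _
    rw [← map_mul, ← map_mul] at h2
    exact e.symm.injective h2
  have hcl : _root_.Subgroup.closure ({e.symm c, e.symm b} : Set T) = ⊤ := by
    have h1 : closure ({e.symm c, e.symm b} : Set T) = (_root_.Subgroup.closure ({c, b} : Set S)).map e.symm.toMonoidHom := by
      rw [MonoidHom.map_closure, Set.image_pair]
      rfl
    rw [h1, h]
    exact map_top_of_surjective _ e.symm.surjective
  refine Tools.coh_of_involution hna' (c := e.symm c) (b := e.symm b) ?_ ?_ hcl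
  · rw [← map_pow, hc, map_one]
  · intro h1
    apply hna'
    have h2 : closure ({e.symm b} : Set T) = ⊤ := by
      rw [eq_top_iff, ← hcl, closure_le]
      rintro s (rfl | rfl)
      · rw [h1]; exact one_mem _
      · exact _root_.Subgroup.subset_closure rfl
    have h3 : IsCyclic T := ⟨e.symm b, fun x => mem_zpowers_iff.1 (by
      rw [zpowers_eq_closure, h2]; exact mem_top _)⟩
    exact IsCyclic.isMulCommutative

/-- **`Coh` for `J4`.** -/
theorem coh_j4 {T : Type u} [Group T] [Finite T] [IsSimpleGroup T] (h : Cfsg.Spor.IsoJ4 T) : Coh T := by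
  obtain ⟨e⟩ := h
  have : Nontrivial Cfsg.Spor.J4 := e.symm.toEquiv.nontrivial
  exact coh_of_iso e J4.not_comm J4.c_sq J4.closure_eq'

/-- **`Coh` for `Ly`.** -/
theorem coh_ly {T : Type u} [Group T] [Finite T] [IsSimpleGroup T] (h : Cfsg.Spor.IsoLy T) : Coh T := by
  obtain ⟨e⟩ := h
  have : Nontrivial Cfsg.Spor.Ly := e.symm.toEquiv.nontrivial
  exact coh_of_iso e Ly.not_comm Ly.c0_sq Ly.closure_eq'

end Cfsg.Agent.H68.DG.CohJ4Ly
end

-- part: H288/DG/TwD4
section
/-!
# TEAM GEN: the torus data of `³D₄(q)` (helper288, for S4180; the generation is helper136's proof of S2407)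
-/

set_option autoImplicit false
set_option linter.unusedSectionVars false

namespace Cfsg.Agent.H288.DG.TwD4

open Cfsg.Lie Cfsg.Agent.S2407
open Cfsg.Agent.ChevalleyStructure.D4Comm Cfsg.Agent.ChevalleyStructure.D4NCheck
open Cfsg.Agent.ChevalleyStructure.D4NConj Cfsg.Agent.ChevalleyStructure.D4RGD
open Cfsg.Agent.ChevalleyStructure.D4Perm Cfsg.Agent.ChevalleyStructure.D4TwN
open Cfsg.Agent.ChevalleyStructure.D4Cols (xU)
open Cfsg.Agent.ChevalleyStructure.D4Fixed (X Y fix mem_fix twisted_le_fix twisted_induction X_mem Y_mem exists_frob)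
open Cfsg.Agent.ChevalleyStructure.D4HConj
open Cfsg.Agent.ChevalleyStructure.D4Perfect
open Cfsg.Agent.ChevalleyStructure.D4U (RS na nb na_RS nb_RS RS_outer_fix phi3)
open Cfsg.Agent.ChevalleyStructure.D4Pos
open Cfsg.Agent.ChevalleyStructure.TwistedU
open Cfsg.Agent.H136
open scoped commutatorElement

variable {K : Type*} [Field K] {φ : K →+* K} {q : ℕ}

theorem gen [Fintype K] (hq : IsPrimePow q) (hK : Fintype.card K = q ^ 3) (hφ : ∀ x, φ x = x ^ q)
    (M : Subgroup (GL chevD4.Idx K)) (hM : chevD4.diagonalSubgroup K ⊓ twistedD4 K q ≤ M)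
    (hb : X φ 1 * (vv K)⁻¹ ∈ M) : twistedD4 K q ≤ M := by
  have hfix := twisted_le_fix hK hφ
  have hq2 : 2 ≤ q := hq.two_le
  have hq3 : 2 ^ 3 ≤ q ^ 3 := Nat.pow_le_pow_left hq2 3
  obtain ⟨c, hc⟩ := IsCyclic.exists_generator (α := Kˣ)
  have hc0 : (c : K) ≠ 0 := c.ne_zero
  have hord : orderOf c = q ^ 3 - 1 := by
    rw [orderOf_eq_card_of_forall_mem_zpowers hc, Nat.card_units, Nat.card_eq_fintype_card, hK]
  have hpow : ∀ n, 0 < n → n < q ^ 3 - 1 → (c : K) ^ n ≠ 1 := by
    intro n h0 hn h1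
    have h2 : c ^ n = 1 := Units.ext (by rw [Units.val_pow_eq_pow_val, h1, Units.val_one])
    have := Nat.le_of_dvd h0 (orderOf_dvd_of_pow_eq_one h2)
    omega
  have hc2 : (c : K) ^ 2 ≠ 1 := hpow 2 (by norm_num) (by omega)
  have hlam : φ c * φ (φ c) ≠ c := by
    intro h
    have h1 : φ c * φ (φ c) = (c : K) ^ (q + q ^ 2) := by
      rw [hφ (φ c), hφ c, ← pow_mul, ← pow_add, ← sq]
    have h2 : q ^ 2 + q ^ 2 ≤ q ^ 3 := by nlinarith only [hq2]
    have h3 : q + q < q ^ 2 + q := by nlinarith only [hq3]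
    refine hpow (q + q ^ 2 - 1) (by omega) (by omega) ?_
    apply mul_right_cancel₀ hc0
    rw [one_mul, ← pow_succ, Nat.sub_add_cancel (by omega), ← h1, h]
  have hvT : vv K ∈ twistedD4 K q := mul_mem (nA_mem_twisted hφ) (nB_mem_twisted hφ)
  have hvN : vv K ∈ chevD4.monomialSubgroup K := mul_mem (nA_mem K) (nB_mem K)
  have hhD : hA φ (c : K) ∈ chevD4.diagonalSubgroup K := hA_mem_diagonal hc0
  have hhT : hA φ (c : K) ∈ twistedD4 K q := hA_mem hφ _
  have ha : hA φ (c : K) ∈ M := hM ⟨hhD, hhT⟩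
  have h1D : (vv K)⁻¹ * hA φ (c : K) * (vv K)⁻¹⁻¹ ∈ chevD4.diagonalSubgroup K :=
    conj_mem_diagonal (inv_mem hvN) hhD
  have h1T : (vv K)⁻¹ * hA φ (c : K) * (vv K)⁻¹⁻¹ ∈ twistedD4 K q :=
    mul_mem (mul_mem (inv_mem hvT) hhT) (inv_mem (inv_mem hvT))
  obtain ⟨hXM, hwM⟩ := TwoGen.torus_trick M (XS φ) (h := hA φ (c : K)) (w := (vv K)⁻¹) (u := X φ 1) ha hb
    ⟨1, rfl⟩ (fun x hx => conj_XS hK hφ h1D h1T hx)
    (fun x hx => by
      have := conj_XS hK hφ (inv_mem h1D) (inv_mem h1T) hx
      rwa [inv_inv] at this)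
    (irr hc)
    ⟨X φ 1, ⟨1, rfl⟩, fun h => by
      have h2 := hA_conj_X (φ := φ) hc0 1
      rw [h, mul_inv_cancel_right] at h2
      have h3 := X_inj h2
      rw [mul_one] at h3
      exact hc2 h3.symm⟩
    (fun x hx => conj_XS hK hφ hhD hhT hx)
    (diag_comm hhD h1D)
    (fun h => by
      have h2 : hA φ (c : K) * (vv K * X φ 1 * (vv K)⁻¹) * (hA φ (c : K))⁻¹ = vv K * X φ 1 * (vv K)⁻¹ := by
        have h3 : vv K * ((vv K)⁻¹ * hA φ (c : K) * (vv K)⁻¹⁻¹ * X φ 1) * (vv K)⁻¹ =
            vv K * (X φ 1 * ((vv K)⁻¹ * hA φ (c : K) * (vv K)⁻¹⁻¹)) * (vv K)⁻¹ := by rw [h]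
        have h4 : vv K * ((vv K)⁻¹ * hA φ (c : K) * (vv K)⁻¹⁻¹ * X φ 1) * (vv K)⁻¹ =
            hA φ (c : K) * (vv K * X φ 1 * (vv K)⁻¹) := by group
        have h5 : vv K * (X φ 1 * ((vv K)⁻¹ * hA φ (c : K) * (vv K)⁻¹⁻¹)) * (vv K)⁻¹ =
            (vv K * X φ 1 * (vv K)⁻¹) * hA φ (c : K) := by group
        rw [h4, h5] at h3
        rw [h3, mul_inv_cancel_right]
      rw [vv_X, conj3, hA_conj (by norm_num) hc0, hA_conj (by norm_num) hc0, hA_conj (by norm_num) hc0] at h2
      have h6 := (three_inj (by decide) (by decide) (by decide) (by decide +kernel) h2).1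
      obtain ⟨e1, e2, e3⟩ := cart_vals
      rw [e1, e2, e3, zpow_one, zpow_one, zpow_neg_one, mul_one] at h6
      have hs : ((vsg 18 : ℤ) : K) ≠ 0 := by
        intro h0
        have := congrArg (Int.cast (R := K)) (vsg_sq 18 (by simp))
        rw [Int.cast_mul, h0, mul_zero, Int.cast_one] at this
        exact zero_ne_one this
      have h7 : ((c : K)⁻¹ * (φ c * φ (φ c))) * ((vsg 18 : ℤ) : K) = 1 * ((vsg 18 : ℤ) : K) := by
        rw [one_mul]
        calc ((c : K)⁻¹ * (φ c * φ (φ c))) * ((vsg 18 : ℤ) : K)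
            = (c : K)⁻¹ * (φ c * (φ (φ c) * ((vsg 18 : ℤ) : K))) := by ring
          _ = _ := h6
      have h8 := mul_right_cancel₀ hs h7
      apply hlam
      rw [inv_mul_eq_one₀ hc0] at h8
      exact h8.symm)
  have hvM : vv K ∈ M := by
    have := M.inv_mem hwM
    rwa [inv_inv] at this
  have hX : ∀ t, X φ t ∈ M := fun t => hXM ⟨t, rfl⟩
  have hunconj : ∀ g : GL chevD4.Idx K, vv K * g * (vv K)⁻¹ ∈ M → g ∈ M := by
    intro g hg
    have := M.mul_mem (M.mul_mem (M.inv_mem hvM) hg) hvM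
    have e : (vv K)⁻¹ * (vv K * g * (vv K)⁻¹) * vv K = g := by group
    rwa [e] at this
  have hY : ∀ t, Y φ t ∈ M := fun t => hunconj _ (hunconj _ (hunconj _ (hXM (Y_conj hK hφ t))))
  have hnA : nA K ∈ M := by
    have h1 := Cfsg.Agent.ChevalleyStructure.D4H1.n_outer_eq φ 1
    rw [map_one, map_one, wU_nWord_eq (by norm_num), wU_nWord_eq (by norm_num), wU_nWord_eq (by norm_num)] at h1
    have h2 : nA K = nR 18 1 * nR 13 1 * nR 12 (1 : K) := rfl
    rw [h2, ← h1]
    apply Subgroup.list_prod_mem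
    intro x hx
    rw [List.mem_map] at hx
    obtain ⟨⟨_ | _, t⟩, _, rfl⟩ := hx
    · exact hY t
    · exact hX t
  have hnB : nB K ∈ M := by
    have := M.mul_mem (M.inv_mem hnA) hvM
    rwa [vv, inv_mul_cancel_left] at this
  -- long root elements
  have h22 : ∃ ε : K, (ε = 1 ∨ ε = -1) ∧ ∀ t : K, xG 22 (ε * (t + φ t + φ (φ t))) ∈ M := by
    obtain ⟨a1, a2, a3, k1, k2, k3, r1, r2, r3, r4⟩ :
        ∃ a1 a2 a3 : ℤ, Cfsg.Agent.ChevalleyStructure.D4CommTab.cm 18 17 = some (22, a1) ∧
          Cfsg.Agent.ChevalleyStructure.D4CommTab.cm 13 20 = some (22, a2) ∧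
          Cfsg.Agent.ChevalleyStructure.D4CommTab.cm 12 21 = some (22, a3) ∧
          a2 * vsg 13 = a1 * vsg 18 ∧ a3 * vsg 12 = a1 * vsg 18 ∧ a1 * vsg 18 * (a1 * vsg 18) = 1 ∧ True := by
      refine ⟨((Cfsg.Agent.ChevalleyStructure.D4CommTab.cm 18 17).getD (0, 0)).2,
        ((Cfsg.Agent.ChevalleyStructure.D4CommTab.cm 13 20).getD (0, 0)).2,
        ((Cfsg.Agent.ChevalleyStructure.D4CommTab.cm 12 21).getD (0, 0)).2, ?_, ?_, ?_, ?_, ?_, ?_, trivial⟩ <;>
      decide +kernel
    refine ⟨((a1 * vsg 18 : ℤ) : K), ?_, fun t => ?_⟩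
    · have h3 : ((a1 * vsg 18 : ℤ) : K) ^ 2 = 1 := by
        rw [sq, ← Int.cast_mul, r3, Int.cast_one]
      exact Cfsg.Agent.ChevalleyStructure.D4H1.sq_one_cases h3
    · have h3 : X φ 1 * (vv K * X φ t * (vv K)⁻¹) * (X φ 1)⁻¹ * (vv K * X φ t * (vv K)⁻¹)⁻¹ ∈ M := by
        have h4 := M.mul_mem (M.mul_mem hvM (hX t)) (M.inv_mem hvM)
        exact M.mul_mem (M.mul_mem (M.mul_mem (hX 1) h4) (M.inv_mem (hX 1))) (M.inv_mem h4)
      rw [vv_X, X_def', map_one, map_one] at h3
      rw [comm3 (c_comm2 (by norm_num) (by norm_num) (by norm_num) (by norm_num) (by norm_num) k1 _ _)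
        (c_comm2 (by norm_num) (by norm_num) (by norm_num) (by norm_num) (by norm_num) k2 _ _)
        (c_comm2 (by norm_num) (by norm_num) (by norm_num) (by norm_num) (by norm_num) k3 _ _)
        (c_comm (by norm_num) (by norm_num) (by norm_num) (by norm_num) (by norm_num) (by decide +kernel) _ _)
        (c_comm (by norm_num) (by norm_num) (by norm_num) (by norm_num) (by norm_num) (by decide +kernel) _ _)
        (c_comm (by norm_num) (by norm_num) (by norm_num) (by norm_num) (by norm_num) (by decide +kernel) _ _)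
        (c_comm (by norm_num) (by norm_num) (by norm_num) (by norm_num) (by norm_num) (by decide +kernel) _ _)
        (c_comm (by norm_num) (by norm_num) (by norm_num) (by norm_num) (by norm_num) (by decide +kernel) _ _)
        (c_comm (by norm_num) (by norm_num) (by norm_num) (by norm_num) (by norm_num) (by decide +kernel) _ _)
        (by
          have hcen : ∀ r ∈ [18, 13, 12, 17, 20, 21], ∀ t u : K, xG 22 t * xG r u = (xG r u * xG 22 t :
              GL chevD4.Idx K) := by
            have hd : ∀ r ∈ [18, 13, 12, 17, 20, 21], 12 ≤ r ∧ r < 24 ∧ r ≠ 22 ∧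
              Cfsg.Agent.ChevalleyStructure.D4CommTab.cm 22 r = none := by decide +kernel
            intro r hr t u
            obtain ⟨d1, d2, d3, d4⟩ := hd r hr
            exact c_comm (by norm_num) (by norm_num) d1 d2 d3 d4 t u
          intro g hg
          simp only [Set.mem_insert_iff, Set.mem_singleton_iff] at hg
          rcases hg with rfl | rfl | rfl | rfl | rfl | rfl
          · exact ⟨hcen 18 (by simp) _ _, hcen 18 (by simp) _ _, hcen 18 (by simp) _ _⟩
          · exact ⟨hcen 13 (by simp) _ _, hcen 13 (by simp) _ _, hcen 13 (by simp) _ _⟩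
          · exact ⟨hcen 12 (by simp) _ _, hcen 12 (by simp) _ _, hcen 12 (by simp) _ _⟩
          · exact ⟨hcen 17 (by simp) _ _, hcen 17 (by simp) _ _, hcen 17 (by simp) _ _⟩
          · exact ⟨hcen 20 (by simp) _ _, hcen 20 (by simp) _ _, hcen 20 (by simp) _ _⟩
          · exact ⟨hcen 21 (by simp) _ _, hcen 21 (by simp) _ _, hcen 21 (by simp) _ _⟩)] at h3
      rw [← xG_add, ← xG_add] at h3
      have e : (a1 : K) * (1 * ((vsg 18 : K) * t)) + (a2 : K) * (1 * ((vsg 13 : K) * φ t)) +
          (a3 : K) * (1 * ((vsg 12 : K) * φ (φ t))) = ((a1 * vsg 18 : ℤ) : K) * (t + φ t + φ (φ t)) := by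
        have r1' := congrArg (Int.cast (R := K)) r1
        have r2' := congrArg (Int.cast (R := K)) r2
        push_cast at r1' r2' ⊢
        linear_combination φ t * r1' + φ (φ t) * r2'
      rwa [e] at h3
  obtain ⟨ε, hε, h22⟩ := h22
  have h22' : ∀ v, φ v = v → xG 22 v ∈ M := by
    intro v hv
    obtain ⟨t, ht⟩ := FieldLem.exists_trace hq2 hK φ hφ (phi_sign hε hv)
    have := h22 t
    rwa [ht, _root_.Cfsg.Agent.ChevalleyStructure.D4Perfect.sign_mul_self hε] at this
  have h14 : ∀ v, φ v = v → xG 14 v ∈ M := by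
    intro v hv
    obtain ⟨ε', hε', h⟩ := nA_conj_14 K
    have h5 := h22' _ (phi_sign hε' hv)
    rw [← h] at h5
    have := M.mul_mem (M.mul_mem (M.inv_mem hnA) h5) hnA
    have e : (nA K)⁻¹ * (nA K * xG 14 v * (nA K)⁻¹) * nA K = xG 14 v := by group
    rwa [e] at this
  refine twisted_induction hφ ?_ ?_ hX hY
  · intro t ht
    rw [xU_eq]
    exact h14 t ht
  · intro t ht
    rw [xU_eq]
    obtain ⟨ε', hε', h⟩ := nB_conj_14 K
    have h5 := M.mul_mem (M.mul_mem hnB (h14 _ (phi_sign hε' ht))) (M.inv_mem hnB)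
    rwa [h, _root_.Cfsg.Agent.ChevalleyStructure.D4Perfect.sign_mul_self hε'] at h5

theorem torG_pow (c : Fin 4 → Kˣ) (k : ℕ) : (torG c : GL chevD4.Idx K) ^ k = torG (c ^ k) := by
  induction k with
  | zero => rw [pow_zero, pow_zero, torG_one]
  | succ k ih => rw [pow_succ, pow_succ, ih, torG_mul]

theorem exp_diag [Fintype K] {g : GL chevD4.Idx K} (hg : g ∈ chevD4.diagonalSubgroup K) :
    g ^ (Fintype.card K - 1) = 1 := by
  obtain ⟨c, rfl⟩ := diagonal_le_torus K hg
  rw [torG_pow]
  have h1 : c ^ (Fintype.card K - 1) = 1 := by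
    funext i
    apply Units.ext
    rw [Pi.pow_apply, Units.val_pow_eq_pow_val, Pi.one_apply, Units.val_one]
    exact FiniteField.pow_card_sub_one_eq_one _ (c i).ne_zero
  rw [h1, torG_one]

theorem xG_inj17 {t u : K} (h : (xG 17 t : GL chevD4.Idx K) = xG 17 u) : t = u :=
  (three_inj (a := 17) (b := 20) (c := 21) (t2 := 0) (t3 := 0) (u2 := 0) (u3 := 0) (by decide) (by decide) (by decide)
    (by decide +kernel) (by rw [h])).1

/-- the torus data of `³D₄(q)` -/
theorem tor [Fintype K] (hq : IsPrimePow q) (hK : Fintype.card K = q ^ 3) (p : ℕ) [CharP K p] :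
    Tor p ↥(twistedD4 K q) := by
  classical
  obtain ⟨φ, hφ⟩ := exists_frob hq hK
  have hvT : vv K ∈ twistedD4 K q := mul_mem (nA_mem_twisted hφ) (nB_mem_twisted hφ)
  have hvN : vv K ∈ chevD4.monomialSubgroup K := mul_mem (nA_mem K) (nB_mem K)
  refine Tw.tor_sub (A := chevD4.diagonalSubgroup K) (n := (vv K)⁻¹) (u := X φ 1)
    (Tw.not_dvd_of_exp (F := K) p _ fun g hg => exp_diag hg) (fun a ha => conj_mem_diagonal (inv_mem hvN) ha)
    (inv_mem hvT) (X_mem hφ 1) (gen hq hK hφ) ?_
  by_cases hp2 : p = 2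
  · subst hp2
    refine Or.inl ⟨rfl, ?_, fun h => ?_⟩
    · rw [pow_two, X_mul, CharTwo.add_self_eq_zero, X_zero]
    · rw [← X_zero (φ := φ)] at h
      exact one_ne_zero (X_inj h)
  · refine Or.inr ⟨hA φ (-1 : K), hA_mem_diagonal (neg_ne_zero.2 one_ne_zero), hA_mem hφ _, fun h => ?_, ?_⟩
    · have h4 := hA_conj (φ := φ) (s := 17) (by norm_num) (c := (-1 : K)) (neg_ne_zero.2 one_ne_zero) 1
      obtain ⟨e1, e2, e3⟩ := cart_vals
      rw [h, one_mul, inv_one, mul_one, e1, e2, e3, zpow_one, zpow_one, zpow_neg_one, mul_one, map_neg, map_one,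
        map_neg, map_one, inv_neg, inv_one, neg_one_mul, neg_one_mul, neg_neg] at h4
      have h5 := xG_inj17 h4
      have : CharP K 2 := by
        apply CharTwo.of_one_ne_zero_of_two_eq_zero one_ne_zero
        rw [← one_add_one_eq_two]
        nth_rewrite 1 [h5]
        ring
      exact hp2 (CharP.eq K ‹_› this)
    · have h1 := hA_conj_X (φ := φ) (c := (-1 : K)) (neg_ne_zero.2 one_ne_zero) 1
      rw [neg_one_sq, one_mul] at h1
      exact mul_inv_eq_iff_eq_mul.1 h1

end Cfsg.Agent.H288.DG.TwD4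
end

-- part: H288/DG/TwE6
section
/-!
# TEAM GEN: the torus data of `²E₆(q)` (helper288, for S4180; the generation is helper136's proof of S2406)
-/

set_option autoImplicit false
set_option linter.unusedSectionVars false

namespace Cfsg.Agent.H288.DG.TwE6

open Cfsg.Lie Cfsg.Agent.ChevalleyStructure.TwE6Basic Cfsg.Agent.H136 Cfsg.Agent.H136.TwE6
open Cfsg.Agent.ChevalleyStructure.Elts (hG nG xG coe_hG coe_xG hG_def nG_def wordG_cons wordG_nil eq_hG_iff
  hG_mem_diagonal nG_one_mem_monomial)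

universe u

variable {K : Type u} [Field K] {φ : K →+* K} {q : ℕ}

theorem gen [Fintype K] (hq : IsPrimePow q) (hK : Fintype.card K = q ^ 2)
    (hφ : ∀ t, φ t = t ^ q) (hqq : ∀ t : K, (t ^ q) ^ q = t) (M : Subgroup (GL chevE6.Idx K))
    (hM : chevE6.diagonalSubgroup K ⊓ twistedE6 K q ≤ M) (hb : P φ 1 * w K ∈ M) : twistedE6 K q ≤ M := by
  have hfix := twisted_le_fix φ hφ hqq
  have hφφ : ∀ t, φ (φ t) = t := by intro t; rw [hφ, hφ, hqq]
  have hq2 : 2 ≤ q := hq.two_le
  have hq3 : 2 ^ 2 ≤ q ^ 2 := Nat.pow_le_pow_left hq2 2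
  obtain ⟨c, hc⟩ := IsCyclic.exists_generator (α := Kˣ)
  have hc0 : (c : K) ≠ 0 := c.ne_zero
  have hord : orderOf c = q ^ 2 - 1 := by
    rw [orderOf_eq_card_of_forall_mem_zpowers hc, Nat.card_units, Nat.card_eq_fintype_card, hK]
  have hc2 : (c : K) ^ 2 ≠ 1 := by
    intro h1
    have h2 : c ^ 2 = 1 := Units.ext (by rw [Units.val_pow_eq_pow_val, h1, Units.val_one])
    have := Nat.le_of_dvd (by norm_num) (orderOf_dvd_of_pow_eq_one h2)
    omega
  have hc1 : (c : K) ≠ 1 := by
    intro h; apply hc2; rw [h, one_pow]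
  have hwT := w_mem (K := K) hφ
  have hhT := hh_mem (K := K) hφ (c : K)
  have ha : hh φ (c : K) ∈ M := hM ⟨hh_mem_diag hc0, hhT⟩
  obtain ⟨hXM, hwM⟩ := TwoGen.torus_trick M (XS φ) (h := hh φ (c : K)) (w := w K) (u := P φ 1) ha hb
    ⟨1, rfl⟩
    (by
      rintro _ ⟨t, rfl⟩
      exact ⟨_, h1_P hc0 t⟩)
    (by
      rintro _ ⟨t, rfl⟩
      refine ⟨(c : K) * t, ?_⟩
      have h := h1_P (φ := φ) hc0 ((c : K) * t)
      rw [inv_mul_cancel_left₀ hc0] at h
      rw [← h]; group)
    (irr hc)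
    ⟨P φ 1, ⟨1, rfl⟩, fun h => by
      have h2 := hh_P (φ := φ) hc0 1
      rw [h, mul_inv_cancel_right] at h2
      have h3 := P_inj h2
      rw [mul_one] at h3
      exact hc2 h3.symm⟩
    (by
      rintro _ ⟨t, rfl⟩
      exact ⟨_, hh_P hc0 t⟩)
    (diag_comm (hh_mem_diag hc0) (conj_mem_diag w_mono (hh_mem_diag hc0)))
    (fun h => by
      have h2 := h1_P (φ := φ) hc0 1
      rw [h, mul_inv_cancel_right] at h2
      have h3 := P_inj h2
      rw [mul_one] at h3
      exact hc1 (inv_eq_one.1 h3.symm))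
  have hwf : w K ∈ fix φ := hfix hwT
  obtain ⟨w1, w2, w3, w4, w5, w6, w7, r1, r2, r3, r4⟩ := W_vals
  have h36 : Short φ M 36 := by
    intro a b hab
    rw [r4] at hab ⊢
    change x 36 a * x 56 b ∈ fix φ at hab
    change x 36 a * x 56 b ∈ M
    rw [c56] at hab ⊢
    rw [fix56 hab]
    exact hXM ⟨b, rfl⟩
  have h29 : Short φ M 29 := by rw [← w1]; exact Short.iter hwM hwf h36 5
  have h15 : Short φ M 15 := by rw [← w2]; exact Short.iter hwM hwf h36 6
  have h40 : Short φ M 40 := by rw [← w3]; exact Short.iter hwM hwf h36 8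
  have h37 : Short φ M 37 := by rw [← w4]; exact Short.iter hwM hwf h36 11
  have h39 : Long φ M 39 := by
    refine long39 hφφ (fun v hv => FieldLem.exists_trace_two hq2 hK φ hφ hv) h40 h29 ?_
    have := pair_mem (K := K) (q := q) (1 : K) (rs := (29, 34)) (by simp)
    rw [one_pow] at this
    exact hfix this
  have h25 : Long φ M 25 := by rw [← w5]; exact Long.iter hwM hwf h39 5
  have h32 : Long φ M 32 := by rw [← w6]; exact Long.iter hwM hwf h39 6
  have h46 : Long φ M 46 := by rw [← w7]; exact Long.iter hwM hwf h39 11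
  rw [twisted_le_iff]
  constructor
  · intro t ht r hr
    have hf : x r t ∈ fix φ := hfix (single_mem ht hr)
    simp only [List.mem_cons, List.not_mem_nil, or_false] at hr
    rcases hr with rfl | rfl | rfl | rfl
    · exact h46 t hf
    · exact h25 t hf
    · exact h39 t hf
    · exact h32 t hf
  · intro t rs hr
    have hf : x rs.1 t * x rs.2 (t ^ q) ∈ fix φ := hfix (pair_mem t hr)
    simp only [List.mem_cons, List.not_mem_nil, or_false] at hr
    rcases hr with rfl | rfl | rfl | rfl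
    · rw [← hφ]
      exact hXM ⟨t, rfl⟩
    · exact h15 t (t ^ q) hf
    · have hcm : x 42 t * x 37 (t ^ q) = x 37 (t ^ q) * x 42 t :=
        comm_class (K := K) (i := 2) (r := 37) (s := 42) (by decide +kernel) (by decide +kernel) (by decide)
          (by decide +kernel) _ _
      change x 42 t * x 37 (t ^ q) ∈ fix φ at hf
      change x 42 t * x 37 (t ^ q) ∈ M
      rw [hcm] at hf ⊢
      exact h37 (t ^ q) t hf
    · exact h29 t (t ^ q) hf

theorem exp_diag [Fintype K] {g : GL chevE6.Idx K} (hg : g ∈ chevE6.diagonalSubgroup K) :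
    g ^ (Fintype.card K - 1) = 1 := by
  obtain ⟨d, hd⟩ := diag_of hg
  apply Units.ext
  rw [Units.val_pow_eq_pow_val, hd, Matrix.diagonal_pow, Units.val_one]
  have h1 : ∀ i, d i ≠ 0 := by
    intro i h0
    have h2 : (g : Matrix chevE6.Idx chevE6.Idx K) * ((g⁻¹ : GL chevE6.Idx K) : Matrix chevE6.Idx chevE6.Idx K) = 1 := by
      rw [← Units.val_mul, mul_inv_cancel, Units.val_one]
    have h3 := congrFun (congrFun h2 i) i
    rw [hd, Matrix.diagonal_mul, h0, zero_mul, Matrix.one_apply_eq] at h3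
    exact zero_ne_one h3
  rw [← Matrix.diagonal_one]
  congr 1
  funext i
  exact FiniteField.pow_card_sub_one_eq_one (d i) (h1 i)

/-- the torus data of `²E₆(q)` -/
theorem tor [Fintype K] (hq : IsPrimePow q) (hK : Fintype.card K = q ^ 2) (p : ℕ) [CharP K p] :
    Tor p ↥(twistedE6 K q) := by
  classical
  obtain ⟨φ, hφ, hqq⟩ := exists_frob hq hK
  have hPT : P φ 1 ∈ twistedE6 K q := by
    have := pair_mem (K := K) (q := q) (1 : K) (rs := (56, 36)) (by simp)
    rw [← hφ] at this
    exact this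
  refine Tw.tor_sub (A := chevE6.diagonalSubgroup K) (n := w K) (u := P φ 1)
    (Tw.not_dvd_of_exp (F := K) p _ fun g hg => exp_diag hg) (fun a ha => conj_mem_diag w_mono ha) (w_mem hφ) hPT
    (gen hq hK hφ hqq) ?_
  by_cases hp2 : p = 2
  · subst hp2
    refine Or.inl ⟨rfl, ?_, fun h => ?_⟩
    · rw [pow_two, P_add, CharTwo.add_self_eq_zero, P_zero]
    · rw [← P_zero (φ := φ)] at h
      exact one_ne_zero (P_inj h)
  · refine Or.inr ⟨hh φ (-1 : K), hh_mem_diag (neg_ne_zero.2 one_ne_zero), hh_mem hφ _, fun h => ?_, ?_⟩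
    · have h4 := hh_conj (φ := φ) (s := 42) (by norm_num) (c := (-1 : K)) (neg_ne_zero.2 one_ne_zero) 1
      have c1 : chevE6.cartan 0 42 = -1 ∧ chevE6.cartan 5 42 = 0 := by decide +kernel
      rw [h, one_mul, inv_one, mul_one, c1.1, c1.2, zpow_zero, zpow_neg_one, one_mul, mul_one, inv_neg, inv_one] at h4
      have h5 := x_injective (K := K) (r := 42) (by norm_num) h4
      have : CharP K 2 := by
        apply CharTwo.of_one_ne_zero_of_two_eq_zero one_ne_zero
        rw [← one_add_one_eq_two]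
        nth_rewrite 1 [h5]
        ring
      exact hp2 (CharP.eq K ‹_› this)
    · have h1 := hh_P (φ := φ) (c := (-1 : K)) (neg_ne_zero.2 one_ne_zero) 1
      rw [neg_one_sq, one_mul] at h1
      exact mul_inv_eq_iff_eq_mul.1 h1

end Cfsg.Agent.H288.DG.TwE6
end

-- part: H288/DG/TwRow
section
/-!
# TEAM GEN: `CohAt` for `³D₄(q)` and `²E₆(q)` in the defining characteristic (helper288, for S4180)
-/

set_option autoImplicit false

namespace Cfsg.Agent.H288.DG.TwRow

open Cfsg.Lie Cfsg.Agent.H891.DG Cfsg.Agent.H288.DG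

universe u v

variable {T : Type u} [Group T] [Finite T] [IsSimpleGroup T] {K : Type v} [Field K] [Fintype K] {q : ℕ}

/-- `q` is a prime power -/
theorem isPrimePow_of {n : ℕ} (hn : n ≠ 0) (hK : Fintype.card K = q ^ n) : IsPrimePow q :=
  (isPrimePow_pow_iff hn).1 (hK ▸ (FiniteField.isPrimePow_card K))

/-- **³D₄(q)** -/
theorem cohAt_twD4 (e : T ≃* ↥(twistedD4 K q)) (hK : Fintype.card K = q ^ 3) (p : ℕ) [CharP K p] : CohAt p T :=
  cohAt_of_tor (CharP.char_is_prime K p) ((TwD4.tor (isPrimePow_of (by norm_num) hK) hK p).congr e.symm)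

/-- **²E₆(q)** -/
theorem cohAt_twE6 (e : T ≃* ↥(twistedE6 K q)) (hK : Fintype.card K = q ^ 2) (p : ℕ) [CharP K p] : CohAt p T :=
  cohAt_of_tor (CharP.char_is_prime K p) ((TwE6.tor (isPrimePow_of (by norm_num) hK) hK p).congr e.symm)

end Cfsg.Agent.H288.DG.TwRow
end

private theorem dce_c6259aee1853 : _root_.True := by
  try have : _root_.True := by simp only [_root_.Cfsg.Agent.H68.DG.Ly.ex.eq_1]
  exact _root_.True.intro
end

-- part: H555/DG/TitsCoh_mg
section
prune_inst 0x4f1307d441d80120000180082f1001c46ee000192100b8001d8e00a4007867e626d02ae61f4e02b12082a8244003d006813080090424000000e000400411d01a090ab520eb358a10c66008f809086000000000000000000000000000000041004000000000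
set_option linter.all false
open scoped Cfsg.Agent.FastGrp

-- part: H555/DG/TitsGen
section
/-!
# The Tits group is generated by an involution and another element (helper555)

`c = Z₄` and `b = Z₆ Z₁ Z₂ Z₀` (of order `10`) generate the eight central involutions of an apartment. The words are
checked in the 52-dimensional representation.
-/

set_option autoImplicit false
set_option maxRecDepth 100000

namespace Cfsg.Agent.H555.DG.TitsGen

open Cfsg.Agent.ChevalleyStructure.Tits.Pack Cfsg.Agent.ChevalleyStructure.Tits.Data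
  Cfsg.Agent.ChevalleyStructure.Tits.Sat Cfsg.Agent.ChevalleyStructure.Tits.Final
  Cfsg.Agent.ChevalleyStructure.Tits.Mat Cfsg.Agent.ChevalleyStructure.Tits.Order
  Cfsg.Agent.ChevalleyStructure.Tits.Main Cfsg.Agent.Omega.TitsIso.TitsSideRel
  Cfsg.Agent.Omega.TitsIso.TitsSide Cfsg.Agent.H440.TwoGen

/-- `c = Z₄` -/
def c : List (ZMod 8) := [4]
/-- `b = Z₆ Z₁ Z₂ Z₀` -/
def b : List (ZMod 8) := [6, 1, 2, 0]
/-- `b⁻¹` -/
def b' : List (ZMod 8) := [0, 2, 1, 6]

/-- words of the eight involutions in `c, b` -/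
def wl : List (List (List (ZMod 8))) := [
  [b, b, b, b, b],
  [b, b, b, b, b, c, b', c, b, c, b', c, b, c],
  [b', c, b, c, b, c, b', b', c, b, b, c, b', b', c, b, c, b, c],
  [b', c, b, c, b, b, b, b, b, c, b', c, b, c],
  [c],
  [b, c, b, c, b, c, b, b, c, b, c, b, c, b],
  [b, b, c, b', b', c, b, b, c, b', b', c, b, b, c],
  [b, b, b, c, b', c, b, c, b', c, b, c, b, b]]
/-- word of `Z i` -/
def w (i : ZMod 8) : List (List (ZMod 8)) := wl.getD i.val []

theorem w_mem : ∀ i : ZMod 8, ∀ l ∈ w i, l ∈ [c, b, b'] := by decide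

theorem chk_w : ∀ i : ZMod 8, chk (zz [i], zz (w i).flatten) = true := by decide +kernel

theorem chk_b : chk (zz (b ++ b'), zz []) = true := by decide +kernel
theorem chk_c : chk (zz (c ++ c), zz []) = true := by decide +kernel

/-- abstract form -/
theorem gen_abs {M : Type*} [Group M] (Z : ZMod 8 → M)
    (rel : ∀ l m : List (ZMod 8), chk (zz l, zz m) = true → (l.map Z).prod = (m.map Z).prod)
    (hZ : Subgroup.closure (Set.range Z) = ⊤) :
    ∃ x y : M, x ^ 2 = 1 ∧ Subgroup.closure ({x, y} : Set M) = ⊤ := by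
  refine ⟨(c.map Z).prod, (b.map Z).prod, ?_, ?_⟩
  · have h1 := rel _ _ chk_c
    rw [List.map_append, List.prod_append, List.map_nil, List.prod_nil] at h1
    rw [pow_two, h1]
  set N := Subgroup.closure ({(c.map Z).prod, (b.map Z).prod} : Set M) with hN
  have hc : (c.map Z).prod ∈ N := Subgroup.subset_closure (Or.inl rfl)
  have hb : (b.map Z).prod ∈ N := Subgroup.subset_closure (Or.inr rfl)
  have hinv : ∀ l m : List (ZMod 8), chk (zz (l ++ m), zz []) = true → (l.map Z).prod ∈ N →
      (m.map Z).prod ∈ N := by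
    intro l m h hl
    have h1 := rel _ _ h
    rw [List.map_append, List.prod_append, List.map_nil, List.prod_nil] at h1
    rw [← inv_eq_of_mul_eq_one_right h1]
    exact N.inv_mem hl
  have hb' := hinv b b' chk_b hb
  have hall : ∀ l ∈ [c, b, b'], (l.map Z).prod ∈ N := by
    intro l hl
    simp only [List.mem_cons, List.not_mem_nil, or_false] at hl
    rcases hl with rfl | rfl | rfl
    · exact hc
    · exact hb
    · exact hb'
  have hflat : ∀ ls : List (List (ZMod 8)), (∀ l ∈ ls, l ∈ [c, b, b']) → (ls.flatten.map Z).prod ∈ N := by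
    intro ls
    induction ls with
    | nil => intro _; exact N.one_mem
    | cons l ls ih =>
      intro h
      rw [List.flatten_cons, List.map_append, List.prod_append]
      exact N.mul_mem (hall l (h l List.mem_cons_self)) (ih fun m hm => h m (List.mem_cons_of_mem _ hm))
  have hZN : ∀ i, Z i ∈ N := by
    intro i
    have h1 := rel _ _ (chk_w i)
    rw [List.map_singleton, List.prod_singleton] at h1
    rw [h1]
    exact hflat _ (w_mem i)
  rw [eq_top_iff, ← hZ, Subgroup.closure_le]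
  rintro _ ⟨i, rfl⟩
  exact hZN i

theorem gen_model : ∃ x y : ↥(commutator ChevalleyStructure.Tits.Order.H0), x ^ 2 = 1 ∧
    Subgroup.closure ({x, y} : Set _) = ⊤ :=
  gen_abs ZC (fun _ _ h => Cfsg.Agent.H440.TwoGen.Tits.rel h) closure_ZC

theorem gen_of_eq (K : Subgroup (GL I52 (ZMod 2))) (hK : K = ChevalleyStructure.Tits.Order.H0) :
    ∃ x y : ↥(commutator K), x ^ 2 = 1 ∧ Subgroup.closure ({x, y} : Set _) = ⊤ := by
  subst hK
  exact gen_model

theorem gen_titsGroup : ∃ x y : Cfsg.Lie.TitsGroup, x ^ 2 = 1 ∧ Subgroup.closure ({x, y} : Set _) = ⊤ :=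
  gen_of_eq (Cfsg.Lie.twistedF4 (ZMod 2) 1) T0_eq_H0

/-- the Tits group is generated by an involution and another element -/
theorem gen_tits {T : Type*} [Group T] (h : Cfsg.Lie.IsoTits T) (hna : ¬ IsMulCommutative T) :
    ∃ x y : T, x ^ 2 = 1 ∧ x ≠ 1 ∧ Subgroup.closure ({x, y} : Set T) = ⊤ := by
  obtain ⟨e⟩ := h
  obtain ⟨x, y, hx, hxy⟩ := gen_titsGroup
  have hg : Subgroup.closure ({e.symm x, e.symm y} : Set T) = ⊤ := by
    have h1 := congrArg (Subgroup.map (e.symm : Cfsg.Lie.TitsGroup →* T)) hxy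
    rw [MonoidHom.map_closure, Set.image_pair, ← MonoidHom.range_eq_map,
      MonoidHom.range_eq_top.mpr e.symm.surjective] at h1
    exact h1
  refine ⟨e.symm x, e.symm y, by rw [← map_pow, hx, map_one], ?_, hg⟩
  intro h1
  apply hna
  rw [h1] at hg
  have hcyc : IsCyclic T := by
    refine ⟨e.symm y, fun z => ?_⟩
    have hz : z ∈ Subgroup.closure ({1, e.symm y} : Set T) := by rw [hg]; trivial
    have : Subgroup.closure ({1, e.symm y} : Set T) ≤ Subgroup.zpowers (e.symm y) := by
      rw [Subgroup.closure_le]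
      rintro s (rfl | rfl)
      · exact Subgroup.one_mem _
      · exact Subgroup.mem_zpowers _
    exact this hz
  exact IsCyclic.isMulCommutative

end Cfsg.Agent.H555.DG.TitsGen
end

-- part: H555/DG/CohInv
section
/-!
# `Coh T` for a simple group generated by an involution and another element (helper555)
-/

set_option autoImplicit false

namespace Cfsg.Agent.H555.DG.CohInv

open Cfsg.Agent.H440.TwoGen Cfsg.Agent.H891.Gen Cfsg.Agent.H891.DG Cfsg.Agent.H490.Der Cfsg.Agent.H490 Subgroup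

universe u

/-- the kernel of a nontrivial action of a simple group -/
theorem faithful {T : Type u} [Group T] [IsSimpleGroup T] {V : Type u} [AddCommGroup V] [DistribMulAction T V]
    (hne : ∃ (g : T) (v : V), g • v ≠ v) {x : T} (hx : ∀ v : V, x • v = v) : x = 1 := by
  let K : Subgroup T :=
    { carrier := {g | ∀ v : V, g • v = v}
      one_mem' := fun v => one_smul _ v
      mul_mem' := fun {a b} ha hb v => by rw [mul_smul, hb v, ha v]
      inv_mem' := fun {a} ha v => by
        have h := ha (a⁻¹ • v)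
        rw [smul_inv_smul] at h
        exact h.symm }
  have hK : K.Normal := ⟨fun n hn g v => by
    have h : n • (g⁻¹ • v) = g⁻¹ • v := hn _
    rw [mul_smul, mul_smul, h, smul_inv_smul]⟩
  rcases hK.eq_bot_or_eq_top with h | h
  · have : x ∈ K := hx
    rw [h] at this
    exact Subgroup.mem_bot.1 this
  · obtain ⟨g, v, hgv⟩ := hne
    have : g ∈ K := by rw [h]; trivial
    exact absurd (this v) hgv

/-- a simple group generated by an involution and another element -/
theorem coh_inv {T : Type u} [Group T] [Finite T] [IsSimpleGroup T] (hna : ¬ IsMulCommutative T) {c b : T}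
    (hc : c ^ 2 = 1) (hc1 : c ≠ 1) (h : _root_.Subgroup.closure ({c, b} : Set T) = ⊤) : Coh T := by
  intro p hp V _ _ _ hV hirr hne
  have hcc : c * c = 1 := by rw [← pow_two, hc]
  by_cases hfix : ∃ v : V, v ≠ 0 ∧ c • v = v
  · by_cases hp2 : p = 2
    · subst hp2
      obtain ⟨v, hv⟩ : ∃ v : V, c • v ≠ v := by
        by_contra hcon
        push Not at hcon
        exact hc1 (faithful hne hcon)
      exact small_of_involution hV h hc hv
    · obtain ⟨v, hv0, hv⟩ := hfix
      exact small_of_fixed hp hV h hc (fun hd => hp2 ((Nat.prime_dvd_prime_iff_eq hp Nat.prime_two).1 hd)) hv0 hv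
  · exfalso
    have hneg : ∀ v : V, c • v = -v := by
      intro v
      by_contra hcon
      apply hfix
      refine ⟨v + c • v, fun h0 => hcon ?_, ?_⟩
      · rw [eq_neg_iff_add_eq_zero, add_comm]; exact h0
      · rw [smul_add, ← mul_smul, hcc, one_smul, add_comm]
    have hcen : ∀ x : T, x * c = c * x := by
      intro x
      have h1 : x * c * x⁻¹ * c⁻¹ = 1 := by
        apply faithful hne
        intro v
        have hci : c⁻¹ • v = -v := by
          rw [inv_smul_eq_iff, smul_neg, hneg, neg_neg]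
        rw [mul_smul, hci, mul_smul, mul_smul, hneg, smul_neg, smul_neg, smul_neg, neg_neg, smul_inv_smul]
      have h2 : x * c = c * x := by
        have h3 := mul_inv_eq_one.1 h1
        rw [mul_inv_eq_iff_eq_mul] at h3
        exact h3
      exact h2
    have hmem : c ∈ Subgroup.center T := Subgroup.mem_center_iff.2 hcen
    rcases (inferInstance : (Subgroup.center T).Normal).eq_bot_or_eq_top with hb | ht
    · rw [hb] at hmem
      exact hc1 (Subgroup.mem_bot.1 hmem)
    · apply hna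
      refine ⟨⟨fun a d => ?_⟩⟩
      have : d ∈ Subgroup.center T := by rw [ht]; trivial
      exact Subgroup.mem_center_iff.1 this a

end Cfsg.Agent.H555.DG.CohInv
end

-- part: H555/DG/TitsCoh
section
/-!
# S4180, task K10j: `Coh` for the Tits group (helper555)
-/

set_option autoImplicit false

namespace Cfsg.Agent.H555.DG.TitsCoh

open Cfsg.Agent.H891.DG

universe u

/-- **`Coh` for the Tits group** (the field `Rows.tits` of `Rows Coh`). -/
theorem coh_tits {T : Type u} [Group T] [Finite T] [IsSimpleGroup T] (h : Cfsg.Lie.IsoTits T) : Coh T := by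
  have hna : ¬ IsMulCommutative T := by
    intro hc
    obtain ⟨e⟩ := h
    apply (Cfsg.Agent.Omega.TitsIso.TitsSide.facts).2.1
    refine ⟨⟨fun a b => ?_⟩⟩
    have h1 : e.symm a * e.symm b = e.symm b * e.symm a := hc.1.1 _ _
    rw [← map_mul, ← map_mul] at h1
    exact e.symm.injective h1
  obtain ⟨c, b, hc, hc1, hcb⟩ := TitsGen.gen_tits h hna
  exact CohInv.coh_inv hna hc hc1 hcb

end Cfsg.Agent.H555.DG.TitsCoh
end

-- part: H569/DG/GenJTwo
section
/-!
# `J2` is generated by an involution and an element (helper569, for S4180)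
-/

set_option autoImplicit false

namespace Cfsg.Agent.H569.DG

open Cfsg Cfsg.Agent.H994.TwoGen.Words Cfsg.Agent.J2.HundredGens Cfsg.Agent.SporadicA.J2Hundred

namespace JTwo

/-- the involution -/
def wX : List ℕ := [3]
/-- the second element, of order 10 -/
def wY : List ℕ := [4, 2, 1, 0]
/-- its inverse -/
def wYi : List ℕ := [0, 1, 2, 4]

theorem chk_X : val gen (wX ++ wX) = 1 := pw_eq (L := wX ++ wX) (M := []) (by decide +kernel)
theorem chk_Y : val gen (wY ++ wYi) = 1 := pw_eq (L := wY ++ wYi) (M := []) (by decide +kernel)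

/-- the group generated by the two elements -/
def H : Subgroup (Equiv.Perm (Fin 100)) := Subgroup.closure {val gen wX, val gen wY}

theorem mem {w : List ℕ} {k : ℕ} (h : chk (expand wX wY wX wYi w ++ [k]) [] = true) : gen k ∈ H :=
  mem_of_word gen chk_X chk_Y (pw_eq h)

theorem mem_0 : gen 0 ∈ H := mem (w := [1, 0, 3, 0, 1, 0, 3, 0, 1, 0, 3, 0]) (by decide +kernel)
theorem mem_1 : gen 1 ∈ H := mem (w := [3, 3, 0, 1, 1, 0, 3, 3, 0, 1, 1, 0]) (by decide +kernel)
theorem mem_2 : gen 2 ∈ H := mem (w := [3, 3, 3, 0, 1, 1, 0, 3, 3, 0, 1, 1, 0, 1]) (by decide +kernel)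
theorem mem_3 : gen 3 ∈ H := mem (w := [0]) (by decide +kernel)
theorem mem_4 : gen 4 ∈ H := mem (w := [1, 1, 1, 1, 1]) (by decide +kernel)

theorem G_le : G ≤ H := by
  rw [G, Subgroup.closure_le]
  rintro _ (rfl | rfl | rfl | rfl | rfl)
  · exact mem_0
  · exact mem_1
  · exact mem_2
  · exact mem_3
  · exact mem_4

theorem H_le : H ≤ G := by
  rw [H, Subgroup.closure_le]
  rintro _ (rfl | rfl)
  · exact pw_mem wX
  · exact pw_mem wY

theorem H_eq : Subgroup.closure ({val gen wX, val gen wY} : Set (Equiv.Perm (Fin 100))) = G :=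
  le_antisymm H_le G_le

theorem sq : val gen wX ^ 2 = 1 := by
  rw [pow_two, ← val_append]
  exact chk_X

theorem ne : val gen wX ≠ 1 := by
  intro h
  have h1 : ((pw wX (0 : Fin 100) : Fin 100) : ℕ) = run wX 0 := pw_val wX 0
  have h2 : pw wX = 1 := h
  rw [h2] at h1
  revert h1
  decide +kernel

end JTwo

/-- **`J2` is generated by an involution and another element.** -/
theorem invGen_j2 {T : Type*} [Group T] (h : Cfsg.Spor.IsoJ2 T) : InvGen T := by
  obtain ⟨e⟩ := h
  obtain ⟨f⟩ := J2_iso Cfsg.Agent.S1619.result.2.2.2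
  exact (InvGen.of_closure JTwo.sq JTwo.ne JTwo.H_eq).congr (e.trans f)

theorem notComm_j2 {T : Type*} [Group T] [Finite T] [IsSimpleGroup T] (h : Cfsg.Spor.IsoJ2 T) :
    ¬ IsMulCommutative T := by
  obtain ⟨e⟩ := h
  exact not_comm_of_card (n := 604800) ((Nat.card_congr e.toEquiv).trans Cfsg.Agent.S1619.result.2.2.2) (by norm_num)

end Cfsg.Agent.H569.DG
end

-- part: H569/DG/GenJThree
section
/-!
# `J3` is generated by an involution and an element (helper569, for S4180)

`3·J3 = ⟨C, B D⟩` with `C = C_1` and `B D = B_{1+i} D_i`.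
-/

set_option autoImplicit false
set_option maxRecDepth 100000

namespace Cfsg.Agent.H569.DG

namespace JThree

open Cfsg.Spor Cfsg.Agent.J3.Core Cfsg.Agent.J3.Tab Cfsg.Agent.J3.Mono Cfsg.Agent.J3.Elts
open Cfsg.Agent.Lib.BitSet Cfsg.Agent.J3.Order Cfsg.Agent.J3.Nineteen Cfsg.Agent.J3.Simple Matrix

/-- table of `Q = B D` -/
def tQ : List ℕ := compT (tB u0) (tD j)
/-- table of `Q⁻¹` -/
def tQ' : List ℕ := powT tQ 7

/-- tables of the letters `C, Q, Q⁻¹` -/
def tl : ℕ → List ℕ
  | 0 => tC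
  | 1 => tQ
  | _ => tQ'

/-- table of a word -/
def evT : List ℕ → List ℕ
  | [] => tS 0
  | l :: w => compT (tl l) (evT w)

/-- word for `B` -/
def wb : List ℕ := [2, 2, 0, 2, 0, 2, 2, 0, 2, 2, 2, 0, 2, 0, 2, 0, 1, 0, 1, 0, 1, 1, 0, 2, 2, 2]
/-- word for `D` -/
def wd : List ℕ := [2, 0, 1, 1, 0, 1, 1, 1, 0, 2, 2, 2, 0, 1, 0, 1, 0, 1, 0, 1, 1, 0, 1, 1, 0, 2]

theorem chk_b : beqL (cols (evT wb)) (cols (tB u0)) = true := by decide +kernel
theorem chk_d : beqL (cols (evT wd)) (cols (tD j)) = true := by decide +kernel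
theorem chk_c2 : beqL (cols (evT [0, 0])) (cols (tS 0)) = true := by decide +kernel

section
variable {F : Type*} [Field F] {ω : F}

/-- the letters as group elements -/
def xl (G : Gens F ω) : ℕ → threeJ3 F ω
  | 0 => G.c
  | 1 => G.b u0 * G.d j
  | _ => (G.b u0 * G.d j) ^ 7

theorem rep_l (H : Good ω) (G : Gens F ω) (l : ℕ) : RepG ω (tl l) (xl G l) := by
  have h0 : RepG ω tC G.c := rC G H
  have h2 : RepG ω tQ (G.b u0 * G.d j) := (rB G H u0 u0_ne).mul (rD G H j)
  match l with
  | 0 => exact h0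
  | 1 => exact h2
  | n + 2 => exact h2.pow H 7

theorem rep_w (H : Good ω) (G : Gens F ω) (w : List ℕ) : RepG ω (evT w) (w.map (xl G)).prod := by
  induction w with
  | nil => exact repG_one H
  | cons l w ih =>
    rw [List.map_cons, List.prod_cons]
    exact (rep_l H G l).mul ih

theorem mem_w (G : Gens F ω) {N : Subgroup (threeJ3 F ω)} (hP : G.c ∈ N) (hQ : G.b u0 * G.d j ∈ N)
    (w : List ℕ) : (w.map (xl G)).prod ∈ N := by
  apply Subgroup.list_prod_mem
  intro y hy
  obtain ⟨l, -, rfl⟩ := List.mem_map.1 hy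
  match l with
  | 0 => exact hP
  | 1 => exact hQ
  | n + 2 => exact N.pow_mem hQ 7

theorem closure_eq (H : Good ω) (G : Gens F ω) :
    Subgroup.closure ({G.c, G.b u0 * G.d j} : Set (threeJ3 F ω)) = ⊤ := by
  set N := Subgroup.closure ({G.c, G.b u0 * G.d j} : Set (threeJ3 F ω)) with hN
  have hP : G.c ∈ N := Subgroup.subset_closure (by simp)
  have hQ : G.b u0 * G.d j ∈ N := Subgroup.subset_closure (by simp only [_root_.Set.mem_insert_iff, _root_.Set.mem_singleton_iff, _root_.or_true])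
  have hb : G.b u0 ∈ N := by
    rw [← (rep_w H G wb).ext (rB G H u0 u0_ne) (beqL_eq chk_b)]
    exact mem_w G hP hQ wb
  have hd : G.d j ∈ N := by
    rw [← (rep_w H G wd).ext (rD G H j) (beqL_eq chk_d)]
    exact mem_w G hP hQ wd
  rw [eq_top_iff, ← H440.TwoGen.JThree.closure_eq H G, Subgroup.closure_le]
  rintro _ (rfl | rfl)
  · exact hb
  · exact N.mul_mem hP hd

theorem c_sq (H : Good ω) (G : Gens F ω) : G.c ^ 2 = 1 := by
  have h := (rep_w H G [0, 0]).ext (repG_one H) (beqL_eq chk_c2)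
  rw [pow_two]
  simpa only [xl, _root_.List.map_cons, _root_.List.map_nil, _root_.List.prod_cons, _root_.List.prod_nil, _root_.mul_one] using h

end

end JThree

theorem isMulCommutative_of_closure_singleton {G : Type*} [Group G] {b : G}
    (h : Subgroup.closure ({b} : Set G) = ⊤) : IsMulCommutative G := by
  have : IsCyclic G := ⟨b, fun x => by
    have h1 : x ∈ Subgroup.zpowers b := by
      rw [Subgroup.zpowers_eq_closure, h]; exact Subgroup.mem_top x
    exact h1⟩
  exact IsCyclic.isMulCommutative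

theorem notComm_j3 {T : Type*} [Group T] [Finite T] [IsSimpleGroup T] (h : Cfsg.Spor.IsoJ3 T) :
    ¬ IsMulCommutative T := by
  obtain ⟨F, _, _, ω, hF, hω, ⟨e⟩⟩ := h
  have H := Cfsg.Agent.J3.Core.good_of_card hF hω
  exact not_comm_of_card (n := 50232960) ((Nat.card_congr e.toEquiv).trans (Cfsg.Agent.J3.Simple.card_J3 hF H))
    (by norm_num)

/-- **`J3` is generated by an involution and another element.** -/
theorem invGen_j3 {T : Type*} [Group T] [Finite T] [IsSimpleGroup T] (h : Cfsg.Spor.IsoJ3 T) : InvGen T := by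
  have hna := notComm_j3 h
  obtain ⟨F, _, _, ω, hF, hω, ⟨e⟩⟩ := h
  have H := Cfsg.Agent.J3.Core.good_of_card hF hω
  obtain ⟨Gn⟩ := Cfsg.Agent.J3.Elts.exists_gens hF H
  let f : Cfsg.Spor.threeJ3 F ω →* T := (e.symm : Cfsg.Spor.J3 F ω →* T).comp (QuotientGroup.mk' _)
  have hf : Function.Surjective f := e.symm.surjective.comp (QuotientGroup.mk'_surjective _)
  refine InvGen.of_surj f hf (JThree.c_sq H Gn) ?_ (JThree.closure_eq H Gn)
  intro h1
  apply hna
  have h2 := MonoidHom.map_closure f ({Gn.c, Gn.b Cfsg.Agent.J3.Order.u0 * Gn.d Cfsg.Agent.J3.Nineteen.j} : Set _)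
  rw [JThree.closure_eq H Gn, Set.image_pair, ← MonoidHom.range_eq_map, MonoidHom.range_eq_top.mpr hf, h1,
    Subgroup.closure_insert_one] at h2
  exact isMulCommutative_of_closure_singleton h2.symm

end Cfsg.Agent.H569.DG
end

-- part: H569/DG/CohJ
section
/-!
# `Coh` for the Janko groups `J1`, `J2`, `J3` (helper569, for S4180)
-/

set_option autoImplicit false

namespace Cfsg.Agent.H569.DG

open Cfsg.Agent.H891.DG

universe u

variable {T : Type u} [Group T] [Finite T] [IsSimpleGroup T]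

theorem coh_of_invGen (hna : ¬ IsMulCommutative T) (h : InvGen T) : Coh T := by
  obtain ⟨c, b, hc, hc1, h⟩ := h
  exact Tools.coh_of_involution hna hc hc1 h

theorem coh_j1 (h : Cfsg.Spor.IsoJ1 T) : Coh T := coh_of_invGen (notComm_j1 h) (invGen_j1 h)

theorem coh_j2 (h : Cfsg.Spor.IsoJ2 T) : Coh T := coh_of_invGen (notComm_j2 h) (invGen_j2 h)

theorem coh_j3 (h : Cfsg.Spor.IsoJ3 T) : Coh T := coh_of_invGen (notComm_j3 h) (invGen_j3 h)

end Cfsg.Agent.H569.DG
end

-- part: H581/DG/AltInv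
section
/-!
# The alternating groups are generated by an involution and another element (helper581, task K8 of S4180)
-/

set_option autoImplicit false

namespace Cfsg.Agent.H581.DG.AltInv

open Equiv Equiv.Perm Subgroup
open Cfsg.Agent.CharactersDeep.SchurAltPerm Cfsg.Agent.H440.TwoGen.Alt

/-- a generating pair with an involution in the ambient symmetric group -/
def Pair (n : ℕ) : Prop :=
  ∃ c b : Perm (Fin n), c * c = 1 ∧ c ≠ 1 ∧ Perm.sign c = 1 ∧ Perm.sign b = 1 ∧
    alternatingGroup (Fin n) ≤ _root_.Subgroup.closure ({c, b} : Set (Perm (Fin n)))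

theorem finRotate_pow_apply {m : ℕ} (j : ℕ) (i : Fin (m + 1)) :
    ((finRotate (m + 1)) ^ j) i = i + (Fin.ofNat (m + 1) j) := by
  induction j with
  | zero => simp
  | succ j ih =>
    rw [pow_succ', Perm.mul_apply, ih, finRotate_apply, add_assoc]
    congr 1
    apply Fin.ext
    simp [Fin.val_add, Nat.add_mod]

theorem swap_mul_swap_sq {α : Type*} [DecidableEq α] {a b c d : α} (h1 : a ≠ c) (h2 : a ≠ d) (h3 : b ≠ c)
    (h4 : b ≠ d) : Commute (swap a b) (swap c d) := by
  have h := conj_swap (swap a b) c d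
  rw [swap_apply_of_ne_of_ne h1.symm h3.symm, swap_apply_of_ne_of_ne h2.symm h4.symm] at h
  calc swap a b * swap c d = (swap a b * swap c d * (swap a b)⁻¹) * swap a b := by group
    _ = swap c d * swap a b := by rw [h]

theorem dbl_sq {α : Type*} [DecidableEq α] {a b c d : α} (h1 : a ≠ c) (h2 : a ≠ d) (h3 : b ≠ c) (h4 : b ≠ d) :
    swap a b * swap c d * (swap a b * swap c d) = 1 := by
  have h := swap_mul_swap_sq h1 h2 h3 h4
  calc swap a b * swap c d * (swap a b * swap c d) = swap a b * (swap c d * swap a b) * swap c d := by group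
    _ = swap a b * (swap a b * swap c d) * swap c d := by rw [h.eq]
    _ = (swap a b * swap a b) * (swap c d * swap c d) := by group
    _ = 1 := by rw [swap_mul_self, swap_mul_self, one_mul]

theorem dbl_ne {α : Type*} [DecidableEq α] {a b c d : α} (h0 : a ≠ b) (h1 : a ≠ c) (h2 : a ≠ d) :
    swap a b * swap c d ≠ 1 := by
  intro h
  have h3 : (swap a b * swap c d) a = a := by rw [h]; rfl
  rw [Perm.mul_apply, swap_apply_of_ne_of_ne h1 h2, swap_apply_left] at h3
  exact h0 h3.symm

theorem pair_odd {n : ℕ} (hn : 5 ≤ n) (ho : Odd n) : Pair n := by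
  obtain ⟨k, hk⟩ := ho
  obtain ⟨m, rfl⟩ : ∃ m, n = m + 1 := ⟨n - 1, by omega⟩
  have hm : m = 2 * k := by omega
  have hrot : ∀ i (h : i + 1 < m + 1), finRotate (m + 1) ⟨i, by omega⟩ = ⟨i + 1, h⟩ := by
    intro i h
    exact finRotate_of_lt (by omega)
  set h : ℕ := k + 1 with hh
  let p0 : Fin (m + 1) := ⟨0, by omega⟩
  let p1 : Fin (m + 1) := ⟨1, by omega⟩
  let p2 : Fin (m + 1) := ⟨2, by omega⟩
  let ph : Fin (m + 1) := ⟨h, by omega⟩
  let ph1 : Fin (m + 1) := ⟨h + 1, by omega⟩
  let c : Perm (Fin (m + 1)) := swap p0 p1 * swap ph ph1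
  have hcomm : Commute (swap p0 p1) (swap ph ph1) :=
    swap_mul_swap_sq (ne_mk _ _ (by omega)) (ne_mk _ _ (by omega)) (ne_mk _ _ (by omega)) (ne_mk _ _ (by omega))
  have hc2 : c * c = 1 :=
    dbl_sq (ne_mk _ _ (by omega)) (ne_mk _ _ (by omega)) (ne_mk _ _ (by omega)) (ne_mk _ _ (by omega))
  refine ⟨c, finRotate (m + 1), hc2, ?_, ?_, ?_, ?_⟩
  · exact dbl_ne (ne_mk _ _ (by omega)) (ne_mk _ _ (by omega)) (ne_mk _ _ (by omega))
  · rw [Perm.sign_mul, sign_swap (ne_mk _ _ (by omega)), sign_swap (ne_mk _ _ (by omega))]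
    rfl
  · rw [sign_finRotate, Nat.add_sub_cancel, hm, pow_mul]
    simp only [_root_.even_two, _root_.Even.neg_pow, _root_.one_pow]
  · set S := _root_.Subgroup.closure ({c, finRotate (m + 1)} : Set (Perm (Fin (m + 1)))) with hS
    have hcS : c ∈ S := _root_.Subgroup.subset_closure (Set.mem_insert _ _)
    have hrS : finRotate (m + 1) ∈ S := _root_.Subgroup.subset_closure (Set.mem_insert_of_mem _ (Set.mem_singleton _))
    refine odd_case hn S _ hrot hrS ?_
    have hpS : (finRotate (m + 1)) ^ h ∈ S := pow_mem hrS h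
    have e0 : ((finRotate (m + 1)) ^ h) p0 = ph := by
      rw [finRotate_pow_apply]
      apply Fin.ext
      simp only [Fin.val_add, Fin.ofNat, p0, ph]
      rw [Nat.zero_add, Nat.mod_mod, Nat.mod_eq_of_lt (by omega)]
    have e1 : ((finRotate (m + 1)) ^ h) p1 = ph1 := by
      rw [finRotate_pow_apply]
      apply Fin.ext
      simp only [Fin.val_add, Fin.ofNat, p1, ph1]
      rw [Nat.add_mod_mod, Nat.mod_eq_of_lt (by omega)]
      omega
    have e2 : ((finRotate (m + 1)) ^ h) ph = p1 := by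
      rw [finRotate_pow_apply]
      apply Fin.ext
      simp only [Fin.val_add, Fin.ofNat, p1, ph]
      rw [Nat.add_mod_mod, show h + h = 1 + (m + 1) by omega, Nat.add_mod_right, Nat.mod_eq_of_lt (by omega)]
    have e3 : ((finRotate (m + 1)) ^ h) ph1 = p2 := by
      rw [finRotate_pow_apply]
      apply Fin.ext
      simp only [Fin.val_add, Fin.ofNat, p2, ph1]
      rw [Nat.add_mod_mod, show h + 1 + h = 2 + (m + 1) by omega, Nat.add_mod_right, Nat.mod_eq_of_lt (by omega)]
    have h1 : (finRotate (m + 1)) ^ h * c * ((finRotate (m + 1)) ^ h)⁻¹ = swap ph ph1 * swap p1 p2 := by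
      have : (finRotate (m + 1)) ^ h * c * ((finRotate (m + 1)) ^ h)⁻¹ =
          ((finRotate (m + 1)) ^ h * swap p0 p1 * ((finRotate (m + 1)) ^ h)⁻¹) *
          ((finRotate (m + 1)) ^ h * swap ph ph1 * ((finRotate (m + 1)) ^ h)⁻¹) := by
        change _ * (swap p0 p1 * swap ph ph1) * _ = _
        group
      rw [this, conj_swap, conj_swap, e0, e1, e2, e3]
    have h2 : x p0 p1 p2 = c * ((finRotate (m + 1)) ^ h * c * ((finRotate (m + 1)) ^ h)⁻¹) := by
      rw [h1]
      change _ = swap p0 p1 * swap ph ph1 * (swap ph ph1 * swap p1 p2)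
      rw [mul_assoc, ← mul_assoc (swap ph ph1) (swap ph ph1), swap_mul_self, one_mul, x_def]
      have h3 := conj_swap (swap p0 p1) p1 p2
      rw [swap_apply_right, swap_apply_of_ne_of_ne (ne_mk _ _ (by omega)) (ne_mk _ _ (by omega)), swap_inv] at h3
      rw [← h3, mul_assoc, swap_mul_self, mul_one]
    change x p0 p1 p2 ∈ S
    rw [h2]
    exact mul_mem hcS (mul_mem (mul_mem hpS hcS) (inv_mem hpS))

theorem pair_even {n : ℕ} (hn : 8 ≤ n) (he : Even n) : Pair n := by
  obtain ⟨k, hk⟩ := he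
  obtain ⟨m, rfl⟩ : ∃ m, n = m + 1 := ⟨n - 1, by omega⟩
  have hm : Odd m := ⟨k - 1, by omega⟩
  have hrot : ∀ i (h : i + 1 < m + 1), finRotate (m + 1) ⟨i, by omega⟩ = ⟨i + 1, h⟩ := by
    intro i h
    exact finRotate_of_lt (by omega)
  let p0 : Fin (m + 1) := ⟨0, by omega⟩
  let p1 : Fin (m + 1) := ⟨1, by omega⟩
  let p2 : Fin (m + 1) := ⟨2, by omega⟩
  let p3 : Fin (m + 1) := ⟨3, by omega⟩
  let p4 : Fin (m + 1) := ⟨4, by omega⟩
  let p5 : Fin (m + 1) := ⟨5, by omega⟩
  let p6 : Fin (m + 1) := ⟨6, by omega⟩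
  let b : Perm (Fin (m + 1)) := swap p0 p1 * finRotate (m + 1)
  have hb0 : b p0 = p0 := by
    change (swap p0 p1 * finRotate (m + 1)) p0 = p0
    rw [Perm.mul_apply, hrot 0 (by omega)]
    exact swap_apply_right _ _
  have hb : ∀ i (h : i + 1 < m + 1), 1 ≤ i → b ⟨i, by omega⟩ = ⟨i + 1, h⟩ := by
    intro i h hi
    change (swap p0 p1 * finRotate (m + 1)) _ = _
    rw [Perm.mul_apply, hrot i h, swap_apply_of_ne_of_ne (ne_mk _ _ (by omega)) (ne_mk _ _ (by omega))]
  let c : Perm (Fin (m + 1)) := swap p0 p1 * swap p3 p5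
  have hcomm : Commute (swap p0 p1) (swap p3 p5) :=
    swap_mul_swap_sq (ne_mk _ _ (by omega)) (ne_mk _ _ (by omega)) (ne_mk _ _ (by omega)) (ne_mk _ _ (by omega))
  have hc2 : c * c = 1 :=
    dbl_sq (ne_mk _ _ (by omega)) (ne_mk _ _ (by omega)) (ne_mk _ _ (by omega)) (ne_mk _ _ (by omega))
  refine ⟨c, b, hc2, ?_, ?_, ?_, ?_⟩
  · exact dbl_ne (ne_mk _ _ (by omega)) (ne_mk _ _ (by omega)) (ne_mk _ _ (by omega))
  · rw [Perm.sign_mul, sign_swap (ne_mk _ _ (by omega)), sign_swap (ne_mk _ _ (by omega))]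
    rfl
  · rw [Perm.sign_mul, sign_swap (ne_mk _ _ (by omega)), sign_finRotate, Nat.add_sub_cancel, hm.neg_one_pow]
    rfl
  · set S := _root_.Subgroup.closure ({c, b} : Set (Perm (Fin (m + 1)))) with hS
    have hcS : c ∈ S := _root_.Subgroup.subset_closure (Set.mem_insert _ _)
    have hbS : b ∈ S := _root_.Subgroup.subset_closure (Set.mem_insert_of_mem _ (Set.mem_singleton _))
    refine even_case (by omega) S b hb0 hb hbS ?_
    have h1 : b * c * b⁻¹ = swap p0 p2 * swap p4 p6 := by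
      have : b * c * b⁻¹ = (b * swap p0 p1 * b⁻¹) * (b * swap p3 p5 * b⁻¹) := by
        change _ * (swap p0 p1 * swap p3 p5) * _ = _
        group
      rw [this, conj_swap, conj_swap, hb0, hb 1 (by omega) le_rfl, hb 3 (by omega) (by omega),
        hb 5 (by omega) (by omega)]
    -- the two parts commute
    have hA : Commute (swap p0 p2) (swap p3 p5) :=
      swap_mul_swap_sq (ne_mk _ _ (by omega)) (ne_mk _ _ (by omega)) (ne_mk _ _ (by omega)) (ne_mk _ _ (by omega))
    have hB : Commute (swap p0 p1) (swap p4 p6) :=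
      swap_mul_swap_sq (ne_mk _ _ (by omega)) (ne_mk _ _ (by omega)) (ne_mk _ _ (by omega)) (ne_mk _ _ (by omega))
    have hC : Commute (swap p0 p2) (swap p4 p6) :=
      swap_mul_swap_sq (ne_mk _ _ (by omega)) (ne_mk _ _ (by omega)) (ne_mk _ _ (by omega)) (ne_mk _ _ (by omega))
    have hD : Commute (swap p3 p5) (swap p4 p6) :=
      swap_mul_swap_sq (ne_mk _ _ (by omega)) (ne_mk _ _ (by omega)) (ne_mk _ _ (by omega)) (ne_mk _ _ (by omega))
    have hu : x p0 p1 p2 = (swap p0 p1 * swap p0 p2) * (swap p0 p1 * swap p0 p2) := by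
      rw [x_def]
      have h3 := conj_swap (swap p0 p1) p0 p2
      rw [swap_apply_left, swap_apply_of_ne_of_ne (ne_mk _ _ (by omega)) (ne_mk _ _ (by omega)), swap_inv] at h3
      have h4 := conj_swap (swap p0 p2) p1 p2
      rw [swap_apply_right, swap_apply_of_ne_of_ne (ne_mk _ _ (by omega)) (ne_mk _ _ (by omega)), swap_inv,
        Equiv.swap_comm p1 p0] at h4
      have h5 : swap p0 p1 * swap p0 p2 * (swap p0 p1 * swap p0 p2) =
          (swap p0 p1 * swap p0 p2 * swap p0 p1) * swap p0 p2 := by group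
      rw [h5, h3]
      rw [← h4]
      have h6 := swap_mul_self p0 p2
      calc swap p0 p2 * (swap p0 p2 * swap p1 p2 * swap p0 p2) = _ := rfl
        _ = (swap p0 p2 * swap p0 p2) * (swap p1 p2 * swap p0 p2) := by group
        _ = swap p1 p2 * swap p0 p2 := by rw [h6, one_mul]
    have hv : (swap p3 p5 * swap p4 p6) * (swap p3 p5 * swap p4 p6) = 1 :=
      dbl_sq (ne_mk _ _ (by omega)) (ne_mk _ _ (by omega)) (ne_mk _ _ (by omega)) (ne_mk _ _ (by omega))
    have hcc : c * (b * c * b⁻¹) = (swap p0 p1 * swap p0 p2) * (swap p3 p5 * swap p4 p6) := by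
      rw [h1]
      change swap p0 p1 * swap p3 p5 * (swap p0 p2 * swap p4 p6) = _
      calc swap p0 p1 * swap p3 p5 * (swap p0 p2 * swap p4 p6)
          = swap p0 p1 * (swap p3 p5 * swap p0 p2) * swap p4 p6 := by group
        _ = swap p0 p1 * (swap p0 p2 * swap p3 p5) * swap p4 p6 := by rw [hA.eq]
        _ = _ := by group
    have hE : Commute (swap p0 p1 * swap p0 p2) (swap p3 p5 * swap p4 p6) :=
      (hcomm.mul_left hA).mul_right (hB.mul_left hC)
    have h2 : x p0 p1 p2 = (c * (b * c * b⁻¹)) * (c * (b * c * b⁻¹)) := by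
      rw [hcc, hu, hE.symm.mul_mul_mul_comm, hv, mul_one]
    change x p0 p1 p2 ∈ S
    rw [h2]
    have h3 : c * (b * c * b⁻¹) ∈ S := mul_mem hcS (mul_mem (mul_mem hbS hcS) (inv_mem hbS))
    exact mul_mem h3 h3

theorem pair_six : Pair 6 := by
  let b : Perm (Fin 6) := swap 0 1 * finRotate 6
  let c : Perm (Fin 6) := swap 0 1 * swap 3 5
  refine ⟨c, b, by decide, by decide, by decide, by decide, ?_⟩
  set S := _root_.Subgroup.closure ({c, b} : Set (Perm (Fin 6))) with hS
  have hcS : c ∈ S := _root_.Subgroup.subset_closure (Set.mem_insert _ _)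
  have hbS : b ∈ S := _root_.Subgroup.subset_closure (Set.mem_insert_of_mem _ (Set.mem_singleton _))
  refine even_case (by omega) S b (by decide) ?_ hbS ?_
  · intro i h hi
    have : i = 1 ∨ i = 2 ∨ i = 3 ∨ i = 4 := by omega
    rcases this with rfl | rfl | rfl | rfl <;> rfl
  · have h1 : x (⟨0, by omega⟩ : Fin 6) ⟨1, by omega⟩ ⟨2, by omega⟩ = b * b * c * b⁻¹ * c * b * b * c * b := by
      rw [x_def]; decide +kernel
    rw [h1]
    exact mul_mem (mul_mem (mul_mem (mul_mem (mul_mem (mul_mem (mul_mem (mul_mem hbS hbS) hcS) (inv_mem hbS)) hcS) hbS)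
      hbS) hcS) hbS

theorem pair {n : ℕ} (hn : 5 ≤ n) : Pair n := by
  rcases Nat.even_or_odd n with he | ho
  · obtain ⟨k, hk⟩ := he
    rcases Nat.lt_or_ge n 8 with h | h
    · obtain rfl : n = 6 := by omega
      exact pair_six
    · exact pair_even h ⟨k, hk⟩
  · exact pair_odd hn ho

/-- **an alternating group is generated by an involution and another element** -/
theorem exists_pair {T : Type*} [Group T] (h : Cfsg.IsAlternating T) :
    ∃ c b : T, c ^ 2 = 1 ∧ c ≠ 1 ∧ _root_.Subgroup.closure ({c, b} : Set T) = ⊤ := by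
  obtain ⟨n, hn, ⟨e⟩⟩ := h
  obtain ⟨c, b, h1, h2, h3, h4, h5⟩ := pair hn
  let c' : alternatingGroup (Fin n) := ⟨c, h3⟩
  let b' : alternatingGroup (Fin n) := ⟨b, h4⟩
  have key : _root_.Subgroup.closure ({c', b'} : Set (alternatingGroup (Fin n))) = ⊤ := by
    rw [eq_top_iff]
    intro y _
    have h6 := h5 y.2
    have e' : _root_.Subgroup.closure ({c, b} : Set (Perm (Fin n))) =
        (_root_.Subgroup.closure ({c', b'} : Set (alternatingGroup (Fin n)))).map (alternatingGroup (Fin n)).subtype := by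
      rw [MonoidHom.map_closure, Set.image_pair]
      rfl
    rw [e'] at h6
    obtain ⟨z, hz, hzy⟩ := h6
    rwa [← Subtype.ext hzy]
  have hc' : c' ^ 2 = 1 := Subtype.ext (by rw [pow_two]; exact h1)
  refine ⟨e.symm c', e.symm b', by rw [← map_pow, hc', map_one], ?_, ?_⟩
  · intro h6
    apply h2
    have h7 : c' = 1 := e.symm.injective (by rw [h6, map_one])
    exact congrArg Subtype.val h7
  · have h6 : _root_.Subgroup.closure ({e.symm c', e.symm b'} : Set T) =
        (_root_.Subgroup.closure ({c', b'} : Set (alternatingGroup (Fin n)))).map e.symm.toMonoidHom := by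
      rw [MonoidHom.map_closure, Set.image_pair]
      rfl
    rw [h6, key]
    exact Subgroup.map_top_of_surjective _ e.symm.surjective

end Cfsg.Agent.H581.DG.AltInv
end

-- part: H581/DG/CohAlt
section
/-!
# `Coh` for the alternating groups (helper581, task K8 of S4180)
-/

set_option autoImplicit false

namespace Cfsg.Agent.H581.DG

open Subgroup Cfsg.Agent.H891.DG

universe u

theorem not_comm_of_isAlternating {T : Type u} [Group T] (h : Cfsg.IsAlternating T) : ¬ IsMulCommutative T := by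
  obtain ⟨n, hn, ⟨e⟩⟩ := h
  intro hc
  refine Cfsg.Agent.Schreier.Alt.not_comm hn ⟨⟨fun a b => e.symm.injective ?_⟩⟩
  rw [map_mul, map_mul]
  exact hc.is_comm.comm _ _

/-- **task K8**: the alternating groups -/
theorem coh_alt (T : Type u) [Group T] [Finite T] [IsSimpleGroup T] (h : Cfsg.IsAlternating T) : Coh T := by
  obtain ⟨c, b, h1, h2, h3⟩ := AltInv.exists_pair h
  exact Tools.coh_of_involution (not_comm_of_isAlternating h) h1 h2 h3

end Cfsg.Agent.H581.DG
end

-- part: H291/DG/McL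
section
/-
The McLaughlin group is generated by an involution and another element.
-/
set_option autoImplicit false

namespace Cfsg.Agent.H291.DG.McL

open Cfsg Cfsg.Agent.H994.TwoGen Cfsg.Agent.H994.TwoGen.Words Cfsg.Agent.McLType.Model

/-- the first element, as a word in the seven involutions -/
def wX : List (Fin 7) := [5]
/-- the second element, as a word in the seven involutions -/
def wY : List (Fin 7) := [0, 6, 3, 4, 2]

/-- words for the seven involutions in the two elements -/
def W : Fin 7 → List ℕ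
  | 0 => [1, 1, 0, 1, 0, 1, 1, 1, 0, 3, 3, 3, 3, 3, 3, 3, 0, 3, 3, 3, 0, 3, 0, 3, 3]
  | 1 => [3, 0, 1, 0, 3, 3, 0, 1, 0, 3, 3, 0, 3, 0, 3, 3, 0, 1, 1, 0, 1, 1, 0, 3, 0, 1, 1, 1]
  | 2 => [0, 3, 3, 3, 3, 3, 3, 3, 0, 3, 3, 3, 3, 3, 3, 3, 0]
  | 3 => [3, 0, 1, 1, 1, 0, 1, 1, 0, 3, 3, 0, 3, 3, 3, 0, 1]
  | 4 => [0, 3, 3, 3, 0, 3, 3, 3, 0, 1, 1, 0, 1, 1, 1, 0, 1, 0, 1, 0, 3, 3, 0]
  | 5 => [0]
  | 6 => [3, 3, 0, 3, 0, 3, 3, 0, 3, 3, 3, 0, 1, 1, 1, 0, 1, 1, 0, 1, 0, 1, 1]

theorem chk_X : idCheck (wX ++ wX.reverse) = true := by rewrite [Cfsg.Agent.McLBF.id_fast]; decide +kernel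
theorem chk_Y : idCheck (wY ++ wY.reverse) = true := by rewrite [Cfsg.Agent.McLBF.id_fast]; decide +kernel

theorem chk_0 : idCheck (expand wX wY wX.reverse wY.reverse (W 0) ++ [0]) = true := by rewrite [Cfsg.Agent.McLBF.id_fast]; decide +kernel
theorem chk_1 : idCheck (expand wX wY wX.reverse wY.reverse (W 1) ++ [1]) = true := by rewrite [Cfsg.Agent.McLBF.id_fast]; decide +kernel
theorem chk_2 : idCheck (expand wX wY wX.reverse wY.reverse (W 2) ++ [2]) = true := by rewrite [Cfsg.Agent.McLBF.id_fast]; decide +kernel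
theorem chk_3 : idCheck (expand wX wY wX.reverse wY.reverse (W 3) ++ [3]) = true := by rewrite [Cfsg.Agent.McLBF.id_fast]; decide +kernel
theorem chk_4 : idCheck (expand wX wY wX.reverse wY.reverse (W 4) ++ [4]) = true := by rewrite [Cfsg.Agent.McLBF.id_fast]; decide +kernel
theorem chk_5 : idCheck (expand wX wY wX.reverse wY.reverse (W 5) ++ [5]) = true := by rewrite [Cfsg.Agent.McLBF.id_fast]; decide +kernel
theorem chk_6 : idCheck (expand wX wY wX.reverse wY.reverse (W 6) ++ [6]) = true := by rewrite [Cfsg.Agent.McLBF.id_fast]; decide +kernel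

theorem gen : Subgroup.closure ({val m wX, val m wY} : Set Cfsg.Agent.McLType.X275.G1) = ⊤ := by
  rw [eq_top_iff, ← closure_m, Subgroup.closure_le]
  rintro _ ⟨k, rfl⟩
  have key : val m (expand wX wY wX.reverse wY.reverse (W k) ++ [k]) = 1 := by
    match k with
    | 0 => exact word_m chk_0
    | 1 => exact word_m chk_1
    | 2 => exact word_m chk_2
    | 3 => exact word_m chk_3
    | 4 => exact word_m chk_4
    | 5 => exact word_m chk_5
    | 6 => exact word_m chk_6
  exact mem_of_word m (word_m chk_X) (word_m chk_Y) key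

open Cfsg.Agent.SporadicStructure.PermChain Cfsg.Agent.McLType.X275 Cfsg.Agent.McLType.Gens in
/-- words with different values -/
theorem ne_of {v w : List (Fin 7)} (i : Fin 275)
    (h : Nat.beq (evalWord 9 tabs (v.map (fun k => (k : ℕ))) i) (evalWord 9 tabs (w.map (fun k => (k : ℕ))) i)
      = false) : val m v ≠ val m w := by
  intro h0
  have h2 : (ψ ∘ m) = σ := funext ψ_m
  have h3 : (v.map σ).prod = (w.map σ).prod := by
    have h1 := congrArg ψ h0
    rw [val, val, map_list_prod, map_list_prod, List.map_map, List.map_map, h2] at h1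
    exact h1
  have h4 := evalWord_σ v i
  rw [h3, evalWord_σ] at h4
  rw [h4, Nat.beq_refl] at h
  exact Bool.noConfusion h

theorem invGen_G1 : InvGen Cfsg.Agent.McLType.X275.G1 := by
  refine ⟨val m wX, val m wY, ?_, ?_, gen⟩
  · rw [pow_two, ← val_append]
    exact word_m chk_X
  · rw [← val_append, ← val_append]
    exact ne_of 0 (by decide +kernel)

theorem invGen {G : Type*} [Group G] (h : Cfsg.Spor.IsoMcL G) : InvGen G := by
  obtain ⟨e⟩ := h
  obtain ⟨e'⟩ := Cfsg.Agent.McLType.X275.isoMcL_G1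
  exact InvGen.congr (e.trans e'.symm) invGen_G1

end Cfsg.Agent.H291.DG.McL
end

-- part: H291/DG/Suz
section
/-
The sporadic Suzuki group is generated by the involution `d` and the element `a e g f b c` (of order 14).
-/
set_option autoImplicit false
set_option maxRecDepth 100000
set_option exponentiation.threshold 4000

namespace Cfsg.Agent.H291.DG.Suz

open Cfsg.Spor Cfsg.Agent.H994.TwoGen.Words Cfsg.Agent.Lib.PermNet Cfsg.Agent.Lib.PermNetOrbit
  Cfsg.Agent.SporadicRecognition.SuzPhi Cfsg.Agent.SporadicRecognition.SuzOrder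

/-- the letters -/
def m (x : Suz.Gen) : Suz := PresentedGroup.of x

theorem one_of {w : List Suz.Gen} (h : checkEq 11 (wd w) (wd []) = true) : val m w = 1 := by
  have h1 : φ (el w) = φ (el []) := by
    rw [φ_el, φ_el]
    exact wperm_eq_of_checkEq (wd_ok _) (wd_ok _) h
  exact φ_injective h1

/-- first generator -/
def wX : List Suz.Gen := [.d]
/-- second generator -/
def wY : List Suz.Gen := [.a, .e, .g, .f, .b, .c]
/-- its inverse -/
def wYi : List Suz.Gen := [.c, .b, .f, .g, .e, .a]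

/-- the group they generate -/
def H : Subgroup Suz := Subgroup.closure {val m wX, val m wY}

theorem chk_X : val m (wX ++ wX) = 1 := one_of (by decide +kernel)
theorem chk_Y : val m (wY ++ wYi) = 1 := one_of (by decide +kernel)

theorem mem {w : List ℕ} {k : Suz.Gen}
    (h : checkEq 11 (wd (expand wX wY wX wYi w ++ [k])) (wd []) = true) : m k ∈ H :=
  mem_of_word m chk_X chk_Y (one_of h)

theorem mem_a : m .a ∈ H := mem (w := [0, 3, 0, 1, 0, 3, 0, 1, 0, 3, 0, 1])
  (by decide +kernel)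
set_option Elab.async false in
theorem mem_b : m .b ∈ H := mem (w := [0, 3, 0, 1, 0, 3, 0, 3, 3, 0, 1, 1, 1, 0, 3, 0, 3, 3, 0, 3, 0, 3, 0, 1, 0, 3, 0, 1, 0, 3, 0, 3])
  (by (rewrite [Cfsg.Agent.Lib.PermNetFast.checkEq_fast]; decide +kernel))
set_option Elab.async false in
theorem mem_c : m .c ∈ H := mem (w := [0, 1, 0, 3, 0, 3, 3, 0, 1, 1, 1, 0, 3, 0, 3, 3, 0, 3, 0, 3, 0, 1, 0, 3, 0, 1, 0, 3, 0, 3, 0, 3])
  (by (rewrite [Cfsg.Agent.Lib.PermNetFast.checkEq_fast]; decide +kernel))
theorem mem_d : m .d ∈ H := mem (w := [0])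
  (by decide +kernel)
theorem mem_e : m .e ∈ H := mem (w := [3, 3, 3, 3, 3, 3, 3])
  (by decide +kernel)
set_option Elab.async false in
theorem mem_f : m .f ∈ H := mem (w := [3, 3, 3, 3, 3, 0, 1, 1, 1, 1, 0, 1, 0, 1, 1, 0, 3, 3, 0, 3, 0, 3, 3, 3, 3, 0, 3, 3])
  (by (rewrite [Cfsg.Agent.Lib.PermNetFast.checkEq_fast]; decide +kernel))
set_option Elab.async false in
theorem mem_g : m .g ∈ H := mem (w := [1, 1, 0, 1, 1, 1, 1, 0, 3, 3, 3, 3, 0, 1, 1, 0, 3, 3, 0, 1, 1, 0, 1, 1, 0, 3, 3, 3, 3, 0, 3, 3])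
  (by (rewrite [Cfsg.Agent.Lib.PermNetFast.checkEq_fast]; decide +kernel))

theorem H_eq : H = ⊤ := by
  rw [eq_top_iff, ← PresentedGroup.closure_range_of, Subgroup.closure_le]
  rintro _ ⟨k, rfl⟩
  cases k
  · exact mem_a
  · exact mem_b
  · exact mem_c
  · exact mem_d
  · exact mem_e
  · exact mem_f
  · exact mem_g

/-- words with different values -/
theorem ne_of {v w : List Suz.Gen} (p : ℕ) (h : Nat.beq (ptWord (wd v) p) (ptWord (wd w) p) = false) :
    val m v ≠ val m w := by
  intro h0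
  have h1 : wperm (wd v) = wperm (wd w) := by
    rw [← φ_el, ← φ_el, show el v = el w from h0]
  rw [ptWord_eq (wd_ok v), ptWord_eq (wd_ok w), h1, Nat.beq_refl] at h
  exact Bool.noConfusion h

theorem invGen_suz : InvGen Suz := by
  refine ⟨val m wX, val m wY, ?_, ?_, H_eq⟩
  · rw [pow_two, ← val_append]
    exact chk_X
  · rw [← val_append, ← val_append]
    exact ne_of 2 (by decide +kernel)

theorem invGen {G : Type*} [Group G] (h : Cfsg.Spor.IsoSuz G) : InvGen G := by
  obtain ⟨e⟩ := h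
  exact InvGen.congr e invGen_suz

end Cfsg.Agent.H291.DG.Suz
end

-- part: H291/DG/CohHS
section
/-
`Coh` for `HS`, `McL`, `Suz`.
-/
set_option autoImplicit false

namespace Cfsg.Agent.H291.DG

open Cfsg.Agent.H891.DG

universe u

variable {T : Type u} [Group T] [Finite T] [IsSimpleGroup T]

theorem coh_hs (h : Cfsg.Spor.IsoHS T) : Coh T := (HS.invGen h).coh
theorem coh_mcl (h : Cfsg.Spor.IsoMcL T) : Coh T := (McL.invGen h).coh
theorem coh_suz (h : Cfsg.Spor.IsoSuz T) : Coh T := (Suz.invGen h).coh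

end Cfsg.Agent.H291.DG
end

private theorem dce_8a1fce96cc83 : _root_.True := by
  try have : _root_.True := by simp only [_root_.Cfsg.Agent.H569.DG.JTwo.H.eq_1]
  try have : _root_.True := by simp only [_root_.Cfsg.Agent.H569.DG.JThree.xl.eq_3]
  try have : _root_.True := by simp only [_root_.Cfsg.Agent.H569.DG.JThree.xl.eq_2]
  try have : _root_.True := by simp only [_root_.Cfsg.Agent.H569.DG.JThree.xl.eq_1]
  exact _root_.True.intro
end

-- part: H831/DG/PermAut_mg
section
prune_inst 0x421200400008010000000000070000c4202000002000000000000000004808c4000000020a00001101000000400310020020800004000000000000000011800800000000400000008420080000080000000000000000000000000000000000000000000000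
set_option linter.all false
open scoped Cfsg.Agent.FastGrp

-- part: H831/DG/CosTwo
section
/-!
# S4180: `Cos2` for groups with `|Out T| = 2` (helper831)

* `cos2_congr`;
* `cos2_of_mul` : `Out T` has order 2, `T` is 2-generated and `Inn T ≤ ⟨α, conj t⟩` for an outer `α`;
* `cos2_of_swap` : the case `T = ⟨t, α t⟩`.
-/

set_option autoImplicit false

namespace Cfsg.Agent.H831.DG.CosTwo

open Cfsg.Agent.H440.TwoGen Cfsg.Agent.H891.Gen Cfsg.Agent.H891.DG Subgroup

universe u v

theorem range_congr {T : Type u} {T' : Type v} [Group T] [Group T'] (e : T ≃* T') {α : MulAut T}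
    (h : α ∈ (MulAut.conj : T →* MulAut T).range) :
    MulAut.congr e α ∈ (MulAut.conj : T' →* MulAut T').range := by
  obtain ⟨g, rfl⟩ := h
  refine ⟨e g, ?_⟩
  ext x
  change e g * x * (e g)⁻¹ = e (g * e.symm x * g⁻¹)
  simp only [_root_.map_mul, _root_.MulEquiv.apply_symm_apply, _root_.map_inv]

theorem range_congr_symm {T : Type u} {T' : Type v} [Group T] [Group T'] (e : T ≃* T') {α : MulAut T'}
    (h : α ∈ (MulAut.conj : T' →* MulAut T').range) :
    (MulAut.congr e).symm α ∈ (MulAut.conj : T →* MulAut T).range := range_congr e.symm h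

theorem cos2_congr {T : Type u} {T' : Type v} [Group T] [Group T'] (e : T ≃* T') (h : Cos2 T) : Cos2 T' := by
  intro x y
  obtain ⟨s, hs, t, ht, h1⟩ := h ((MulAut.congr e).symm x) ((MulAut.congr e).symm y)
  refine ⟨MulAut.congr e s, range_congr e hs, MulAut.congr e t, range_congr e ht, ?_⟩
  intro z hz
  have h2 := h1 (range_congr_symm e hz)
  have h3 := mem_map_of_mem (MulAut.congr e : MulAut T ≃* MulAut T').toMonoidHom h2
  rw [MonoidHom.map_closure, Set.image_pair] at h3
  have h4 : (MulAut.congr e : MulAut T ≃* MulAut T').toMonoidHom ((MulAut.congr e).symm z) = z :=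
    (MulAut.congr e).apply_symm_apply z
  have h5 : (MulAut.congr e : MulAut T ≃* MulAut T').toMonoidHom ((MulAut.congr e).symm x * s) =
      x * MulAut.congr e s := by
    rw [map_mul]
    exact congrArg (· * _) ((MulAut.congr e).apply_symm_apply x)
  have h6 : (MulAut.congr e : MulAut T ≃* MulAut T').toMonoidHom ((MulAut.congr e).symm y * t) =
      y * MulAut.congr e t := by
    rw [map_mul]
    exact congrArg (· * _) ((MulAut.congr e).apply_symm_apply y)
  rwa [h4, h5, h6] at h3

variable {T : Type u} [Group T]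

theorem conj_mem_range (g : T) : MulAut.conj g ∈ (MulAut.conj : T →* MulAut T).range := ⟨g, rfl⟩

/-- `|Out T| = 2`, `T` is 2-generated and `Inn T ≤ ⟨α, conj t⟩`, `α` outer. -/
theorem cos2_of_mul (hO : Nat.card (Cfsg.Out T) = 2) (h2 : TwoGen T) {α : MulAut T}
    (hα : ∀ g : T, α ≠ MulAut.conj g) (t : T)
    (h : (MulAut.conj : T →* MulAut T).range ≤ _root_.Subgroup.closure ({α, MulAut.conj t} : Set (MulAut T))) : Cos2 T := by
  have hidx : (MulAut.conj : T →* MulAut T).range.index = 2 := hO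
  have hαr : α ∉ (MulAut.conj : T →* MulAut T).range := by
    rintro ⟨g, hg⟩
    exact hα g hg.symm
  have hN := Cfsg.Agent.H679.conj_range_normal' T
  have key : ∀ x : MulAut T, x ∉ (MulAut.conj : T →* MulAut T).range →
      ∃ s ∈ (MulAut.conj : T →* MulAut T).range, x * s = α := by
    intro x hx
    refine ⟨x⁻¹ * α, ?_, by group⟩
    rw [Subgroup.mul_mem_iff_of_index_two hidx, inv_mem_iff]
    exact ⟨fun h => absurd h hx, fun h => absurd h hαr⟩
  have key2 : ∀ x : MulAut T, x ∈ (MulAut.conj : T →* MulAut T).range → ∀ g : T,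
      ∃ s ∈ (MulAut.conj : T →* MulAut T).range, x * s = MulAut.conj g := by
    intro x hx g
    exact ⟨x⁻¹ * MulAut.conj g, mul_mem (inv_mem hx) (conj_mem_range g), by group⟩
  intro x y
  by_cases hx : x ∈ (MulAut.conj : T →* MulAut T).range
  · by_cases hy : y ∈ (MulAut.conj : T →* MulAut T).range
    · obtain ⟨a, b, hab⟩ := h2
      obtain ⟨s, hs, h3⟩ := key2 x hx a
      obtain ⟨s', hs', h4⟩ := key2 y hy b
      refine ⟨s, hs, s', hs', ?_⟩
      rw [h3, h4, MonoidHom.range_eq_map, ← hab, MonoidHom.map_closure, Set.image_pair]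
    · obtain ⟨s, hs, h3⟩ := key2 x hx t
      obtain ⟨s', hs', h4⟩ := key y hy
      refine ⟨s, hs, s', hs', ?_⟩
      rw [h3, h4, Set.pair_comm]
      exact h
  · by_cases hy : y ∈ (MulAut.conj : T →* MulAut T).range
    · obtain ⟨s, hs, h3⟩ := key x hx
      obtain ⟨s', hs', h4⟩ := key2 y hy t
      refine ⟨s, hs, s', hs', ?_⟩
      rw [h3, h4]
      exact h
    · obtain ⟨s, hs, h3⟩ := key x hx
      obtain ⟨s', hs', h4⟩ := key y hy
      refine ⟨s, hs, s' * MulAut.conj t, mul_mem hs' (conj_mem_range t), ?_⟩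
      rw [h3, ← mul_assoc, h4]
      refine h.trans ?_
      rw [closure_le]
      have h5 : α ∈ _root_.Subgroup.closure ({α, α * MulAut.conj t} : Set (MulAut T)) := _root_.Subgroup.subset_closure (by simp)
      have h6 : α * MulAut.conj t ∈ _root_.Subgroup.closure ({α, α * MulAut.conj t} : Set (MulAut T)) := _root_.Subgroup.subset_closure (by simp)
      rintro z (rfl | hz)
      · exact h5
      · rw [Set.mem_singleton_iff] at hz
        subst hz
        have h7 := mul_mem (inv_mem h5) h6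
        rwa [inv_mul_cancel_left] at h7

/-- The subgroup of `T` of the elements whose inner automorphism is in `⟨α, conj t⟩`. -/
def cor (α : MulAut T) (t : T) : Subgroup T :=
  (_root_.Subgroup.closure ({α, MulAut.conj t} : Set (MulAut T))).comap (MulAut.conj : T →* MulAut T)

theorem mem_cor {α : MulAut T} {t g : T} : g ∈ cor α t ↔ MulAut.conj g ∈ _root_.Subgroup.closure ({α, MulAut.conj t} : Set (MulAut T)) :=
  Iff.rfl

theorem self_mem_cor (α : MulAut T) (t : T) : t ∈ cor α t := mem_cor.2 (_root_.Subgroup.subset_closure (by simp))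

/-- automorphisms in `⟨α, conj t⟩` preserve `cor α t` -/
theorem apply_mem_cor {α β : MulAut T} {t g : T} (hβ : β ∈ _root_.Subgroup.closure ({α, MulAut.conj t} : Set (MulAut T)))
    (hg : g ∈ cor α t) : β g ∈ cor α t := by
  rw [mem_cor] at hg ⊢
  have h : MulAut.conj (β g) = β * MulAut.conj g * β⁻¹ := by
    ext x
    change β g * x * (β g)⁻¹ = β (g * β⁻¹ x * g⁻¹)
    rw [map_mul, map_mul, map_inv]
    change _ = β g * (β * β⁻¹) x * (β g)⁻¹
    rw [mul_inv_cancel]
    rfl
  rw [h]
  exact mul_mem (mul_mem hβ hg) (inv_mem hβ)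

theorem apply_mem_cor' {α : MulAut T} {t g : T} (hg : g ∈ cor α t) : α g ∈ cor α t :=
  apply_mem_cor (_root_.Subgroup.subset_closure (by simp)) hg

theorem cos2_of_cor (hO : Nat.card (Cfsg.Out T) = 2) (h2 : TwoGen T) {α : MulAut T}
    (hα : ∀ g : T, α ≠ MulAut.conj g) (t : T) (h : cor α t = ⊤) : Cos2 T := by
  refine cos2_of_mul hO h2 hα t ?_
  rintro _ ⟨g, rfl⟩
  have : g ∈ cor α t := by rw [h]; exact mem_top _
  exact this

/-- The case `T = ⟨t, α t⟩`. -/
theorem cos2_of_swap (hO : Nat.card (Cfsg.Out T) = 2) {α : MulAut T} (hα : ∀ g : T, α ≠ MulAut.conj g) (t : T)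
    (h : _root_.Subgroup.closure ({t, α t} : Set T) = ⊤) : Cos2 T := by
  refine cos2_of_cor hO ⟨t, α t, h⟩ hα t ?_
  rw [eq_top_iff, ← h, closure_le]
  rintro z (rfl | hz)
  · exact self_mem_cor α _
  · rw [Set.mem_singleton_iff] at hz
    subst hz
    exact apply_mem_cor' (self_mem_cor α t)

end Cfsg.Agent.H831.DG.CosTwo
end

-- part: H831/DG/PermAut
section
/-!
# S4180: `Cos2` for a subgroup `R` normalised by an involution `z` inducing the outer automorphism (helper831)
-/

set_option autoImplicit false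

namespace Cfsg.Agent.H831.DG.PermAut

open Cfsg.Agent.H440.TwoGen Cfsg.Agent.H891.Gen Cfsg.Agent.H891.DG Subgroup Cfsg.Agent.H831.DG.CosTwo

universe u

variable {P : Type u} [Group P]

/-- conjugation by the involution `z` on `R` -/
def conjAut (R : Subgroup P) (z : P) (hzz : z * z = 1) (hz : ∀ x ∈ R, z * x * z⁻¹ ∈ R) : MulAut R where
  toFun x := ⟨z * x * z⁻¹, hz x x.2⟩
  invFun x := ⟨z * x * z⁻¹, hz x x.2⟩
  left_inv x := Subtype.ext (by
    have h1 : z⁻¹ = z := inv_eq_of_mul_eq_one_left hzz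
    show z * (z * (x : P) * z⁻¹) * z⁻¹ = x
    rw [h1]
    calc z * (z * (x : P) * z) * z = (z * z) * x * (z * z) := by group
      _ = x := by rw [hzz, one_mul, mul_one])
  right_inv x := Subtype.ext (by
    have h1 : z⁻¹ = z := inv_eq_of_mul_eq_one_left hzz
    show z * (z * (x : P) * z⁻¹) * z⁻¹ = x
    rw [h1]
    calc z * (z * (x : P) * z) * z = (z * z) * x * (z * z) := by group
      _ = x := by rw [hzz, one_mul, mul_one])
  map_mul' x y := Subtype.ext (by
    show z * ((x : P) * y) * z⁻¹ = z * x * z⁻¹ * (z * y * z⁻¹)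
    group)

theorem cos2_of_conj (R : Subgroup P) (hO : Nat.card (Cfsg.Out R) = 2) (z : P) (hzz : z * z = 1)
    (hz : ∀ x ∈ R, z * x * z⁻¹ ∈ R) (hout : ∀ r ∈ R, ¬ ∀ x ∈ R, z * x * z⁻¹ = r * x * r⁻¹) {t : P} (ht : t ∈ R)
    (hgen : R ≤ _root_.Subgroup.closure ({t, z * t * z⁻¹} : Set P)) : Cos2 R := by
  refine cos2_of_swap hO (α := conjAut R z hzz hz) ?_ ⟨t, ht⟩ ?_
  · intro g hg
    refine hout g g.2 fun x hx => ?_
    have h1 := DFunLike.congr_fun hg ⟨x, hx⟩
    exact congrArg Subtype.val h1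
  · rw [eq_top_iff]
    rintro x -
    have h1 : (_root_.Subgroup.closure ({⟨t, ht⟩, conjAut R z hzz hz ⟨t, ht⟩} : Set R)).map R.subtype =
        _root_.Subgroup.closure ({t, z * t * z⁻¹} : Set P) := by
      rw [MonoidHom.map_closure, Set.image_pair]
      rfl
    have h2 : (x : P) ∈ closure ({t, z * t * z⁻¹} : Set P) := hgen x.2
    rw [← h1] at h2
    obtain ⟨y, hy, h3⟩ := h2
    rwa [← Subtype.ext h3]

/-- normality on generators suffices -/
theorem conj_mem_of_gens {R : Subgroup P} {S : Set P} (hR : R = closure S) {z : P}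
    (h : ∀ x ∈ S, z * x * z⁻¹ ∈ R) : ∀ x ∈ R, z * x * z⁻¹ ∈ R := by
  have h1 : R ≤ R.comap (MulAut.conj z).toMonoidHom := by
    conv_lhs => rw [hR]
    rw [closure_le]
    intro x hx
    exact h x hx
  exact fun x hx => h1 hx

end Cfsg.Agent.H831.DG.PermAut
end

-- part: H97/DG/SpCox
section
/-!
# The torus trick for the symplectic groups (S4180, rows `PSp`)
-/

set_option autoImplicit false

namespace Cfsg.Agent.H97.DG

open Cfsg Cfsg.Agent.ClassicalGeometry.SympBasic Cfsg.Agent.ClassicalGeometry.SympAutSemi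

variable {F : Type*} [Field F] {n : ℕ}

/-- the Coxeter element -/
def cox (n : ℕ) : Equiv.Perm (Fin (n + 2) ⊕ Fin (n + 2)) where
  toFun := Sum.elim (fun i => if h : i.1 + 1 < n + 2 then Sum.inl ⟨i.1 + 1, h⟩ else Sum.inr 0)
    (fun i => if h : i.1 + 1 < n + 2 then Sum.inr ⟨i.1 + 1, h⟩ else Sum.inl 0)
  invFun := Sum.elim (fun i => if i.1 = 0 then Sum.inr (Fin.last (n + 1)) else Sum.inl ⟨i.1 - 1, by omega⟩)
    (fun i => if i.1 = 0 then Sum.inl (Fin.last (n + 1)) else Sum.inr ⟨i.1 - 1, by omega⟩)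
  left_inv := by
    rintro (i | i)
    · simp only [Sum.elim_inl]
      split_ifs with h
      · simp only [_root_.Fin.val_eq_zero_iff, _root_.Sum.elim_inl, _root_.Fin.mk_eq_zero, _root_.Nat.add_eq_zero_iff, _root_.one_ne_zero, _root_.and_false, ↓ _root_.reduceIte, _root_.add_tsub_cancel_right, _root_.Fin.eta]
      · have h1 : i = Fin.last (n + 1) := Fin.ext (by simp; omega)
        simp only [h1, _root_.Fin.val_eq_zero_iff, _root_.Sum.elim_inr, ↓ _root_.reduceIte]
    · simp only [Sum.elim_inr]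
      split_ifs with h
      · simp only [_root_.Fin.val_eq_zero_iff, _root_.Sum.elim_inr, _root_.Fin.mk_eq_zero, _root_.Nat.add_eq_zero_iff, _root_.one_ne_zero, _root_.and_false, ↓ _root_.reduceIte, _root_.add_tsub_cancel_right, _root_.Fin.eta]
      · have h1 : i = Fin.last (n + 1) := Fin.ext (by simp; omega)
        simp only [h1, _root_.Fin.val_eq_zero_iff, _root_.Sum.elim_inl, ↓ _root_.reduceIte]
  right_inv := by
    rintro (i | i)
    · simp only [Sum.elim_inl]
      split_ifs with h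
      · have h1 : i = 0 := Fin.ext h
        simp only [h1, _root_.add_lt_add_iff_right, _root_.Order.lt_add_one_iff, _root_.Sum.elim_inr, _root_.Fin.val_last, _root_.add_le_iff_nonpos_right, _root_.nonpos_iff_eq_zero, _root_.one_ne_zero, ↓ _root_.reduceDIte]
      · have h1 : i.1 - 1 + 1 < n + 2 := by omega
        have h2 : i.1 - 1 + 1 = i.1 := by omega
        simp only [Sum.elim_inl, h2, dif_pos i.2]
    · simp only [Sum.elim_inr]
      split_ifs with h
      · have h1 : i = 0 := Fin.ext h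
        simp only [h1, _root_.add_lt_add_iff_right, _root_.Order.lt_add_one_iff, _root_.Sum.elim_inl, _root_.Fin.val_last, _root_.add_le_iff_nonpos_right, _root_.nonpos_iff_eq_zero, _root_.one_ne_zero, ↓ _root_.reduceDIte]
      · have h1 : i.1 - 1 + 1 < n + 2 := by omega
        have h2 : i.1 - 1 + 1 = i.1 := by omega
        simp only [Sum.elim_inr, h2, dif_pos i.2]

theorem cox_inl_lt {i : ℕ} (h : i + 1 < n + 2) :
    cox n (Sum.inl ⟨i, by omega⟩) = Sum.inl ⟨i + 1, h⟩ := by
  show dite _ _ _ = _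
  rw [dif_pos h]

theorem cox_inr_lt {i : ℕ} (h : i + 1 < n + 2) :
    cox n (Sum.inr ⟨i, by omega⟩) = Sum.inr ⟨i + 1, h⟩ := by
  show dite _ _ _ = _
  rw [dif_pos h]

theorem cox_inl_last : cox n (Sum.inl (Fin.last (n + 1))) = Sum.inr 0 := by
  show dite _ _ _ = _
  rw [dif_neg (by simp)]

theorem cox_inr_last : cox n (Sum.inr (Fin.last (n + 1))) = Sum.inl 0 := by
  show dite _ _ _ = _
  rw [dif_neg (by simp)]

theorem cox_op (a : Fin (n + 2) ⊕ Fin (n + 2)) : cox n (op a) = op (cox n a) := by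
  rcases a with i | i
  · by_cases h : i.1 + 1 < n + 2
    · have h1 := cox_inl_lt h
      have h2 := cox_inr_lt h
      show cox n (Sum.inr i) = op (cox n (Sum.inl i))
      rw [show i = ⟨i.1, by omega⟩ from rfl, h1, h2]
      rfl
    · have h1 : i = Fin.last (n + 1) := Fin.ext (by simp; omega)
      show cox n (Sum.inr i) = op (cox n (Sum.inl i))
      rw [h1, cox_inl_last, cox_inr_last]
      rfl
  · by_cases h : i.1 + 1 < n + 2
    · have h1 := cox_inl_lt h
      have h2 := cox_inr_lt h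
      show cox n (Sum.inl i) = op (cox n (Sum.inr i))
      rw [show i = ⟨i.1, by omega⟩ from rfl, h1, h2]
      rfl
    · have h1 : i = Fin.last (n + 1) := Fin.ext (by simp; omega)
      show cox n (Sum.inl i) = op (cox n (Sum.inr i))
      rw [h1, cox_inl_last, cox_inr_last]
      rfl

/-- the sequence of the indices -/
def E (n k : ℕ) : Fin (n + 2) ⊕ Fin (n + 2) := (cox n ^ k) (Sum.inl 0)

theorem E_add (k j : ℕ) : E n (k + j) = (cox n ^ k) (E n j) := by
  rw [E, pow_add, Equiv.Perm.mul_apply]; rfl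

theorem E_succ (k : ℕ) : E n (k + 1) = cox n (E n k) := by
  show (cox n ^ (k + 1)) (Sum.inl 0) = cox n ((cox n ^ k) (Sum.inl 0))
  rw [pow_succ', Equiv.Perm.mul_apply]

theorem E_lt {j : ℕ} (h : j < n + 2) : E n j = Sum.inl ⟨j, h⟩ := by
  induction j with
  | zero => rfl
  | succ j ih => rw [E_succ, ih (by omega), cox_inl_lt h]

theorem E_ge {j : ℕ} (h : j < n + 2) : E n (n + 2 + j) = Sum.inr ⟨j, h⟩ := by
  induction j with
  | zero =>
    have h1 : E n (n + 1 + 1) = cox n (E n (n + 1)) := E_succ (n + 1)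
    rw [E_lt (j := n + 1) (by omega)] at h1
    exact h1.trans cox_inl_last
  | succ j ih => rw [← add_assoc, E_succ, ih (by omega), cox_inr_lt h]

theorem E_two : E n (n + 2 + (n + 2)) = E n 0 := by
  have h1 : E n (n + 2 + (n + 1) + 1) = cox n (E n (n + 2 + (n + 1))) := E_succ _
  rw [E_ge (j := n + 1) (by omega)] at h1
  exact h1.trans cox_inr_last

theorem E_period (k : ℕ) : E n (k + (n + 2 + (n + 2))) = E n k := by
  rw [E_add, E_two, ← E_add, add_zero]

theorem op_E (k : ℕ) : op (E n k) = E n (k + (n + 2)) := by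
  have h0 : E n (n + 2) = Sum.inr 0 := E_ge (j := 0) (by omega)
  rw [E_add, h0]
  have h : ∀ (k : ℕ) (a : Fin (n + 2) ⊕ Fin (n + 2)), (cox n ^ k) (op a) = op ((cox n ^ k) a) := by
    intro k
    induction k with
    | zero => intro a; rfl
    | succ k ih => intro a; rw [pow_succ, Equiv.Perm.mul_apply, Equiv.Perm.mul_apply, cox_op, ih]
  exact (h k (Sum.inl 0)).symm

theorem E_inj {i j : ℕ} (hi : i < n + 2 + (n + 2)) (hj : j < n + 2 + (n + 2)) (h : E n i = E n j) : i = j := by
  by_cases h1 : i < n + 2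
  · by_cases h2 : j < n + 2
    · rw [E_lt h1, E_lt h2] at h
      simpa using h
    · obtain ⟨j', rfl⟩ : ∃ j', j = n + 2 + j' := ⟨j - (n + 2), by omega⟩
      rw [E_lt h1, E_ge (by omega)] at h
      exact absurd h (by simp)
  · obtain ⟨i', rfl⟩ : ∃ i', i = n + 2 + i' := ⟨i - (n + 2), by omega⟩
    by_cases h2 : j < n + 2
    · rw [E_lt h2, E_ge (by omega)] at h
      exact absurd h (by simp)
    · obtain ⟨j', rfl⟩ : ∃ j', j = n + 2 + j' := ⟨j - (n + 2), by omega⟩
      rw [E_ge (by omega), E_ge (by omega)] at h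
      have h3 : i' = j' := by simpa using h
      rw [h3]

theorem E_ne {k i j : ℕ} (hi : i < n + 2 + (n + 2)) (hj : j < n + 2 + (n + 2)) (h : i ≠ j) :
    E n (k + i) ≠ E n (k + j) := by
  rw [E_add, E_add]
  exact fun e => h (E_inj hi hj ((cox n ^ k).injective e))

theorem E_surj (a : Fin (n + 2) ⊕ Fin (n + 2)) : ∃ i < n + 2 + (n + 2), E n i = a := by
  rcases a with i | i
  · exact ⟨i.1, by omega, E_lt i.2⟩
  · exact ⟨n + 2 + i.1, by omega, E_ge i.2⟩

/-- the induction -/
theorem R_ind (M : Subgroup (Equiv.Perm (Vec (n + 2) F)))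
    (hX : ∀ k s, R F (E n k) (E n (k + (n + 2 + 1))) s ∈ M) (r : ℕ) (hr : r < n + 2) (k : ℕ) (s : F) :
    R F (E n k) (E n (k + (n + 2 + (r + 1)))) s ∈ M := by
  induction r generalizing k s with
  | zero => exact hX k s
  | succ r ih =>
    have h1 : op (E n (k + (n + 2 + (r + 1)))) = E n (k + (r + 1)) := by
      rw [op_E, show k + (n + 2 + (r + 1)) + (n + 2) = k + (r + 1) + (n + 2 + (n + 2)) by omega, E_period]
    have h2 := hX (k + (r + 1))
    rw [← h1, show k + (r + 1) + (n + 2 + 1) = k + (n + 2 + (r + 1 + 1)) by omega] at h2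
    have h0 : E n k = E n (k + 0) := rfl
    have hd : ∀ j, j < n + 2 + (n + 2) → j ≠ 0 → j ≠ n + 2 + (r + 1 + 1) →
        E n (k + (n + 2 + (r + 1 + 1))) ≠ E n (k + j) := by
      intro j hj hj0 hj1
      by_cases h3 : n + 2 + (r + 1 + 1) = n + 2 + (n + 2)
      · rw [h3, E_period, h0]
        exact E_ne (by omega) hj (Ne.symm hj0)
      · exact E_ne (by omega) hj (Ne.symm hj1)
    refine R_mem (b := E n (k + (n + 2 + (r + 1)))) ?_ ?_ ?_ ?_ ?_ (ih (by omega) k) h2 s
    · rw [op_E]
      exact E_ne (by omega) (by omega) (by omega)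
    · rw [h0]
      exact E_ne (by omega) (by omega) (by omega)
    · rw [h1]
      exact hd _ (by omega) (by omega) (by omega)
    · exact hd _ (by omega) (by omega) (by omega)
    · rw [op_E]
      exact hd _ (by omega) (by omega) (by omega)

theorem R_all (M : Subgroup (Equiv.Perm (Vec (n + 2) F)))
    (hX : ∀ k s, R F (E n k) (E n (k + (n + 2 + 1))) s ∈ M) {a b : Fin (n + 2) ⊕ Fin (n + 2)} (h1 : b ≠ op a)
    (h2 : a ≠ b) (s : F) : R F a b s ∈ M := by
  obtain ⟨i, hi, rfl⟩ := E_surj a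
  obtain ⟨j, hj, rfl⟩ := E_surj b
  have key : ∀ i j : ℕ, i < j → j < n + 2 + (n + 2) → E n j ≠ op (E n i) → ∀ s, R F (E n i) (E n j) s ∈ M := by
    intro i j hij hj hne s
    have hne' : j ≠ i + (n + 2) := by
      rintro rfl
      exact hne (op_E i).symm
    rcases Nat.lt_or_ge (i + (n + 2)) j with h3 | h3
    · have h4 := R_ind M hX (j - i - (n + 2) - 1) (by omega) i s
      rwa [show i + (n + 2 + (j - i - (n + 2) - 1 + 1)) = j by omega] at h4
    · have h4 := R_ind M hX (n + 2 - (j - i) - 1) (by omega) j s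
      rw [show j + (n + 2 + (n + 2 - (j - i) - 1 + 1)) = i + (n + 2 + (n + 2)) by omega, E_period] at h4
      rw [R_comm hne]
      exact h4
  rcases lt_trichotomy i j with h | h | h
  · exact key i j h hj h1 s
  · exact absurd (by rw [h]) h2
  · rw [R_comm h1]
    refine key j i h hi ?_ s
    intro e
    exact h1 (by rw [e, op_op])

theorem L_all (M : Subgroup (Equiv.Perm (Vec (n + 2) F)))
    (hX : ∀ k s, R F (E n k) (E n (k + (n + 2 + 1))) s ∈ M) (h2 : (2 : F) ≠ 0) (a : Fin (n + 2) ⊕ Fin (n + 2)) (s : F) :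
    L F a s ∈ M := by
  obtain ⟨i, hi, rfl⟩ := E_surj a
  have h := R_ind M hX (n + 1) (by omega) i (2⁻¹ * s)
  rw [show i + (n + 2 + (n + 1 + 1)) = i + (n + 2 + (n + 2)) by omega, E_period, R_self, ← mul_assoc,
    mul_inv_cancel₀ h2, one_mul] at h
  exact h

end Cfsg.Agent.H97.DG
end

-- part: H97/DG/SpLift
section
/-!
# Lifts for the symplectic groups (S4180, rows `PSp`)
-/

set_option autoImplicit false

namespace Cfsg.Agent.H97.DG

open Cfsg Cfsg.Agent.ClassicalGeometry.SympBasic Cfsg.Agent.ClassicalGeometry.SympAutSemi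
open Cfsg.Agent.H891.Gen

section Torus

variable {F : Type*} [Field F] {m n : ℕ}

theorem mono_diag (π : Equiv.Perm (Fin m ⊕ Fin m)) (c t : Fin m ⊕ Fin m → Fˣ) (σ : F ≃+* F) :
    mono π c σ * mono (Equiv.refl _) t (RingEquiv.refl F) * (mono π c σ)⁻¹ =
      mono (Equiv.refl _) (fun a => Units.map (σ : F →* F) (t (π.symm a))) (RingEquiv.refl F) := by
  rw [mul_inv_eq_iff_eq_mul]
  ext1 v
  funext a
  rw [Equiv.Perm.mul_apply, Equiv.Perm.mul_apply, mono_apply, mono_apply, mono_apply, mono_apply]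
  simp only [Equiv.refl_symm, Equiv.refl_apply, RingEquiv.refl_apply, map_mul]
  show _ = σ _ * _
  ring

theorem diag_comm (t t' : Fin m ⊕ Fin m → Fˣ) :
    mono (Equiv.refl _) t (RingEquiv.refl F) * mono (Equiv.refl _) t' (RingEquiv.refl F) =
      mono (Equiv.refl _) t' (RingEquiv.refl F) * mono (Equiv.refl _) t (RingEquiv.refl F) := by
  ext1 v
  funext a
  rw [Equiv.Perm.mul_apply, Equiv.Perm.mul_apply, mono_apply, mono_apply, mono_apply, mono_apply]
  simp only [Equiv.refl_symm, Equiv.refl_apply, RingEquiv.refl_apply]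
  ring

theorem diag_pow (t : Fin m ⊕ Fin m → Fˣ) (k : ℕ) :
    mono (Equiv.refl _) t (RingEquiv.refl F) ^ k = mono (Equiv.refl _) (t ^ k) (RingEquiv.refl F) := by
  induction k with
  | zero =>
    ext1 v
    funext a
    rw [mono_apply, pow_zero, pow_zero]
    simp
  | succ k ih =>
    rw [pow_succ, ih]
    ext1 v
    funext a
    rw [Equiv.Perm.mul_apply, mono_apply, mono_apply, mono_apply, pow_succ]
    simp only [Equiv.refl_symm, Equiv.refl_apply, RingEquiv.refl_apply, Pi.mul_apply, Units.val_mul]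
    ring

/-- the torus coefficients -/
def tt (μ : Fˣ) (t : Fin m → Fˣ) : Fin m ⊕ Fin m → Fˣ := Sum.elim t (fun i => μ * (t i)⁻¹)

theorem tt_inl (μ : Fˣ) (t : Fin m → Fˣ) (i : Fin m) : tt μ t (Sum.inl i) = t i := rfl

theorem tt_inr (μ : Fˣ) (t : Fin m → Fˣ) (i : Fin m) : tt μ t (Sum.inr i) = μ * (t i)⁻¹ := rfl

/-- the torus element -/
def tor (μ : Fˣ) (t : Fin m → Fˣ) : Equiv.Perm (Vec m F) := mono (Equiv.refl _) (tt μ t) (RingEquiv.refl F)

theorem isSemi_tor (μ : Fˣ) (t : Fin m → Fˣ) : IsSemi (tor μ t) (RingEquiv.refl F) (μ : F) := by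
  refine isSemi_mono (fun a => rfl) ?_
  rintro (i | i)
  · show (t i : F) * ((μ * (t i)⁻¹ : Fˣ) : F) * _ = _
    rw [← Units.val_mul, mul_comm (t i), inv_mul_cancel_right]
    rfl
  · show ((μ * (t i)⁻¹ : Fˣ) : F) * (t i : F) * _ = _
    rw [← Units.val_mul, inv_mul_cancel_right]
    rfl

/-- the coefficients of the Coxeter element -/
def cc (n : ℕ) (μ : Fˣ) : Fin (n + 2) ⊕ Fin (n + 2) → Fˣ :=
  Sum.elim (fun _ => 1) (fun i => if i = Fin.last (n + 1) then -μ else μ)

/-- the Coxeter element -/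
def wcox (n : ℕ) (μ : Fˣ) (σ : F ≃+* F) : Equiv.Perm (Vec (n + 2) F) := mono (cox n) (cc n μ) σ

theorem isSemi_wcox (μ : Fˣ) (σ : F ≃+* F) : IsSemi (wcox n μ σ) σ (μ : F) := by
  refine isSemi_mono cox_op ?_
  have h1 : ∀ i : Fin (n + 2), (cc n μ (Sum.inl i) : F) * cc n μ (Sum.inr i) * sg F (cox n (Sum.inl i)) =
      μ * sg F (Sum.inl i) := by
    intro i
    by_cases hi : i = Fin.last (n + 1)
    · subst hi
      rw [cox_inl_last]
      simp [cc, sg]
    · have h2 : i.1 + 1 < n + 2 := by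
        have := i.2
        have h3 : i.1 ≠ n + 1 := fun e => hi (Fin.ext e)
        omega
      have h3 := cox_inl_lt h2
      rw [show i = ⟨i.1, by omega⟩ from rfl, h3]
      simp [cc, sg, hi]
  rintro (i | i)
  · exact h1 i
  · have h2 := h1 i
    have h3 : sg F (cox n (Sum.inr i)) = - sg F (cox n (Sum.inl i)) := by
      have := cox_op (Sum.inl i : Fin (n + 2) ⊕ Fin (n + 2))
      rw [show (Sum.inr i : Fin (n + 2) ⊕ Fin (n + 2)) = op (Sum.inl i) from rfl, this, sg_op]
    have h4 : sg F (Sum.inr i : Fin (n + 2) ⊕ Fin (n + 2)) = - sg F (Sum.inl i : Fin (n + 2) ⊕ Fin (n + 2)) := by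
      rw [← sg_op]
      rfl
    show (cc n μ (Sum.inr i) : F) * cc n μ (Sum.inl i) * sg F (cox n (Sum.inr i)) = _
    rw [h3, h4]
    linear_combination -h2

theorem E_zero : E n 0 = Sum.inl 0 := rfl

theorem E_three : E n (n + 2 + 1) = Sum.inr 1 := E_ge (j := 1) (by omega)

/-- the root group `X₀` -/
def X (F : Type*) [Field F] (n : ℕ) : Subgroup (Equiv.Perm (Vec (n + 2) F)) where
  carrier := {g | ∃ s : F, g = R F (Sum.inl 0) (Sum.inr 1) s}
  mul_mem' := by
    rintro _ _ ⟨s, rfl⟩ ⟨t, rfl⟩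
    exact ⟨s + t, R_mul (by simp) s t⟩
  one_mem' := ⟨0, (R_zero (by simp)).symm⟩
  inv_mem' := by
    rintro _ ⟨s, rfl⟩
    exact ⟨-s, R_inv (by simp) s⟩

theorem R_inj {a b : Fin m ⊕ Fin m} (h : b ≠ op a) (hab : a ≠ b) {s t : F} (e : R F a b s = R F a b t) : s = t := by
  have h1 := congrFun (DFunLike.congr_fun e (bv F (op a))) b
  rw [R_apply h, R_apply h] at h1
  have h2 : sympForm m F (bv F (op a)) (bv F b) = 0 := form_bb (by rw [op_op]; exact Ne.symm hab)
  rw [form_bo, h2] at h1
  simp only [Pi.add_apply, Pi.smul_apply, smul_eq_mul, bv_apply, if_pos, mul_one, mul_zero, zero_mul, add_zero] at h1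
  have h3 := add_left_cancel h1
  exact mul_right_cancel₀ (sg_ne _) h3

theorem tor_R (μ : Fˣ) (t : Fin (n + 2) → Fˣ) (s : F) :
    tor μ t * R F (Sum.inl 0) (Sum.inr 1) s * (tor μ t)⁻¹ =
      R F (Sum.inl 0) (Sum.inr 1) ((t 0 : F) * ((t 1)⁻¹ : Fˣ) * s) := by
  have h := mono_R (F := F) (m := n + 2) (π := Equiv.refl _) (c := tt μ t) (σ := RingEquiv.refl F) (l := (μ : F)) μ.ne_zero
    (fun a => rfl) (isSemi_tor μ t) (a := Sum.inl 0) (b := Sum.inr 1) (by simp) s
  rw [tor, h]
  congr 1
  rw [tt_inl, tt_inr, RingEquiv.refl_apply, Units.val_mul]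
  field_simp

theorem tor_R' (μ : Fˣ) (t : Fin (n + 2) → Fˣ) (s : F) :
    (tor μ t)⁻¹ * R F (Sum.inl 0) (Sum.inr 1) s * tor μ t =
      R F (Sum.inl 0) (Sum.inr 1) ((t 1 : F) * ((t 0)⁻¹ : Fˣ) * s) := by
  rw [← mul_right_inj (tor μ t), ← mul_left_inj (tor μ t)⁻¹, tor_R]
  have e : tor μ t * ((tor μ t)⁻¹ * R F (Sum.inl 0) (Sum.inr 1) s * tor μ t) * (tor μ t)⁻¹ =
    R F (Sum.inl 0) (Sum.inr 1) s := by group
  rw [e]
  congr 1
  have h1 : (t 0 : F) * ((t 0)⁻¹ : Fˣ) = 1 := Units.mul_inv _
  have h2 : (t 1 : F) * ((t 1)⁻¹ : Fˣ) = 1 := Units.mul_inv _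
  linear_combination (-s * (t 1 : F) * ((t 1)⁻¹ : Fˣ)) * h1 - s * h2


/-- the Coxeter conjugate of a torus element -/
theorem wcox_tor (μ μ' : Fˣ) (t : Fin (n + 2) → Fˣ) (σ : F ≃+* F) :
    ∃ t' : Fin (n + 2) → Fˣ, wcox n μ' σ * tor μ t * (wcox n μ' σ)⁻¹ = tor (Units.map (σ : F →* F) μ) t' ∧
      (t' 0 = t' 1 → t 0 * t (Fin.last (n + 1)) = μ) := by
  have hs1 : (cox n).symm (Sum.inl 0) = Sum.inr (Fin.last (n + 1)) := by
    rw [Equiv.symm_apply_eq, cox_inr_last]
  have hs2 : (cox n).symm (Sum.inl 1) = Sum.inl 0 := by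
    rw [Equiv.symm_apply_eq]
    exact (cox_inl_lt (i := 0) (by omega)).symm
  refine ⟨fun i => Units.map (σ : F →* F) (tt μ t ((cox n).symm (Sum.inl i))), ?_, ?_⟩
  · rw [wcox, tor, mono_diag, tor]
    congr 1
    funext a
    rcases a with i | i
    · rfl
    · rw [tt_inr, ← map_inv, ← map_mul]
      congr 1
      have h1 : (cox n).symm (Sum.inr i) = op ((cox n).symm (Sum.inl i)) := by
        rw [Equiv.symm_apply_eq, cox_op, Equiv.apply_symm_apply]
        rfl
      rw [h1]
      rcases (cox n).symm (Sum.inl i) with j | j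
      · show tt μ t (Sum.inr j) = _
        rw [tt_inr, tt_inl]
      · show tt μ t (Sum.inl j) = _
        rw [tt_inr, tt_inl, mul_inv_rev, inv_inv, mul_comm (t j), mul_inv_cancel_left]
  · intro h
    have h1 := Units.map_injective (f := (σ : F →* F)) σ.injective h
    rw [hs1, hs2, tt_inr, tt_inl] at h1
    rw [← h1, inv_mul_cancel_right]

/-- **the torus trick** -/
theorem core [Finite F] {z : Fˣ} (hz : ∀ u : Fˣ, u ∈ Subgroup.zpowers z) (hz1 : z ≠ 1) {μ μ' : Fˣ} {t : Fin (n + 2) → Fˣ}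
    (h0 : t 0 = z * t 1) (h1 : t 0 * t (Fin.last (n + 1)) ≠ μ) {σ : F ≃+* F}
    {M : Subgroup (Equiv.Perm (Vec (n + 2) F))} (hh : tor μ t ∈ M)
    (hw : R F (Sum.inl 0) (Sum.inr 1) 1 * wcox n μ' σ ∈ M) :
    X F n ≤ M ∧ wcox n μ' σ ∈ M := by
  obtain ⟨t', ht', ht1⟩ := wcox_tor μ μ' t σ
  have hzt : t 0 * (t 1)⁻¹ = z := by rw [h0, mul_inv_cancel_right]
  have hzF : (t 0 : F) * ((t 1)⁻¹ : Fˣ) = z := by rw [← Units.val_mul, hzt]
  have hne : (Sum.inl 0 : Fin (n + 2) ⊕ Fin (n + 2)) ≠ Sum.inr 1 := by simp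
  have hop : (Sum.inr 1 : Fin (n + 2) ⊕ Fin (n + 2)) ≠ op (Sum.inl 0) := by simp
  refine Cfsg.Agent.H136.TwoGen.torus_trick M (X F n) hh hw ⟨1, rfl⟩ ?_ ?_ ?_ ?_ ?_ ?_ ?_
  · rintro _ ⟨s, rfl⟩
    rw [ht', tor_R]
    exact ⟨_, rfl⟩
  · rintro _ ⟨s, rfl⟩
    rw [ht', tor_R']
    exact ⟨_, rfl⟩
  · intro Y hY hhY
    let A : AddSubgroup F :=
      { carrier := {s | R F (Sum.inl 0) (Sum.inr 1) s ∈ Y}
        add_mem' := fun {a b} ha hb => by
          show R F _ _ (a + b) ∈ Y
          rw [← R_mul hop]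
          exact Y.mul_mem ha hb
        zero_mem' := by
          show R F _ _ 0 ∈ Y
          rw [R_zero hop]
          exact Y.one_mem
        neg_mem' := fun {a} ha => by
          show R F _ _ (-a) ∈ Y
          rw [← R_inv hop]
          exact Y.inv_mem ha }
    have hA : ∀ a ∈ A, (z : F) ^ 2 * a ∈ A := by
      have h2 : ∀ a ∈ A, (z : F) * a ∈ A := by
        intro a ha
        have := hhY _ ha
        rw [tor_R, hzF] at this
        exact this
      intro a ha
      rw [pow_two, mul_assoc]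
      exact h2 _ (h2 _ ha)
    rcases Cfsg.Agent.H136.FieldLem.eq_bot_or_top hz A hA with h | h
    · left
      rw [eq_bot_iff]
      intro y hy
      obtain ⟨s, rfl⟩ := hY hy
      have h2 : s ∈ A := hy
      rw [h] at h2
      rw [AddSubgroup.mem_bot.1 h2, R_zero hop]
      exact Subgroup.mem_bot.2 rfl
    · right
      refine le_antisymm hY ?_
      rintro _ ⟨s, rfl⟩
      have h2 : s ∈ A := by rw [h]; trivial
      exact h2
  · refine ⟨R F (Sum.inl 0) (Sum.inr 1) 1, ⟨1, rfl⟩, fun e => hz1 ?_⟩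
    have h2 := tor_R μ t (1 : F)
    rw [e, mul_inv_cancel_right, hzF, mul_one] at h2
    have h3 : (1 : F) = z := R_inj hop hne h2
    exact Units.ext h3.symm
  · rintro _ ⟨s, rfl⟩
    rw [tor_R]
    exact ⟨_, rfl⟩
  · rw [ht', tor, tor, diag_comm]
  · rw [ht']
    intro e
    have h2 := tor_R (Units.map (σ : F →* F) μ) t' (1 : F)
    rw [e, mul_inv_cancel_right, mul_one] at h2
    have h3 : (1 : F) = (t' 0 : F) * ((t' 1)⁻¹ : Fˣ) := R_inj hop hne h2
    have h4 : t' 0 * (t' 1)⁻¹ = 1 := Units.ext (by rw [Units.val_mul, ← h3, Units.val_one])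
    exact h1 (ht1 (mul_inv_eq_one.1 h4))

/-- spreading the root group -/
theorem spread {μ' : Fˣ} {σ : F ≃+* F} {M : Subgroup (Equiv.Perm (Vec (n + 2) F))} (hX : X F n ≤ M)
    (hw : wcox n μ' σ ∈ M) (k : ℕ) (s : F) : R F (E n k) (E n (k + (n + 2 + 1))) s ∈ M := by
  induction k generalizing s with
  | zero =>
    rw [zero_add, E_three, E_zero]
    exact hX ⟨s, rfl⟩
  | succ k ih =>
    have hk : E n (k + (n + 2 + 1)) ≠ op (E n k) := by
      rw [op_E]
      exact E_ne (by omega) (by omega) (by omega)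
    obtain ⟨c, hc⟩ : ∃ c : Fˣ, ∀ s, wcox n μ' σ * R F (E n k) (E n (k + (n + 2 + 1))) s * (wcox n μ' σ)⁻¹ =
        R F (E n (k + 1)) (E n (k + 1 + (n + 2 + 1))) (c * σ s) := by
      refine ⟨cc n μ' (E n k) * cc n μ' (E n (k + (n + 2 + 1))) * μ'⁻¹, fun s => ?_⟩
      have h := mono_R (F := F) (m := n + 2) (π := cox n) (c := cc n μ') (σ := σ) (l := (μ' : F)) μ'.ne_zero
        cox_op (isSemi_wcox μ' σ) hk s
      rw [wcox, h, ← E_succ, ← E_succ, show k + (n + 2 + 1) + 1 = k + 1 + (n + 2 + 1) by omega]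
      congr 1
      push_cast
      ring
    have h1 := hc (σ.symm (((c⁻¹ : Fˣ) : F) * s))
    rw [RingEquiv.apply_symm_apply, Units.mul_inv_cancel_left] at h1
    rw [← h1]
    exact M.mul_mem (M.mul_mem hw (ih _)) (M.inv_mem hw)

theorem le_of_core [Finite F] {z : Fˣ} (hz : ∀ u : Fˣ, u ∈ Subgroup.zpowers z) (hz1 : z ≠ 1) {μ μ' : Fˣ} {t : Fin (n + 2) → Fˣ}
    (h0 : t 0 = z * t 1) (h1 : t 0 * t (Fin.last (n + 1)) ≠ μ) {σ : F ≃+* F}
    {M : Subgroup (Equiv.Perm (Vec (n + 2) F))} (hh : tor μ t ∈ M)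
    (hw : R F (Sum.inl 0) (Sum.inr 1) 1 * wcox n μ' σ ∈ M)
    (hL : (2 : F) ≠ 0 ∨ ∃ a, L F a 1 ∈ M) : (rho (n + 2) F).range ≤ M := by
  obtain ⟨hX, hw'⟩ := core hz hz1 h0 h1 hh hw
  have hs := spread hX hw'
  refine range_le_of_roots M (fun a b h2 h3 s => R_all M hs h2 h3 s) fun a s => ?_
  by_cases h2 : (2 : F) = 0
  · rcases hL with hL | ⟨a₀, hL⟩
    · exact absurd h2 hL
    · exact long_of_one (by omega) h2 M (fun a b h2 h3 s => R_all M hs h2 h3 s) a₀ hL a s
  · exact L_all M hs h2 a s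

end Torus

section Lifts

variable {F : Type*} [Field F] {m n : ℕ}

theorem mem_range {g : Equiv.Perm (Vec m F)} (h : IsSemi g (RingEquiv.refl F) 1) : g ∈ (rho m F).range := by
  obtain ⟨A, hA⟩ := exists_rho_eq g h.1 (fun a v => h.2.1 a v) (fun u v => by rw [h.2.2, one_mul]; rfl)
  exact ⟨A, hA⟩

theorem inv_mul_mem {g h : Equiv.Perm (Vec m F)} {φ : F ≃+* F} {l : F} (hl : l ≠ 0) (hg : IsSemi g φ l)
    (hh : IsSemi h φ l) : g⁻¹ * h ∈ (rho m F).range := by
  have h1 := (hg.inv hl).mul hh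
  have e1 : φ.trans φ.symm = RingEquiv.refl F := by
    ext a
    simp
  have e2 : φ.symm l⁻¹ * φ.symm l = 1 := by
    rw [← map_mul, inv_mul_cancel₀ hl, map_one]
  rw [e1, e2] at h1
  exact mem_range h1

theorem L_mul (a : Fin m ⊕ Fin m) (s t : F) : L F a s * L F a t = L F a (s + t) := by
  rw [L, L, L, ← map_mul]
  apply congrArg
  apply rho_injective
  ext1 x
  rw [map_mul, Equiv.Perm.mul_apply, rho_transv, rho_transv, rho_transv, sympForm_add_left, sympForm_smul_left,
    sympForm_self]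
  module

theorem L_zero (a : Fin m ⊕ Fin m) : L F a 0 = 1 := by
  ext1 x
  rw [L, rho_transv]
  simp

theorem lift_odd [Finite F] {z : Fˣ} (hz : ∀ u : Fˣ, u ∈ Subgroup.zpowers z) (hz1 : z ≠ 1) {μ μ' : Fˣ}
    {t : Fin (n + 2) → Fˣ} (h0 : t 0 = z * t 1) (h1 : t 0 * t (Fin.last (n + 1)) ≠ μ) {σ : F ≃+* F}
    (h2 : (2 : F) ≠ 0) {x y : Equiv.Perm (Vec (n + 2) F)} (hx : IsSemi x (RingEquiv.refl F) (μ : F))
    (hy : IsSemi y σ (μ' : F)) : Lift (rho (n + 2) F).range x y := by
  refine ⟨x⁻¹ * tor μ t, inv_mul_mem μ.ne_zero hx (isSemi_tor μ t),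
    y⁻¹ * (R F (Sum.inl 0) (Sum.inr 1) 1 * wcox n μ' σ), ?_, ?_⟩
  · refine inv_mul_mem μ'.ne_zero hy ?_
    have h3 := (isSemi_rho (et (bv F (Sum.inl 0 : Fin (n + 2) ⊕ Fin (n + 2))) (bv F (Sum.inr 1)) 1)).mul
      (isSemi_wcox μ' σ)
    rw [one_mul] at h3
    exact h3
  · rw [mul_inv_cancel_left, mul_inv_cancel_left]
    exact le_of_core (μ' := μ') (σ := σ) hz hz1 h0 h1 (Subgroup.subset_closure (by simp))
      (Subgroup.subset_closure (by simp)) (Or.inl h2)

theorem lift_even [Fintype F] {z : Fˣ} (hz : ∀ u : Fˣ, u ∈ Subgroup.zpowers z) (hz1 : z ≠ 1) {μ μ' : Fˣ}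
    {σ : F ≃+* F} (h2 : (2 : F) = 0) {x y : Equiv.Perm (Vec (n + 2) F)} (hx : IsSemi x (RingEquiv.refl F) (μ : F))
    (hy : IsSemi y σ (μ' : F)) : Lift (rho (n + 2) F).range x y := by
  classical
  have hch : CharP F 2 := CharTwo.of_one_ne_zero_of_two_eq_zero one_ne_zero h2
  have hodd : Odd (Fintype.card Fˣ) := by
    rw [← Nat.not_even_iff_odd]
    intro h
    obtain ⟨u, hu⟩ := exists_prime_orderOf_dvd_card 2 (even_iff_two_dvd.1 h)
    have h3 : u ^ 2 = 1 := by rw [← hu]; exact pow_orderOf_eq_one u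
    have h4 : (u : F) = 1 := by
      have h5 : ((u : F) - 1) ^ 2 = 0 := by
        have h6 : (u : F) ^ 2 = 1 := by rw [← Units.val_pow_eq_pow_val, h3, Units.val_one]
        linear_combination h6 + (1 - (u : F)) * h2
      exact sub_eq_zero.1 (pow_eq_zero_iff (by norm_num) |>.1 h5)
    have h5 : u = 1 := Units.ext h4
    rw [h5, orderOf_one] at hu
    omega
  obtain ⟨ν, hν⟩ : ∃ ν : Fˣ, ν ^ 2 = μ := by
    obtain ⟨k, hk⟩ := hodd
    refine ⟨μ ^ (k + 1), ?_⟩
    rw [← pow_mul, show (k + 1) * 2 = Fintype.card Fˣ + 1 by omega, pow_succ, pow_card_eq_one, one_mul]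
  set t : Fin (n + 2) → Fˣ := fun i => if i = 0 then z * ν else ν with ht
  have ht0 : t 0 = z * ν := if_pos rfl
  have ht1 : ∀ i, i ≠ 0 → t i = ν := fun i hi => if_neg hi
  have h10 : (1 : Fin (n + 2)) ≠ 0 := by simp
  have hl0 : Fin.last (n + 1) ≠ 0 := Fin.last_pos.ne'
  set a : Fin (n + 2) ⊕ Fin (n + 2) := Sum.inl (Fin.last (n + 1)) with ha
  -- the two commuting elements
  have hcomm : tor μ t * L F a 1 = L F a 1 * tor μ t := by
    have h := mono_L (F := F) (m := n + 2) (π := Equiv.refl _) (c := tt μ t) (σ := RingEquiv.refl F) (l := (μ : F))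
      μ.ne_zero (isSemi_tor μ t) a 1
    rw [← mul_inv_eq_iff_eq_mul, tor, h]
    congr 1
    rw [ha, tt_inl, ht1 _ hl0, RingEquiv.refl_apply, mul_one, ← Units.val_pow_eq_pow_val, hν, Units.mul_inv']
  have hq1 : tor μ t ^ Fintype.card Fˣ = 1 := by
    rw [tor, diag_pow]
    ext1 v
    funext b
    rw [mono_apply, Pi.pow_apply, pow_card_eq_one]
    simp
  have hq2 : L F a 1 ^ 2 = (1 : Equiv.Perm (Vec (n + 2) F)) := by
    rw [pow_two, L_mul, one_add_one_eq_two, h2, L_zero]
  refine ⟨x⁻¹ * (tor μ t * L F a 1), ?_, y⁻¹ * (R F (Sum.inl 0) (Sum.inr 1) 1 * wcox n μ' σ), ?_, ?_⟩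
  · refine inv_mul_mem μ.ne_zero hx ?_
    have h3 := (isSemi_tor μ t).mul (isSemi_rho (transv (bv F a) 1))
    rw [map_one, mul_one] at h3
    exact h3
  · refine inv_mul_mem μ'.ne_zero hy ?_
    have h3 := (isSemi_rho (et (bv F (Sum.inl 0 : Fin (n + 2) ⊕ Fin (n + 2))) (bv F (Sum.inr 1)) 1)).mul
      (isSemi_wcox μ' σ)
    rw [one_mul] at h3
    exact h3
  · rw [mul_inv_cancel_left, mul_inv_cancel_left]
    set M := Subgroup.closure ({tor μ t * L F a 1, R F (Sum.inl 0) (Sum.inr 1) 1 * wcox n μ' σ} :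
      Set (Equiv.Perm (Vec (n + 2) F))) with hM
    have hxM : tor μ t * L F a 1 ∈ M := Subgroup.subset_closure (by simp)
    have hLM : L F a 1 ∈ M := by
      have h3 : (tor μ t * L F a 1) ^ Fintype.card Fˣ = L F a 1 := by
        rw [(show Commute (tor μ t) (L F a 1) from hcomm).mul_pow, hq1, one_mul]
        obtain ⟨k, hk⟩ := hodd
        rw [hk, pow_succ, pow_mul, hq2, one_pow, one_mul]
      rw [← h3]
      exact M.pow_mem hxM _
    have htM : tor μ t ∈ M := by
      have h3 := M.mul_mem hxM (M.inv_mem hLM)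
      rwa [mul_inv_cancel_right] at h3
    refine le_of_core (μ := μ) (t := t) (μ' := μ') (σ := σ) hz hz1 ?_ ?_ htM (Subgroup.subset_closure (by simp))
      (Or.inr ⟨a, hLM⟩)
    · rw [ht0, ht1 1 h10]
    · rw [ht0, ht1 _ hl0, mul_assoc, ← pow_two, hν]
      intro h3
      exact hz1 (mul_eq_right.1 h3)

end Lifts

end Cfsg.Agent.H97.DG
end

-- part: H97/DG/SpCos
section
/-!
# `Cos2` for the symplectic groups (S4180, C5 and C6)
-/

set_option autoImplicit false

namespace Cfsg.Agent.H97.DG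

open Cfsg Cfsg.Agent.ClassicalGeometry.SympBasic Cfsg.Agent.ClassicalGeometry.SympAutSemi
open Cfsg.Agent.H891.Gen Cfsg.Agent.H891.DG Cfsg.Agent.H891.DG.Nielsen Cfsg.Agent.H230.GenPsl
open Cfsg.Agent.ClassicalGeometry.SympAutExists Cfsg.Agent.ClassicalGeometry.SympGamma

section Semi

variable {F : Type*} [Field F] {m : ℕ}

theorem isSemi_one : IsSemi (1 : Equiv.Perm (Vec m F)) (RingEquiv.refl F) 1 := by
  have := isSemi_rho (1 : Matrix.symplecticGroup (Fin m) F)
  rwa [map_one] at this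

/-- the field automorphism of a semisimilitude -/
noncomputable def fieldPart (F : Type*) [Field F] {m : ℕ} (hm : 1 ≤ m) : semiSim m F →* (F ≃+* F) where
  toFun g := g.2.choose
  map_one' := by
    obtain ⟨l, hl, h⟩ := (1 : semiSim m F).2.choose_spec
    exact (IsSemi.unique hm h isSemi_one).1
  map_mul' g h := by
    obtain ⟨l, hl, h1⟩ := g.2.choose_spec
    obtain ⟨k, hk, h2⟩ := h.2.choose_spec
    obtain ⟨j, hj, h3⟩ := (g * h).2.choose_spec
    exact (IsSemi.unique hm h3 (h1.mul h2)).1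

theorem fieldPart_spec (hm : 1 ≤ m) (g : semiSim m F) : ∃ l : Fˣ, IsSemi g.1 (fieldPart F hm g) (l : F) := by
  obtain ⟨l, hl, h⟩ := g.2.choose_spec
  exact ⟨Units.mk0 l hl, h⟩

/-- the isometries in the semisimilitudes -/
abbrev NS (m : ℕ) (F : Type*) [Field F] : Subgroup (semiSim m F) := (rho m F).range.subgroupOf (semiSim m F)

theorem range_le : (rho m F).range ≤ semiSim m F := by
  rintro _ ⟨A, rfl⟩
  exact ⟨_, _, one_ne_zero, isSemi_rho A⟩

theorem NS_normal : (NS m F).Normal := by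
  refine ⟨?_⟩
  rintro ⟨_, h⟩ ⟨A, rfl⟩ g
  obtain ⟨B, hB⟩ := exists_conj g A
  exact Subgroup.mem_subgroupOf.2 ⟨B, hB⟩

theorem lift_sub {x y : semiSim m F} (h : Lift (rho m F).range x.1 y.1) : Lift (NS m F) x y := by
  apply lift_of_map (semiSim m F).subtype (semiSim m F).subtype_injective
  rwa [Subgroup.subgroupOf_map_subtype, inf_eq_left.2 range_le]

theorem Psi_rho (A : Matrix.symplecticGroup (Fin m) F) (h : rho m F A ∈ semiSim m F) :
    Psi m F ⟨rho m F A, h⟩ = MulAut.conj (QuotientGroup.mk A) := by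
  apply MulEquiv.ext
  intro x
  obtain ⟨B, rfl⟩ := QuotientGroup.mk_surjective x
  rw [Psi_mk, MulAut.conj_apply, ← QuotientGroup.mk_inv, ← QuotientGroup.mk_mul, ← QuotientGroup.mk_mul]
  congr 1
  apply rho_injective
  rw [rho_conjHom, map_mul, map_mul, map_inv]

theorem map_NS : (NS m F).map (Psi m F) = (MulAut.conj : PSp m F →* MulAut (PSp m F)).range := by
  apply le_antisymm
  · rintro _ ⟨⟨_, h⟩, ⟨A, rfl⟩, rfl⟩
    exact ⟨_, (Psi_rho A h).symm⟩
  · rintro _ ⟨x, rfl⟩
    obtain ⟨A, rfl⟩ := QuotientGroup.mk_surjective x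
    exact ⟨⟨rho m F A, range_le ⟨A, rfl⟩⟩, ⟨A, rfl⟩, Psi_rho A _⟩

theorem exists_t {n : ℕ} {z μ : Fˣ} (hz : z ≠ 1) (h : z ≠ μ ∨ 1 ≤ n ∨ z ^ 2 ≠ 1) :
    ∃ t : Fin (n + 2) → Fˣ, t 0 = z * t 1 ∧ t 0 * t (Fin.last (n + 1)) ≠ μ := by
  have h10 : (1 : Fin (n + 2)) ≠ 0 := by simp
  have hl0 : Fin.last (n + 1) ≠ 0 := Fin.last_pos.ne'
  by_cases h1 : z = μ
  · by_cases hn : n = 0
    · subst hn
      have hz2 : z ^ 2 ≠ 1 := by
        rcases h with h | h | h
        · exact absurd h1 h
        · omega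
        · exact h
      refine ⟨fun i => if i = 0 then z * z else z, ?_, ?_⟩
      · beta_reduce
        rw [if_pos rfl, if_neg h10]
      · beta_reduce
        rw [if_pos rfl, if_neg hl0, ← h1]
        intro e
        apply hz2
        rw [pow_two]
        exact mul_eq_right.1 e
    · refine ⟨fun i => if i = 0 then z else if i = 1 then 1 else z, ?_, ?_⟩
      · beta_reduce
        rw [if_pos rfl, if_neg h10, if_pos rfl, mul_one]
      · have hl1 : Fin.last (n + 1) ≠ 1 := by
          intro e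
          have := congrArg Fin.val e
          simp at this
          omega
        beta_reduce
        rw [if_pos rfl, if_neg hl0, if_neg hl1, ← h1]
        intro e
        exact hz (mul_eq_right.1 e)
  · refine ⟨fun i => if i = 0 then z else 1, ?_, ?_⟩
    · beta_reduce
      rw [if_pos rfl, if_neg h10, mul_one]
    · beta_reduce
      rw [if_pos rfl, if_neg hl0, mul_one]
      exact Ne.symm (Ne.symm h1)

/-- **the lift in the group of the semisimilitudes** -/
theorem lift_semiSim [Fintype F] (hm : 2 ≤ m) (hF : 3 ≤ Fintype.card F) (x y : semiSim m F) : Lift (NS m F) x y := by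
  classical
  obtain ⟨n, rfl⟩ : ∃ n, m = n + 2 := ⟨m - 2, by omega⟩
  obtain ⟨z, hz⟩ := IsCyclic.exists_generator (α := Fˣ)
  have ho : orderOf z = Fintype.card F - 1 := by
    rw [← Nat.card_zpowers, (Subgroup.eq_top_iff' _).2 hz, Subgroup.card_top, Nat.card_eq_fintype_card,
      Fintype.card_units]
  have hz1 : z ≠ 1 := by
    intro e
    rw [← orderOf_eq_one_iff] at e
    omega
  have hcy := isCyclic_ringAut F
  have hfin : Finite (F ≃+* F) := Finite.of_injective (fun f : F ≃+* F => (f : F → F)) DFunLike.coe_injective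
  by_cases h2 : (2 : F) = 0
  · refine lift_of_ker NS_normal (fieldPart F (by omega)) (fun x y hx => ?_) x y
    obtain ⟨μ, hμ⟩ := fieldPart_spec (by omega) x
    obtain ⟨μ', hμ'⟩ := fieldPart_spec (by omega) y
    rw [hx] at hμ
    exact lift_sub (lift_even hz hz1 h2 hμ hμ')
  · by_cases h5 : 1 ≤ n ∨ z ^ 2 ≠ 1
    · refine lift_of_ker NS_normal (fieldPart F (by omega)) (fun x y hx => ?_) x y
      obtain ⟨μ, hμ⟩ := fieldPart_spec (by omega) x
      obtain ⟨μ', hμ'⟩ := fieldPart_spec (by omega) y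
      rw [hx] at hμ
      obtain ⟨t, h0, h1⟩ := exists_t (n := n) (μ := μ) hz1 (Or.inr h5)
      exact lift_sub (lift_odd hz hz1 h0 h1 h2 hμ hμ')
    · -- `q = 3`
      have hz2 : z ^ 2 = 1 := by
        by_contra h
        exact h5 (Or.inr h)
      have h3 : Fintype.card F = 3 := by
        have := orderOf_le_of_pow_eq_one (by norm_num) hz2
        omega
      have hφ : ∀ φ : F ≃+* F, φ = RingEquiv.refl F := by
        intro φ
        have hS : ({0, 1, -1} : Finset F) = Finset.univ := by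
          rw [← Finset.card_eq_iff_eq_univ, h3]
          refine Finset.card_eq_three.2 ⟨0, 1, -1, zero_ne_one, ?_, ?_, rfl⟩
          · intro e
            exact one_ne_zero (neg_eq_zero.1 e.symm)
          · intro e
            apply h2
            rw [← one_add_one_eq_two]
            nth_rewrite 2 [e]
            exact add_neg_cancel 1
        ext a
        have ha : a ∈ ({0, 1, -1} : Finset F) := by rw [hS]; exact Finset.mem_univ a
        simp only [Finset.mem_insert, Finset.mem_singleton] at ha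
        rcases ha with rfl | rfl | rfl
        · simp
        · simp
        · simp only [_root_.RingEquiv.map_neg_one]
      have key : ∀ x y : semiSim (n + 2) F, IsSemi x.1 (RingEquiv.refl F) 1 → Lift (NS (n + 2) F) x y := by
        intro x y hx
        obtain ⟨μ', hμ'⟩ := fieldPart_spec (by omega) y
        obtain ⟨t, h0, h1⟩ := exists_t (n := n) (μ := 1) hz1 (Or.inl hz1)
        refine lift_sub (lift_odd hz hz1 h0 h1 h2 (by rw [Units.val_one]; exact hx) hμ')
      have hmu : ∀ μ : Fˣ, μ = 1 ∨ μ = z := by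
        intro μ
        have h4 := mem_powers_iff_mem_zpowers.2 (hz μ)
        obtain ⟨k, hk⟩ := h4
        rcases Nat.even_or_odd' k with ⟨l, hl | hl⟩
        · left
          rw [← hk]
          show z ^ k = 1
          rw [hl, pow_mul, hz2, one_pow]
        · right
          rw [← hk]
          show z ^ k = z
          rw [hl, pow_succ, pow_mul, hz2, one_pow, one_mul]
      obtain ⟨μ, hμ⟩ := fieldPart_spec (by omega) x
      obtain ⟨μ', hμ'⟩ := fieldPart_spec (by omega) y
      rw [hφ (fieldPart _ _ _)] at hμ hμ'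
      rcases hmu μ with h8 | h8
      · rw [h8, Units.val_one] at hμ
        exact key x y hμ
      · rcases hmu μ' with h9 | h9
        · rw [h9, Units.val_one] at hμ'
          exact (key y x hμ').symm
        · have h4 : Lift (NS (n + 2) F) x (x⁻¹ * y) := by
            refine (key _ _ ?_).symm
            rw [h8] at hμ
            rw [h9] at hμ'
            have h6 := (hμ.inv z.ne_zero).mul hμ'
            have e2 : (RingEquiv.refl F).symm (z : F)⁻¹ * (RingEquiv.refl F).symm (z : F) = 1 :=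
              inv_mul_cancel₀ z.ne_zero
            rw [e2] at h6
            exact h6
          have h6 := Lift.mul_left NS_normal h4
          rwa [mul_inv_cancel_left] at h6

end Semi

section Cos

universe u v

theorem map_conj_range {T : Type u} {T' : Type v} [Group T] [Group T'] (e : T ≃* T') :
    (MulAut.conj : T →* MulAut T).range.map (MulAut.congr e).toMonoidHom = (MulAut.conj : T' →* MulAut T').range := by
  have key : ∀ t : T, (MulAut.congr e).toMonoidHom (MulAut.conj t) = MulAut.conj (e t) := by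
    intro t
    apply MulEquiv.ext
    intro x
    show e (MulAut.conj t (e.symm x)) = _
    rw [MulAut.conj_apply, MulAut.conj_apply, map_mul, map_mul, map_inv, MulEquiv.apply_symm_apply]
  apply le_antisymm
  · rintro _ ⟨_, ⟨t, rfl⟩, rfl⟩
    exact ⟨e t, (key t).symm⟩
  · rintro _ ⟨t, rfl⟩
    refine ⟨MulAut.conj (e.symm t), ⟨_, rfl⟩, ?_⟩
    rw [key, MulEquiv.apply_symm_apply]

/-- `Cos2` is invariant under isomorphisms. -/
theorem cos2_congr {T : Type u} {T' : Type v} [Group T] [Group T'] (e : T ≃* T') (h : Cos2 T') : Cos2 T := by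
  intro x y
  apply lift_of_map (MulAut.congr e).toMonoidHom (MulAut.congr e).injective
  rw [map_conj_range]
  exact h _ _

variable {F : Type u} [Field F] {m : ℕ}

theorem exists_Psi [Finite F] (hm : 2 ≤ m) (h : 3 ≤ m ∨ (2 : F) ≠ 0) (α : MulAut (PSp m F)) :
    ∃ g : semiSim m F, Psi m F g = α :=
  _root_.Cfsg.Agent.ClassicalGeometry.SympAutExists.exists_semi hm α (Cfsg.Agent.ClassicalGeometry.SympAutOddA.recog hm h α)

theorem lift_Psi [Fintype F] (hm : 2 ≤ m) (hF : 3 ≤ Fintype.card F) (x y : semiSim m F) :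
    Lift (MulAut.conj : PSp m F →* MulAut (PSp m F)).range (Psi m F x) (Psi m F y) := by
  have h := lift_map (Psi m F) (lift_semiSim hm hF x y)
  rwa [map_NS] at h

/-- `q = 2` -/
theorem inner_of_two [Fintype F] (hm : 1 ≤ m) (hF : Fintype.card F = 2) (g : semiSim m F) :
    Psi m F g ∈ (MulAut.conj : PSp m F →* MulAut (PSp m F)).range := by
  classical
  obtain ⟨μ, hμ⟩ := fieldPart_spec hm g
  have hS : ({0, 1} : Finset F) = Finset.univ := by
    rw [← Finset.card_eq_iff_eq_univ, hF]
    exact Finset.card_pair zero_ne_one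
  have hel : ∀ a : F, a = 0 ∨ a = 1 := by
    intro a
    have ha : a ∈ ({0, 1} : Finset F) := by rw [hS]; exact Finset.mem_univ a
    simpa using ha
  have h1 : fieldPart F hm g = RingEquiv.refl F := by
    ext a
    rcases hel a with rfl | rfl
    · simp
    · simp
  have h2 : (μ : F) = 1 := (hel μ).resolve_left μ.ne_zero
  rw [h1, h2] at hμ
  rw [← map_NS]
  exact ⟨g, Subgroup.mem_subgroupOf.2 (mem_range hμ), rfl⟩

/-- **`Cos2` for `PSp_2m(q)`, unless `m = 2` and `q` is even** -/
theorem cos2_psp [Fintype F] (hm : 2 ≤ m) (h : 3 ≤ m ∨ (2 : F) ≠ 0) : Cos2 (PSp m F) := by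
  intro x y
  obtain ⟨g, rfl⟩ := exists_Psi hm h x
  obtain ⟨k, rfl⟩ := exists_Psi hm h y
  by_cases hF : 3 ≤ Fintype.card F
  · exact lift_Psi hm hF g k
  · have h1 : 1 < Fintype.card F := Fintype.one_lt_card
    have hF2 : Fintype.card F = 2 := by omega
    have hm3 : 3 ≤ m := by
      rcases h with h | h
      · exact h
      · exfalso
        apply h
        have := FiniteField.cast_card_eq_zero F
        rw [hF2] at this
        exact_mod_cast this
    have h2 := Cfsg.Agent.S2411.result (F := F) m hm (fun h => by omega)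
    refine Lift.congr (x := 1) (y := 1) ?_ ?_ (lift_one h2)
    · rw [mul_one]
      exact inv_mem (inner_of_two (by omega) hF2 g)
    · rw [mul_one]
      exact inv_mem (inner_of_two (by omega) hF2 k)

/-- **C5 and C6 of S4180**: the row `psp` for `Cos2`, unless `m = 2` and `q` is even -/
theorem psp_row (T : Type u) [Group T] (F : Type) [Field F] [Fintype F] (m : ℕ) (hm : 2 ≤ m)
    (h : 3 ≤ m ∨ (2 : F) ≠ 0) (e : Nonempty (T ≃* Cfsg.PSp m F)) : Cos2 T := by
  obtain ⟨e⟩ := e
  exact cos2_congr e (cos2_psp hm h)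

end Cos

end Cfsg.Agent.H97.DG
end

-- part: H827/DG/MinusA
section
/-!
# `Cos2` for `PΩ⁻_2m(q)`, part A: torus, Weyl element and root elements (helper827)

`V = ⟨e_i, f_i⟩ ⊥ K`, `K = F[ω]` with its norm form.
-/

set_option autoImplicit false

namespace Cfsg.Agent.H827.DG.Minus

open QuadraticMap Cfsg.Agent.LieClassical.OrthCore Cfsg.Agent.LieClassical.OrthTrans
  Cfsg.Agent.LieClassical.OrthSimple Cfsg.Agent.ClassicalGeometry.OrthSemi
  Cfsg.Agent.ClassicalGeometry.OrthAutBasic
  Cfsg.Agent.ClassicalGeometry.OrthSemiForms Cfsg.Agent.LieClassical.OrthForms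
  Cfsg.Agent.H989.OutOrth.Basic Cfsg.Agent.H179.OutMinus Cfsg.Agent.H887.SiegelMethod

/-! ### Siegel elements as elements of `Gam Q` -/

section General

variable {F V : Type*} [Field F] [AddCommGroup V] [Module F V] {Q : QuadraticForm F V}

/-- the Siegel element in `Gam Q` -/
noncomputable def S (Q : QuadraticForm F V) (u w : V) : Gam Q := ofO Q ⟨T Q u w, T_mem_O u w⟩

theorem S_apply {u w : V} (v : V) : (S Q u w).1 v = T Q u w v := rfl

theorem S_mul {u w w' : V} (hu : Q u = 0) (hw : polar Q u w = 0) (hw' : polar Q u w' = 0) :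
    S Q u w * S Q u w' = S Q u (w + w') := by
  rw [S, S, ← map_mul, S]
  congr 1
  exact Subtype.ext (T_mul hu hw hw')

theorem S_zero (u : V) : S Q u 0 = 1 := by
  rw [S, ← map_one (ofO Q)]
  congr 1
  exact Subtype.ext (T_zero_right u)

/-- conjugation of a Siegel element by a semisimilitude -/
theorem conj_S {M : Gam Q} {σ : F ≃+* F} {c : F} (hM : IsSS Q σ c M.1) {u w : V} (hu : Q u = 0)
    (hw : polar Q u w = 0) : M * S Q u w * M⁻¹ = S Q (M.1 u) (c⁻¹ • M.1 w) := by
  obtain ⟨hu', hw', h⟩ := conjLin_siegel M hM hu hw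
  rw [mul_inv_eq_iff_eq_mul]
  apply Subtype.ext
  ext v : 1
  show M.1 (T Q u w v) = T Q (M.1 u) (c⁻¹ • M.1 w) (M.1 v)
  rw [T_eq hu hw, T_eq hu' hw', ← h, conjLin_apply']

end General

/-! ### Coordinates -/

variable {F : Type*} [Field F] {a b : F} {m : ℕ}

/-- the norm of a unit -/
def nu (l : (Kx F a b)ˣ) : Fˣ := Units.map (QuadraticAlgebra.norm : Kx F a b →* F) l

theorem coe_nu (l : (Kx F a b)ˣ) : ((nu l : Fˣ) : F) = QuadraticAlgebra.norm (l : Kx F a b) := rfl

theorem nu_mul (k l : (Kx F a b)ˣ) : nu (k * l) = nu k * nu l := map_mul _ _ _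

theorem nu_inv (l : (Kx F a b)ˣ) : nu l⁻¹ = (nu l)⁻¹ := map_inv _ _

theorem nu_one : nu (1 : (Kx F a b)ˣ) = 1 := map_one _

/-- the torus element `(x, y, k) ↦ (A x, N(l) A⁻¹ y, l k)` -/
def tor (A : Fin m → Fˣ) (l : (Kx F a b)ˣ) : Equiv.Perm (W a b m) where
  toFun t := (fun i => (A i : F) * t.1 i, fun i => ((nu l * (A i)⁻¹ : Fˣ) : F) * t.2.1 i,
    (l : Kx F a b) * t.2.2)
  invFun t := (fun i => ((A i)⁻¹ : Fˣ) * t.1 i, fun i => (((nu l * (A i)⁻¹)⁻¹ : Fˣ) : F) * t.2.1 i,
    ((l⁻¹ : (Kx F a b)ˣ) : Kx F a b) * t.2.2)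
  left_inv t := by
    refine Prod.ext (funext fun i => ?_) (Prod.ext (funext fun i => ?_) ?_)
    · exact Units.inv_mul_cancel_left _ _
    · exact Units.inv_mul_cancel_left _ _
    · exact Units.inv_mul_cancel_left _ _
  right_inv t := by
    refine Prod.ext (funext fun i => ?_) (Prod.ext (funext fun i => ?_) ?_)
    · exact Units.mul_inv_cancel_left _ _
    · exact Units.mul_inv_cancel_left _ _
    · exact Units.mul_inv_cancel_left _ _

theorem isSS_tor (A : Fin m → Fˣ) (l : (Kx F a b)ˣ) :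
    IsSS (minusForm m F a b) (RingEquiv.refl F) (nu l : F) (perm a b m (tor A l)) := by
  refine isSS_perm (nu l).ne_zero _ ?_ ?_ ?_
  · intro s t
    refine Prod.ext (funext fun i => ?_) (Prod.ext (funext fun i => ?_) ?_)
    · exact mul_add _ _ _
    · exact mul_add _ _ _
    · exact mul_add _ _ _
  · intro x t
    refine Prod.ext (funext fun i => ?_) (Prod.ext (funext fun i => ?_) ?_)
    · exact mul_left_comm _ _ _
    · exact mul_left_comm _ _ _
    · exact mul_smul_comm _ _ _
  · intro t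
    show (∑ i : Fin m, ((A i : F) * t.1 i) * (((nu l * (A i)⁻¹ : Fˣ) : F) * t.2.1 i)) +
      QuadraticAlgebra.norm ((l : Kx F a b) * t.2.2) =
      (nu l : F) * ((∑ i : Fin m, t.1 i * t.2.1 i) + QuadraticAlgebra.norm t.2.2)
    rw [map_mul, mul_add, Finset.mul_sum, coe_nu]
    congr 1
    refine Finset.sum_congr rfl fun i _ => ?_
    rw [Units.val_mul, coe_nu]
    have := (A i).mul_inv
    linear_combination QuadraticAlgebra.norm (l : Kx F a b) * t.1 i * t.2.1 i * this

/-- the torus -/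
def TH (A : Fin m → Fˣ) (l : (Kx F a b)ˣ) : Gam (minusForm m F a b) :=
  ⟨perm a b m (tor A l), _, _, isSS_tor A l⟩

theorem isSS_TH (A : Fin m → Fˣ) (l : (Kx F a b)ˣ) :
    IsSS (minusForm m F a b) (RingEquiv.refl F) (nu l : F) (TH A l).1 := isSS_tor A l

theorem TH_apply (A : Fin m → Fˣ) (l : (Kx F a b)ˣ) (t : W a b m) :
    (TH A l).1 (coordE a b m t) = coordE a b m (tor A l t) := perm_apply _ _

theorem TH_mul (A A' : Fin m → Fˣ) (l l' : (Kx F a b)ˣ) : TH (A * A') (l * l') = TH A l * TH A' l' := by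
  apply ext_Gam
  intro t
  show _ = (TH A l).1 ((TH A' l').1 (coordE a b m t))
  rw [TH_apply, TH_apply, TH_apply]
  congr 1
  refine Prod.ext (funext fun i => ?_) (Prod.ext (funext fun i => ?_) ?_)
  · show (((A * A') i : Fˣ) : F) * t.1 i = (A i : F) * ((A' i : F) * t.1 i)
    rw [Pi.mul_apply, Units.val_mul, mul_assoc]
  · show ((nu (l * l') * ((A * A') i)⁻¹ : Fˣ) : F) * t.2.1 i =
      ((nu l * (A i)⁻¹ : Fˣ) : F) * (((nu l' * (A' i)⁻¹ : Fˣ) : F) * t.2.1 i)
    rw [Pi.mul_apply, nu_mul, mul_inv, mul_mul_mul_comm, Units.val_mul, mul_assoc]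
  · show ((l * l' : (Kx F a b)ˣ) : Kx F a b) * t.2.2 = (l : Kx F a b) * ((l' : Kx F a b) * t.2.2)
    rw [Units.val_mul, mul_assoc]

theorem TH_one : TH (1 : Fin m → Fˣ) (1 : (Kx F a b)ˣ) = 1 := by
  have h := TH_mul (m := m) (1 : Fin m → Fˣ) 1 (1 : (Kx F a b)ˣ) 1
  rw [mul_one, mul_one] at h
  exact (mul_eq_left.1 h.symm)

theorem TH_comm (A A' : Fin m → Fˣ) (l l' : (Kx F a b)ˣ) : TH A l * TH A' l' = TH A' l' * TH A l := by
  rw [← TH_mul, ← TH_mul, mul_comm A, mul_comm l]

theorem TH_inv (A : Fin m → Fˣ) (l : (Kx F a b)ˣ) : (TH A l)⁻¹ = TH A⁻¹ l⁻¹ := by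
  rw [inv_eq_iff_mul_eq_one, ← TH_mul, mul_inv_cancel, mul_inv_cancel, TH_one]

/-- `e_i` -/
def ee (a b : F) (i : Fin m) : (Fin m ⊕ Fin m) ⊕ Fin 2 → F := coordE a b m (Pi.single i 1, 0, 0)

/-- `f_i` -/
def ff (a b : F) (i : Fin m) : (Fin m ⊕ Fin m) ⊕ Fin 2 → F := coordE a b m (0, Pi.single i 1, 0)

/-- `K → V` -/
def kk (m : ℕ) (z : Kx F a b) : (Fin m ⊕ Fin m) ⊕ Fin 2 → F := coordE a b m (0, 0, z)

theorem kk_add (y z : Kx F a b) : kk m (y + z) = kk m y + kk m z := by
  rw [kk, kk, kk, ← map_add]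
  congr 1
  refine Prod.ext (add_zero _).symm (Prod.ext (add_zero _).symm rfl)

theorem kk_zero : kk m (0 : Kx F a b) = 0 := map_zero (coordE a b m)

theorem kk_smul (c : F) (z : Kx F a b) : kk m (c • z) = c • kk m z := by
  rw [kk, kk, ← map_smul]
  congr 1
  refine Prod.ext (smul_zero _).symm (Prod.ext (smul_zero _).symm rfl)

/-- the polar form in coordinates -/
theorem polar_coord (s t : W a b m) :
    polar (minusForm m F a b) (coordE a b m s) (coordE a b m t) =
      ∑ i : Fin m, (s.1 i * t.2.1 i + t.1 i * s.2.1 i) +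
        (2 * s.2.2.re * t.2.2.re + a * (s.2.2.re * t.2.2.im + s.2.2.im * t.2.2.re) +
          2 * b * s.2.2.im * t.2.2.im) := by
  rw [polar_minusForm]
  rfl

theorem Q_ee (i : Fin m) : minusForm m F a b (ee a b i) = 0 := by
  rw [ee, form_coordE, qW]
  simp only [_root_.Pi.zero_apply, _root_.MulZeroClass.mul_zero, _root_.Finset.sum_const_zero, _root_.QuadraticAlgebra.norm_zero, _root_.add_zero]

theorem Q_ff (i : Fin m) : minusForm m F a b (ff a b i) = 0 := by
  rw [ff, form_coordE, qW]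
  simp only [_root_.Pi.zero_apply, _root_.MulZeroClass.zero_mul, _root_.Finset.sum_const_zero, _root_.QuadraticAlgebra.norm_zero, _root_.add_zero]

theorem Q_kk (z : Kx F a b) : minusForm m F a b (kk m z) = QuadraticAlgebra.norm z := by
  rw [kk, form_coordE, qW]
  simp only [_root_.Pi.zero_apply, _root_.MulZeroClass.mul_zero, _root_.Finset.sum_const_zero, _root_.zero_add]

theorem polar_ee_kk (i : Fin m) (z : Kx F a b) : polar (minusForm m F a b) (ee a b i) (kk m z) = 0 := by
  rw [ee, kk, polar_coord]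
  simp only [_root_.Pi.zero_apply, _root_.MulZeroClass.mul_zero, _root_.add_zero, _root_.Finset.sum_const_zero, _root_.QuadraticAlgebra.re_zero, _root_.MulZeroClass.zero_mul, _root_.QuadraticAlgebra.im_zero]

theorem polar_ff_kk (i : Fin m) (z : Kx F a b) : polar (minusForm m F a b) (ff a b i) (kk m z) = 0 := by
  rw [ff, kk, polar_coord]
  simp only [_root_.Pi.zero_apply, _root_.MulZeroClass.mul_zero, _root_.MulZeroClass.zero_mul, _root_.add_zero, _root_.Finset.sum_const_zero, _root_.QuadraticAlgebra.re_zero, _root_.QuadraticAlgebra.im_zero]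

theorem polar_ee_ff (i j : Fin m) :
    polar (minusForm m F a b) (ee a b i) (ff a b j) = if i = j then 1 else 0 := by
  rw [ee, ff, polar_coord]
  by_cases h : i = j
  · subst h
    simp only [Pi.single_apply, _root_.mul_ite, _root_.mul_one, _root_.MulZeroClass.mul_zero, _root_.Pi.zero_apply, _root_.add_zero, _root_.Finset.sum_ite_eq', _root_.Finset.mem_univ, ↓ _root_.reduceIte, _root_.QuadraticAlgebra.re_zero, _root_.QuadraticAlgebra.im_zero]
  · simp only [Pi.single_apply, h, Ne.symm h, _root_.mul_ite, _root_.mul_one, _root_.MulZeroClass.mul_zero, _root_.Pi.zero_apply, _root_.add_zero, _root_.Finset.sum_ite_eq', _root_.Finset.mem_univ, ↓ _root_.reduceIte, _root_.QuadraticAlgebra.re_zero, _root_.QuadraticAlgebra.im_zero]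

theorem polar_ee_ee (i j : Fin m) : polar (minusForm m F a b) (ee a b i) (ee a b j) = 0 := by
  rw [ee, ee, polar_coord]
  simp only [_root_.Pi.zero_apply, _root_.MulZeroClass.mul_zero, _root_.add_zero, _root_.Finset.sum_const_zero, _root_.QuadraticAlgebra.re_zero, _root_.QuadraticAlgebra.im_zero]

theorem polar_ff_ff (i j : Fin m) : polar (minusForm m F a b) (ff a b i) (ff a b j) = 0 := by
  rw [ff, ff, polar_coord]
  simp only [_root_.Pi.zero_apply, _root_.MulZeroClass.zero_mul, _root_.add_zero, _root_.Finset.sum_const_zero, _root_.QuadraticAlgebra.re_zero, _root_.MulZeroClass.mul_zero, _root_.QuadraticAlgebra.im_zero]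

theorem TH_ee (A : Fin m → Fˣ) (l : (Kx F a b)ˣ) (i : Fin m) :
    (TH A l).1 (ee a b i) = (A i : F) • ee a b i := by
  rw [ee, TH_apply, ← map_smul]
  congr 1
  refine Prod.ext (funext fun j => ?_) (Prod.ext (funext fun j => ?_) ?_)
  · show (A j : F) * (Pi.single i 1 : Fin m → F) j = (A i : F) * (Pi.single i 1 : Fin m → F) j
    by_cases h : j = i
    · rw [h]
    · rw [Pi.single_eq_of_ne h, mul_zero, mul_zero]
  · show _ * (0 : F) = (A i : F) * 0
    rw [mul_zero, mul_zero]
  · show (l : Kx F a b) * 0 = (A i : F) • (0 : Kx F a b)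
    rw [mul_zero, smul_zero]

theorem TH_ff (A : Fin m → Fˣ) (l : (Kx F a b)ˣ) (i : Fin m) :
    (TH A l).1 (ff a b i) = ((nu l * (A i)⁻¹ : Fˣ) : F) • ff a b i := by
  rw [ff, TH_apply, ← map_smul]
  congr 1
  refine Prod.ext (funext fun j => ?_) (Prod.ext (funext fun j => ?_) ?_)
  · show _ * (0 : F) = _ * 0
    rw [mul_zero, mul_zero]
  · show ((nu l * (A j)⁻¹ : Fˣ) : F) * (Pi.single i 1 : Fin m → F) j =
      ((nu l * (A i)⁻¹ : Fˣ) : F) * (Pi.single i 1 : Fin m → F) j
    by_cases h : j = i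
    · rw [h]
    · rw [Pi.single_eq_of_ne h, mul_zero, mul_zero]
  · show (l : Kx F a b) * 0 = _ • (0 : Kx F a b)
    rw [mul_zero, smul_zero]

theorem TH_kk (A : Fin m → Fˣ) (l : (Kx F a b)ˣ) (z : Kx F a b) :
    (TH A l).1 (kk m z) = kk m ((l : Kx F a b) * z) := by
  rw [kk, TH_apply, kk]
  congr 1
  refine Prod.ext (funext fun j => ?_) (Prod.ext (funext fun j => ?_) rfl)
  · exact mul_zero _
  · exact mul_zero _

/-! ### the Weyl element -/

section Weyl

variable [NeZero m]

/-- the Coxeter element: `e_i ↦ e_{i+1}`, `f_i ↦ f_{i+1}`, `e_{m-1} ↦ f_0`, `f_{m-1} ↦ e_0` -/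
def wP (a b : F) (m : ℕ) [NeZero m] : Equiv.Perm (W a b m) where
  toFun t := (fun i => if i = 0 then t.2.1 (i - 1) else t.1 (i - 1),
    fun i => if i = 0 then t.1 (i - 1) else t.2.1 (i - 1), t.2.2)
  invFun t := (fun i => if i + 1 = 0 then t.2.1 (i + 1) else t.1 (i + 1),
    fun i => if i + 1 = 0 then t.1 (i + 1) else t.2.1 (i + 1), t.2.2)
  left_inv t := by
    refine Prod.ext (funext fun i => ?_) (Prod.ext (funext fun i => ?_) rfl)
    · by_cases h : i + 1 = 0
      · have h2 : (-1 : Fin m) = i := (eq_neg_of_add_eq_zero_left h).symm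
        simp [h, h2]
      · simp [h, add_sub_cancel_right]
    · by_cases h : i + 1 = 0
      · have h2 : (-1 : Fin m) = i := (eq_neg_of_add_eq_zero_left h).symm
        simp [h, h2]
      · simp [h, add_sub_cancel_right]
  right_inv t := by
    refine Prod.ext (funext fun i => ?_) (Prod.ext (funext fun i => ?_) rfl)
    · by_cases h : i = 0 <;> simp [h]
    · by_cases h : i = 0 <;> simp [h]

theorem isSS_wP : IsSS (minusForm m F a b) (RingEquiv.refl F) 1 (perm a b m (wP a b m)) := by
  refine isSS_perm one_ne_zero _ ?_ ?_ ?_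
  · intro s t
    refine Prod.ext (funext fun i => ?_) (Prod.ext (funext fun i => ?_) rfl)
    · show (if i = 0 then (s.2.1 + t.2.1) (i - 1) else (s.1 + t.1) (i - 1)) =
        (if i = 0 then s.2.1 (i - 1) else s.1 (i - 1)) + (if i = 0 then t.2.1 (i - 1) else t.1 (i - 1))
      split_ifs <;> rfl
    · show (if i = 0 then (s.1 + t.1) (i - 1) else (s.2.1 + t.2.1) (i - 1)) =
        (if i = 0 then s.1 (i - 1) else s.2.1 (i - 1)) + (if i = 0 then t.1 (i - 1) else t.2.1 (i - 1))
      split_ifs <;> rfl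
  · intro x t
    refine Prod.ext (funext fun i => ?_) (Prod.ext (funext fun i => ?_) rfl)
    · show (if i = 0 then (x • t.2.1) (i - 1) else (x • t.1) (i - 1)) =
        x • (if i = 0 then t.2.1 (i - 1) else t.1 (i - 1))
      split_ifs <;> rfl
    · show (if i = 0 then (x • t.1) (i - 1) else (x • t.2.1) (i - 1)) =
        x • (if i = 0 then t.1 (i - 1) else t.2.1 (i - 1))
      split_ifs <;> rfl
  · intro t
    rw [one_mul]
    show (∑ i : Fin m, (if i = 0 then t.2.1 (i - 1) else t.1 (i - 1)) *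
      (if i = 0 then t.1 (i - 1) else t.2.1 (i - 1))) + QuadraticAlgebra.norm t.2.2 =
        (∑ i : Fin m, t.1 i * t.2.1 i) + QuadraticAlgebra.norm t.2.2
    congr 1
    rw [← Equiv.sum_comp (Equiv.subRight (1 : Fin m)) fun i => t.1 i * t.2.1 i]
    refine Finset.sum_congr rfl fun i _ => ?_
    simp only [Equiv.subRight_apply]
    split_ifs
    · exact mul_comm _ _
    · rfl

/-- the Coxeter element in `Gam Q` -/
def wC (a b : F) (m : ℕ) [NeZero m] : Gam (minusForm m F a b) := ⟨perm a b m (wP a b m), _, _, isSS_wP⟩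

theorem isSS_wC : IsSS (minusForm m F a b) (RingEquiv.refl F) 1 (wC a b m).1 := isSS_wP

theorem wC_apply (t : W a b m) : (wC a b m).1 (coordE a b m t) = coordE a b m (wP a b m t) := perm_apply _ _

theorem wC_kk (z : Kx F a b) : (wC a b m).1 (kk m z) = kk m z := by
  rw [kk, wC_apply]
  congr 1
  refine Prod.ext (funext fun j => ?_) (Prod.ext (funext fun j => ?_) rfl)
  · show (if j = 0 then (0 : F) else 0) = 0
    split_ifs <;> rfl
  · show (if j = 0 then (0 : F) else 0) = 0
    split_ifs <;> rfl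

theorem wC_ee {i : Fin m} (h : i + 1 ≠ 0) : (wC a b m).1 (ee a b i) = ee a b (i + 1) := by
  rw [ee, wC_apply, ee]
  congr 1
  refine Prod.ext (funext fun j => ?_) (Prod.ext (funext fun j => ?_) rfl)
  · show (if j = 0 then (0 : F) else (Pi.single i 1 : Fin m → F) (j - 1)) =
      (Pi.single (i + 1) 1 : Fin m → F) j
    split_ifs with h1
    · rw [h1, Pi.single_eq_of_ne (Ne.symm h)]
    · rw [Pi.single_apply, Pi.single_apply]
      exact if_congr sub_eq_iff_eq_add rfl rfl
  · show (if j = 0 then (Pi.single i 1 : Fin m → F) (j - 1) else 0) = 0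
    split_ifs with h1
    · rw [Pi.single_eq_of_ne]
      rintro h2
      exact h (by rw [← h2, h1, sub_add_cancel])
    · rfl

theorem wC_ff {i : Fin m} (h : i + 1 ≠ 0) : (wC a b m).1 (ff a b i) = ff a b (i + 1) := by
  rw [ff, wC_apply, ff]
  congr 1
  refine Prod.ext (funext fun j => ?_) (Prod.ext (funext fun j => ?_) rfl)
  · show (if j = 0 then (Pi.single i 1 : Fin m → F) (j - 1) else 0) = 0
    split_ifs with h1
    · rw [Pi.single_eq_of_ne]
      rintro h2
      exact h (by rw [← h2, h1, sub_add_cancel])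
    · rfl
  · show (if j = 0 then (0 : F) else (Pi.single i 1 : Fin m → F) (j - 1)) =
      (Pi.single (i + 1) 1 : Fin m → F) j
    split_ifs with h1
    · rw [h1, Pi.single_eq_of_ne (Ne.symm h)]
    · rw [Pi.single_apply, Pi.single_apply]
      exact if_congr sub_eq_iff_eq_add rfl rfl

theorem wC_ee_last {i : Fin m} (h : i + 1 = 0) : (wC a b m).1 (ee a b i) = ff a b 0 := by
  rw [ee, wC_apply, ff]
  congr 1
  refine Prod.ext (funext fun j => ?_) (Prod.ext (funext fun j => ?_) rfl)
  · show (if j = 0 then (0 : F) else (Pi.single i 1 : Fin m → F) (j - 1)) = 0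
    split_ifs with h1
    · rfl
    · rw [Pi.single_eq_of_ne]
      rintro h2
      exact h1 (by rw [← h, ← h2, sub_add_cancel])
  · show (if j = 0 then (Pi.single i 1 : Fin m → F) (j - 1) else 0) = (Pi.single 0 1 : Fin m → F) j
    split_ifs with h1
    · rw [h1, Pi.single_eq_same]
      have h2 : (0 : Fin m) - 1 = i := by rw [← h, add_sub_cancel_right]
      rw [h2, Pi.single_eq_same]
    · rw [Pi.single_eq_of_ne h1]

/-- the torus is normalised by the Coxeter element -/
theorem wC_TH (A : Fin m → Fˣ) (l : (Kx F a b)ˣ) :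
    wC a b m * TH A l = TH (fun i => if i = 0 then nu l * (A (i - 1))⁻¹ else A (i - 1)) l * wC a b m := by
  apply ext_Gam
  intro t
  show (wC a b m).1 ((TH A l).1 (coordE a b m t)) = (TH _ l).1 ((wC a b m).1 (coordE a b m t))
  rw [TH_apply, wC_apply, wC_apply, TH_apply]
  congr 1
  refine Prod.ext (funext fun i => ?_) (Prod.ext (funext fun i => ?_) rfl)
  · show (if i = 0 then ((nu l * (A (i - 1))⁻¹ : Fˣ) : F) * t.2.1 (i - 1) else (A (i - 1) : F) * t.1 (i - 1)) =
      (((if i = 0 then nu l * (A (i - 1))⁻¹ else A (i - 1)) : Fˣ) : F) *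
        (if i = 0 then t.2.1 (i - 1) else t.1 (i - 1))
    split_ifs <;> rfl
  · show (if i = 0 then (A (i - 1) : F) * t.1 (i - 1) else ((nu l * (A (i - 1))⁻¹ : Fˣ) : F) * t.2.1 (i - 1)) =
      ((nu l * (if i = 0 then nu l * (A (i - 1))⁻¹ else A (i - 1))⁻¹ : Fˣ) : F) *
        (if i = 0 then t.1 (i - 1) else t.2.1 (i - 1))
    split_ifs
    · rw [mul_inv, inv_inv, mul_inv_cancel_left]
    · rfl

end Weyl

/-! ### field automorphisms -/

theorem Ph_apply {φ : RingAut F} {ψ : RingAut (Kx F a b)} (h1 : ∀ (x : F) z, ψ (x • z) = φ x • ψ z)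
    (h2 : ∀ z, QuadraticAlgebra.norm (ψ z) = φ (QuadraticAlgebra.norm z)) (t : W a b m) :
    (Ph m h1 h2).1 (coordE a b m t) = coordE a b m (TΦ φ ψ t) := perm_apply _ _

theorem Ph_ee {φ : RingAut F} {ψ : RingAut (Kx F a b)} (h1 : ∀ (x : F) z, ψ (x • z) = φ x • ψ z)
    (h2 : ∀ z, QuadraticAlgebra.norm (ψ z) = φ (QuadraticAlgebra.norm z)) (i : Fin m) :
    (Ph m h1 h2).1 (ee a b i) = ee a b i := by
  rw [ee, Ph_apply]
  congr 1
  refine Prod.ext (funext fun j => ?_) (Prod.ext (funext fun j => map_zero φ) (map_zero ψ))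
  show φ ((Pi.single i 1 : Fin m → F) j) = (Pi.single i 1 : Fin m → F) j
  rw [Pi.single_apply]
  split_ifs
  · exact map_one φ
  · exact map_zero φ

theorem Ph_ff {φ : RingAut F} {ψ : RingAut (Kx F a b)} (h1 : ∀ (x : F) z, ψ (x • z) = φ x • ψ z)
    (h2 : ∀ z, QuadraticAlgebra.norm (ψ z) = φ (QuadraticAlgebra.norm z)) (i : Fin m) :
    (Ph m h1 h2).1 (ff a b i) = ff a b i := by
  rw [ff, Ph_apply]
  congr 1
  refine Prod.ext (funext fun j => map_zero φ) (Prod.ext (funext fun j => ?_) (map_zero ψ))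
  show φ ((Pi.single i 1 : Fin m → F) j) = (Pi.single i 1 : Fin m → F) j
  rw [Pi.single_apply]
  split_ifs
  · exact map_one φ
  · exact map_zero φ

theorem Ph_kk {φ : RingAut F} {ψ : RingAut (Kx F a b)} (h1 : ∀ (x : F) z, ψ (x • z) = φ x • ψ z)
    (h2 : ∀ z, QuadraticAlgebra.norm (ψ z) = φ (QuadraticAlgebra.norm z)) (z : Kx F a b) :
    (Ph m h1 h2).1 (kk m z) = kk m (ψ z) := by
  rw [kk, Ph_apply, kk]
  congr 1
  exact Prod.ext (funext fun j => map_zero φ) (Prod.ext (funext fun j => map_zero φ) rfl)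

/-- the torus is normalised by the field automorphisms -/
theorem Ph_TH {φ : RingAut F} {ψ : RingAut (Kx F a b)} (h1 : ∀ (x : F) z, ψ (x • z) = φ x • ψ z)
    (h2 : ∀ z, QuadraticAlgebra.norm (ψ z) = φ (QuadraticAlgebra.norm z)) (A : Fin m → Fˣ) (l : (Kx F a b)ˣ) :
    Ph m h1 h2 * TH A l =
      TH (fun i => Units.map (φ : F →* F) (A i)) (Units.map (ψ : Kx F a b →* Kx F a b) l) * Ph m h1 h2 := by
  apply ext_Gam
  intro t
  show (Ph m h1 h2).1 ((TH A l).1 (coordE a b m t)) = (TH _ _).1 ((Ph m h1 h2).1 (coordE a b m t))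
  rw [TH_apply, Ph_apply, Ph_apply, TH_apply]
  congr 1
  refine Prod.ext (funext fun i => ?_) (Prod.ext (funext fun i => ?_) ?_)
  · exact map_mul φ _ _
  · show φ (((nu l * (A i)⁻¹ : Fˣ) : F) * t.2.1 i) =
      ((nu (Units.map (ψ : Kx F a b →* Kx F a b) l) * (Units.map (φ : F →* F) (A i))⁻¹ : Fˣ) : F) * φ (t.2.1 i)
    rw [map_mul]
    congr 1
    have h3 : nu (Units.map (ψ : Kx F a b →* Kx F a b) l) = Units.map (φ : F →* F) (nu l) :=
      Units.ext (h2 _)
    rw [h3, ← map_inv, ← map_mul]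
    rfl
  · exact map_mul ψ _ _

end Cfsg.Agent.H827.DG.Minus
end

-- part: H827/DG/MinusB
section
/-!
# `Cos2` for `PΩ⁻_2m(q)`, part B: generation (helper827)

`h` a torus element, `n` a Coxeter element times a torus element times a field automorphism,
`u` in the root group of `e_0`: `⟨h, u n⟩` contains `E Q`.
-/

set_option autoImplicit false

namespace Cfsg.Agent.H827.DG.Minus

open QuadraticMap Cfsg.Agent.LieClassical.OrthCore Cfsg.Agent.LieClassical.OrthTrans
  Cfsg.Agent.LieClassical.OrthSimple Cfsg.Agent.ClassicalGeometry.OrthSemi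
  Cfsg.Agent.ClassicalGeometry.OrthAutBasic
  Cfsg.Agent.ClassicalGeometry.OrthSemiForms Cfsg.Agent.LieClassical.OrthForms
  Cfsg.Agent.H989.OutOrth.Basic Cfsg.Agent.H179.OutMinus Cfsg.Agent.H887.SiegelMethod

variable {F : Type*} [Field F] {a b : F} {m : ℕ}

/-! ### the root group of `e_i` -/

/-- `z ↦ T(u, z)` -/
noncomputable def xh (u : (Fin m ⊕ Fin m) ⊕ Fin 2 → F) (hu : minusForm m F a b u = 0)
    (hk : ∀ z : Kx F a b, polar (minusForm m F a b) u (kk m z) = 0) :
    Multiplicative (Kx F a b) →* Gam (minusForm m F a b) where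
  toFun z := S _ u (kk m z.toAdd)
  map_one' := by
    show S _ u (kk m 0) = 1
    rw [kk_zero, S_zero]
  map_mul' y z := by
    show S _ u (kk m (y.toAdd + z.toAdd)) = _
    rw [kk_add, S_mul hu (hk _) (hk _)]

theorem S_smul_left {u : (Fin m ⊕ Fin m) ⊕ Fin 2 → F} (hu : minusForm m F a b u = 0) (c : F)
    {z : Kx F a b} (hk : polar (minusForm m F a b) u (kk m z) = 0) :
    S (minusForm m F a b) (c • u) (kk m z) = S _ u (kk m (c • z)) := by
  rw [kk_smul]
  unfold S
  congr 1
  exact Subtype.ext (T_smul_left c hu hk)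

/-- the torus acts on the root group of `e_i` -/
theorem TH_S (A : Fin m → Fˣ) (l : (Kx F a b)ˣ) (i : Fin m) (z : Kx F a b) :
    TH A l * S _ (ee a b i) (kk m z) * (TH A l)⁻¹ =
      S _ (ee a b i) (kk m (((A i : F) * (nu l : F)⁻¹) • ((l : Kx F a b) * z))) := by
  rw [conj_S (isSS_TH A l) (Q_ee i) (polar_ee_kk i z), TH_ee, TH_kk, ← kk_smul,
    S_smul_left (Q_ee i) _ (polar_ee_kk i _), mul_smul]

/-- the coordinate in `K` -/
def pK (a b : F) (m : ℕ) : ((Fin m ⊕ Fin m) ⊕ Fin 2 → F) →ₗ[F] Kx F a b :=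
  (LinearMap.snd F (Fin m → F) (Kx F a b) ∘ₗ LinearMap.snd F (Fin m → F) ((Fin m → F) × Kx F a b)) ∘ₗ
    (coordE a b m).symm.toLinearMap

theorem S_inj {i : Fin m} {y z : Kx F a b}
    (h : S (minusForm m F a b) (ee a b i) (kk m y) = S _ (ee a b i) (kk m z)) : y = z := by
  have key : ∀ z : Kx F a b, pK a b m ((S (minusForm m F a b) (ee a b i) (kk m z)).1 (ff a b i)) = z := by
    intro z
    rw [S_apply, T_apply (Q_ee i) (polar_ee_kk i z), map_sub, map_sub, map_add, map_smul, map_smul, map_smul,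
      polar_ee_ff, if_pos rfl]
    have e1 : pK a b m (ff a b i) = 0 := rfl
    have e2 : pK a b m (ee a b i) = 0 := rfl
    have e3 : pK a b m (kk m z) = z := rfl
    rw [e1, e2, e3]
    simp
  rw [← key y, ← key z, h]

/-! ### the closure of the root groups -/

section Closure

variable {M : Subgroup (Gam (minusForm m F a b))}

/-- the isometries in `M` -/
def isoM (M : Subgroup (Gam (minusForm m F a b))) :
    Subgroup (((Fin m ⊕ Fin m) ⊕ Fin 2 → F) ≃ₗ[F] ((Fin m ⊕ Fin m) ⊕ Fin 2 → F)) :=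
  (M.comap (ofO (minusForm m F a b))).map (O (minusForm m F a b)).subtype

theorem mem_isoM {g : ((Fin m ⊕ Fin m) ⊕ Fin 2 → F) ≃ₗ[F] ((Fin m ⊕ Fin m) ⊕ Fin 2 → F)}
    (hg : g ∈ O (minusForm m F a b)) : g ∈ isoM M ↔ ofO _ ⟨g, hg⟩ ∈ M := by
  constructor
  · rintro ⟨g', hg', rfl⟩
    exact hg'
  · intro h
    exact ⟨⟨g, hg⟩, h, rfl⟩

theorem T_mem_isoM {u w : (Fin m ⊕ Fin m) ⊕ Fin 2 → F} :
    T (minusForm m F a b) u w ∈ isoM M ↔ S _ u w ∈ M := mem_isoM (T_mem_O u w)

/-- The full root group of `u` is in `M`. -/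
def Full (M : Subgroup (Gam (minusForm m F a b))) (u : (Fin m ⊕ Fin m) ⊕ Fin 2 → F) : Prop :=
  ∀ z : Kx F a b, S _ u (kk m z) ∈ M

theorem Full.of_smul {u : (Fin m ⊕ Fin m) ⊕ Fin 2 → F} (hu : minusForm m F a b u = 0)
    (hk : ∀ z : Kx F a b, polar (minusForm m F a b) u (kk m z) = 0) {c : F} (hc : c ≠ 0)
    (h : Full M (c • u)) : Full M u := by
  intro z
  have h1 := h (c⁻¹ • z)
  rwa [S_smul_left hu c (hk _), smul_smul, mul_inv_cancel₀ hc, one_smul] at h1

theorem Full.map {u : (Fin m ⊕ Fin m) ⊕ Fin 2 → F} (hu : minusForm m F a b u = 0)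
    (hk : ∀ z : Kx F a b, polar (minusForm m F a b) u (kk m z) = 0) {n : Gam (minusForm m F a b)} (hn : n ∈ M)
    (hs : ∀ z : Kx F a b, ∃ y : Kx F a b, n.1 (kk m y) = kk m z) (h : Full M u) : Full M (n.1 u) := by
  intro z
  obtain ⟨σ, c, hσ⟩ := n.2
  obtain ⟨y, hy⟩ := hs (c • z)
  have h1 := M.mul_mem (M.mul_mem hn (h y)) (M.inv_mem hn)
  rwa [conj_S hσ hu (hk _), hy, kk_smul, smul_smul, inv_mul_cancel₀ hσ.ne, one_smul] at h1

/-- `⟨k, _⟩ + 1 = ⟨k + 1, _⟩` -/
theorem fin_succ [NeZero m] {k : ℕ} (hk : k + 1 < m) :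
    (⟨k, (Nat.lt_succ_self k).trans hk⟩ : Fin m) + 1 = ⟨k + 1, hk⟩ := by
  apply Fin.ext
  rw [Fin.val_add, Fin.val_one', Nat.add_mod_mod]
  exact Nat.mod_eq_of_lt hk

/-- The Coxeter element moves the root group of `e_0` to all the others. -/
theorem full_all [NeZero m] (n : Gam (minusForm m F a b)) (hn : n ∈ M)
    (hs : ∀ z : Kx F a b, ∃ y : Kx F a b, n.1 (kk m y) = kk m z)
    (h1 : ∀ i : Fin m, i + 1 ≠ 0 → ∃ c : F, c ≠ 0 ∧ n.1 (ee a b i) = c • ee a b (i + 1))
    (h2 : ∀ i : Fin m, i + 1 ≠ 0 → ∃ c : F, c ≠ 0 ∧ n.1 (ff a b i) = c • ff a b (i + 1))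
    (h3 : ∀ i : Fin m, i + 1 = 0 → ∃ c : F, c ≠ 0 ∧ n.1 (ee a b i) = c • ff a b 0)
    (h0 : Full M (ee a b 0)) : (∀ i, Full M (ee a b i)) ∧ ∀ i, Full M (ff a b i) := by
  have key : ∀ (v : Fin m → ((Fin m ⊕ Fin m) ⊕ Fin 2 → F)) (_ : ∀ i, minusForm m F a b (v i) = 0)
      (_ : ∀ i (z : Kx F a b), polar (minusForm m F a b) (v i) (kk m z) = 0)
      (_ : ∀ i : Fin m, i + 1 ≠ 0 → ∃ c : F, c ≠ 0 ∧ n.1 (v i) = c • v (i + 1)) (_ : Full M (v 0)),
      ∀ i, Full M (v i) := by
    intro v hv hvk hst hv0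
    have : ∀ (k : ℕ) (hk : k < m), Full M (v ⟨k, hk⟩) := by
      intro k
      induction k with
      | zero => intro hk; exact hv0
      | succ k ih =>
        intro hk
        have e := fin_succ hk
        have hne : (⟨k, (Nat.lt_succ_self k).trans hk⟩ : Fin m) + 1 ≠ 0 := by
          rw [e]
          intro h
          exact absurd (congrArg Fin.val h) (by simp)
        obtain ⟨c, hc, h5⟩ := hst _ hne
        have h6 := Full.map (hv _) (hvk _) hn hs (ih ((Nat.lt_succ_self k).trans hk))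
        rw [h5, e] at h6
        exact Full.of_smul (hv _) (hvk _) hc h6
    intro i
    exact this i.1 i.2
  have hE := key (ee a b) Q_ee polar_ee_kk h1 h0
  refine ⟨hE, key (ff a b) Q_ff polar_ff_kk h2 ?_⟩
  obtain ⟨c, hc, h5⟩ := h3 (-1) (neg_add_cancel 1)
  have h6 := Full.map (Q_ee _) (polar_ee_kk _) hn hs (hE (-1))
  rw [h5] at h6
  exact Full.of_smul (Q_ff _) (polar_ff_kk _) hc h6

/-- the polar form on `K` takes all values -/
theorem exists_polar_kk (m : ℕ) [Finite F]
    (hab : ∀ z₁ z₂ : F, z₁ ^ 2 + a * z₁ * z₂ + b * z₂ ^ 2 = 0 → z₁ = 0 ∧ z₂ = 0) (c : F) :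
    ∃ y z : Kx F a b, polar (minusForm m F a b) (kk m y) (kk m z) = c := by
  have hp : ∀ y z : Kx F a b, polar (minusForm m F a b) (kk m y) (kk m z) =
      2 * y.re * z.re + a * (y.re * z.im + y.im * z.re) + 2 * b * y.im * z.im := by
    intro y z
    rw [kk, kk, polar_coord]
    simp only [_root_.Pi.zero_apply, _root_.MulZeroClass.mul_zero, _root_.add_zero, _root_.Finset.sum_const_zero, _root_.zero_add]
  have hne : ∃ y z : Kx F a b, polar (minusForm m F a b) (kk m y) (kk m z) ≠ 0 := by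
    by_contra h
    push Not at h
    have h1 := h ⟨1, 0⟩ ⟨1, 0⟩
    have h2 := h ⟨1, 0⟩ ⟨0, 1⟩
    rw [hp] at h1 h2
    simp only [mul_one, mul_zero, add_zero, zero_add] at h1 h2
    have h3 := binary_nondeg F a b hab (z := 1) (w := 0) (by rw [h1]; ring) (by rw [h2]; ring)
    exact one_ne_zero h3.1
  obtain ⟨y, z, h⟩ := hne
  refine ⟨y, (c * (polar (minusForm m F a b) (kk m y) (kk m z))⁻¹) • z, ?_⟩
  rw [kk_smul, polar_smul_right, smul_eq_mul, mul_assoc, inv_mul_cancel₀ h, mul_one]

/-- If `M` contains the root groups of all `e_i` and `f_i` then it contains `E Q`. -/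
theorem E_le_isoM [NeZero m] [Finite F]
    (hab : ∀ z₁ z₂ : F, z₁ ^ 2 + a * z₁ * z₂ + b * z₂ ^ 2 = 0 → z₁ = 0 ∧ z₂ = 0)
    (hG : Good (minusForm m F a b)) (hE : ∀ i : Fin m, Full M (ee a b i)) (hF : ∀ i : Fin m, Full M (ff a b i)) :
    E (minusForm m F a b) ≤ isoM M := by
  -- commutators
  have hcomm : ∀ u v : (Fin m ⊕ Fin m) ⊕ Fin 2 → F, minusForm m F a b u = 0 → minusForm m F a b v = 0 →
      polar (minusForm m F a b) u v = 0 → (∀ z : Kx F a b, polar (minusForm m F a b) u (kk m z) = 0) →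
      (∀ z : Kx F a b, polar (minusForm m F a b) v (kk m z) = 0) → Full M u → Full M v →
      u ∈ Ts (minusForm m F a b) (isoM M) v := by
    intro u v hu hv huv huk hvk hMu hMv
    refine ⟨by rw [polar_comm]; exact huv, fun c => ?_⟩
    obtain ⟨y, z, hyz⟩ := exists_polar_kk m hab c
    have h1 := Cfsg.Agent.H137.comm_T (H := isoM M) hu hv huv (huk y) (hvk y) (huk z) (hvk z)
      (T_mem_isoM.2 (hMu y)) (T_mem_isoM.2 (hMv z))
    rwa [hyz] at h1
  have hkk : ∀ u : (Fin m ⊕ Fin m) ⊕ Fin 2 → F,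
      (∀ z : Kx F a b, polar (minusForm m F a b) u (kk m z) = 0) → Full M u → ∀ z : Kx F a b,
      kk m z ∈ Ts (minusForm m F a b) (isoM M) u := by
    intro u huk hMu z
    refine ⟨huk z, fun c => ?_⟩
    rw [← kk_smul]
    exact T_mem_isoM.2 (hMu _)
  -- decomposition of a vector
  have hdec : ∀ t : W a b m, coordE a b m t =
      ∑ i, t.1 i • ee a b i + ∑ i, t.2.1 i • ff a b i + kk m t.2.2 := by
    intro t
    have e1 : ∑ i, t.1 i • ee a b i = coordE a b m (t.1, 0, 0) := by
      have : (t.1, (0 : Fin m → F), (0 : Kx F a b)) = ∑ i, t.1 i • (Pi.single i (1 : F), (0 : Fin m → F), (0 : Kx F a b)) := by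
        refine Prod.ext ?_ (Prod.ext ?_ ?_)
        · rw [Prod.fst_sum]
          funext j
          simp [Finset.sum_apply, Pi.single_apply]
        · rw [Prod.snd_sum, Prod.fst_sum]
          simp
        · rw [Prod.snd_sum, Prod.snd_sum]
          simp
      rw [this, map_sum]
      refine Finset.sum_congr rfl fun i _ => ?_
      rw [map_smul]
      rfl
    have e2 : ∑ i, t.2.1 i • ff a b i = coordE a b m (0, t.2.1, 0) := by
      have : ((0 : Fin m → F), t.2.1, (0 : Kx F a b)) = ∑ i, t.2.1 i • ((0 : Fin m → F), Pi.single i (1 : F), (0 : Kx F a b)) := by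
        refine Prod.ext ?_ (Prod.ext ?_ ?_)
        · rw [Prod.fst_sum]
          simp
        · rw [Prod.snd_sum, Prod.fst_sum]
          funext j
          simp [Finset.sum_apply, Pi.single_apply]
        · rw [Prod.snd_sum, Prod.snd_sum]
          simp
      rw [this, map_sum]
      refine Finset.sum_congr rfl fun i _ => ?_
      rw [map_smul]
      rfl
    rw [e1, e2, kk, ← map_add, ← map_add]
    congr 1
    refine Prod.ext ?_ (Prod.ext ?_ ?_)
    · show t.1 = t.1 + 0 + 0
      simp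
    · show t.2.1 = 0 + t.2.1 + 0
      simp
    · show t.2.2 = 0 + 0 + t.2.2
      simp
  refine E_le_of_Ts hG (Q_ee 0) (Q_ff 0) (by rw [polar_ee_ff, if_pos rfl]; exact one_ne_zero) ?_ ?_
  · intro x hx
    obtain ⟨t, rfl⟩ := (coordE a b m).surjective x
    have h0 : t.2.1 0 = 0 := by
      rw [ee, polar_coord] at hx
      simpa only [Pi.single_apply, _root_.ite_mul, _root_.one_mul, _root_.MulZeroClass.zero_mul, _root_.Pi.zero_apply, _root_.MulZeroClass.mul_zero, _root_.add_zero, _root_.Finset.sum_ite_eq', _root_.Finset.mem_univ, ↓ _root_.reduceIte, _root_.QuadraticAlgebra.re_zero, _root_.QuadraticAlgebra.im_zero] using hx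
    rw [hdec]
    refine Submodule.add_mem _ (Submodule.add_mem _ (Submodule.sum_mem _ fun i _ => Submodule.smul_mem _ _ ?_)
      (Submodule.sum_mem _ fun i _ => ?_)) (hkk _ (polar_ee_kk 0) (hE 0) _)
    · exact hcomm _ _ (Q_ee i) (Q_ee 0) (polar_ee_ee i 0) (polar_ee_kk i) (polar_ee_kk 0) (hE i) (hE 0)
    · by_cases hi : i = 0
      · rw [hi, h0, zero_smul]
        exact Submodule.zero_mem _
      · exact Submodule.smul_mem _ _ (hcomm _ _ (Q_ff i) (Q_ee 0)
          (by rw [polar_comm, polar_ee_ff, if_neg (Ne.symm hi)]) (polar_ff_kk i) (polar_ee_kk 0) (hF i) (hE 0))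
  · intro x hx
    obtain ⟨t, rfl⟩ := (coordE a b m).surjective x
    have h0 : t.1 0 = 0 := by
      rw [ff, polar_coord] at hx
      simpa only [Pi.single_apply, _root_.Pi.zero_apply, _root_.MulZeroClass.zero_mul, _root_.mul_ite, _root_.mul_one, _root_.MulZeroClass.mul_zero, _root_.zero_add, _root_.Finset.sum_ite_eq', _root_.Finset.mem_univ, ↓ _root_.reduceIte, _root_.QuadraticAlgebra.re_zero, _root_.QuadraticAlgebra.im_zero, _root_.add_zero] using hx
    rw [hdec]
    refine Submodule.add_mem _ (Submodule.add_mem _ (Submodule.sum_mem _ fun i _ => ?_)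
      (Submodule.sum_mem _ fun i _ => Submodule.smul_mem _ _ ?_)) (hkk _ (polar_ff_kk 0) (hF 0) _)
    · by_cases hi : i = 0
      · rw [hi, h0, zero_smul]
        exact Submodule.zero_mem _
      · exact Submodule.smul_mem _ _ (hcomm _ _ (Q_ee i) (Q_ff 0)
          (by rw [polar_ee_ff, if_neg hi]) (polar_ee_kk i) (polar_ff_kk 0) (hE i) (hF 0))
    · exact hcomm _ _ (Q_ff i) (Q_ff 0) (polar_ff_ff i 0) (polar_ff_kk i) (polar_ff_kk 0) (hF i) (hF 0)

end Closure

/-! ### the generation theorem -/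

/-- an additive subgroup invariant under `g` or `g²`, `g` a generator of `Kˣ` -/
theorem inv_sub {K : Type*} [Field K] [Finite K] {g : Kˣ} (hg : ∀ c : Kˣ, c ∈ Subgroup.zpowers g) {l : Kˣ}
    (hl : l = g ∨ l = g ^ 2) (Y : AddSubgroup K) (hY : ∀ y ∈ Y, (l : K) * y ∈ Y) : Y = ⊥ ∨ Y = ⊤ := by
  have hpow : ∀ (k : ℕ), ∀ y ∈ Y, (l : K) ^ k * y ∈ Y := by
    intro k
    induction k with
    | zero => intro y hy; rwa [pow_zero, one_mul]
    | succ k ih =>
      intro y hy
      rw [pow_succ, mul_assoc]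
      exact ih _ (hY y hy)
  by_cases h : ∃ y ∈ Y, y ≠ 0
  · obtain ⟨y, hy, hy0⟩ := h
    right
    rw [eq_top_iff]
    intro z _
    refine Cfsg.Agent.H137.mem_of_sq_mul Y ?_ hy hy0 z
    intro c hc y hy
    obtain ⟨n, hn⟩ := mem_powers_iff_mem_zpowers.2 (hg (Units.mk0 c hc))
    have hn' : (g : K) ^ n = c := by
      have := congrArg Units.val hn
      simpa using this
    rcases hl with h1 | h1
    · have := hpow (n * 2) y hy
      rwa [h1, pow_mul, hn'] at this
    · have := hpow n y hy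
      rwa [h1, Units.val_pow_eq_pow_val, ← pow_mul, mul_comm 2 n, pow_mul, hn'] at this
  · left
    push Not at h
    rw [eq_bot_iff]
    intro y hy
    exact h y hy

section Gen

variable [NeZero m]

theorem gen_core [Finite F] (hab : ∀ z₁ z₂ : F, z₁ ^ 2 + a * z₁ * z₂ + b * z₂ ^ 2 = 0 → z₁ = 0 ∧ z₂ = 0)
    (hG : Good (minusForm m F a b)) {A : Fin m → Fˣ} {l : (Kx F a b)ˣ}
    (hY : ∀ Y : AddSubgroup (Kx F a b),
      (∀ y ∈ Y, ((A 0 : F) * (nu l : F)⁻¹) • ((l : Kx F a b) * y) ∈ Y) → Y = ⊥ ∨ Y = ⊤)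
    (hl : ∀ c : F, (l : Kx F a b) ≠ c • (1 : Kx F a b)) {B : Fin m → Fˣ} {l₂ : (Kx F a b)ˣ} {φ : RingAut F}
    {ψ : RingAut (Kx F a b)} (h1 : ∀ (x : F) z, ψ (x • z) = φ x • ψ z)
    (h2 : ∀ z, QuadraticAlgebra.norm (ψ z) = φ (QuadraticAlgebra.norm z)) {M : Subgroup (Gam (minusForm m F a b))}
    (hM : TH A l ∈ M) (hn : S _ (ee a b 0) (kk m (1 : Kx F a b)) * (wC a b m * TH B l₂ * Ph m h1 h2) ∈ M) :
    E (minusForm m F a b) ≤ isoM M := by
  set n := wC a b m * TH B l₂ * Ph m h1 h2 with hndef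
  set l' : (Kx F a b)ˣ := Units.map (ψ : Kx F a b →* Kx F a b) l with hl'
  set A' : Fin m → Fˣ := fun i => Units.map (φ : F →* F) (A i) with hA'
  -- the conjugate of `h`
  have hh1 : n * TH A l * n⁻¹ = TH (fun i => if i = 0 then nu l' * (A' (i - 1))⁻¹ else A' (i - 1)) l' := by
    rw [mul_inv_eq_iff_eq_mul, hndef, mul_assoc, Ph_TH, ← mul_assoc, mul_assoc (wC a b m), TH_comm, ← mul_assoc,
      wC_TH, mul_assoc, mul_assoc, mul_assoc]
  have hXm : ∀ z : Kx F a b, S _ (ee a b 0) (kk m z) ∈ (xh (m := m) (ee a b 0) (Q_ee 0) (polar_ee_kk 0)).range :=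
    fun z => ⟨Multiplicative.ofAdd z, rfl⟩
  have hconj : ∀ (C : Fin m → Fˣ) (k : (Kx F a b)ˣ),
      ∀ x ∈ (xh (m := m) (ee a b 0) (Q_ee 0) (polar_ee_kk 0)).range,
        TH C k * x * (TH C k)⁻¹ ∈ (xh (m := m) (ee a b 0) (Q_ee 0) (polar_ee_kk 0)).range := by
    rintro C k _ ⟨z, rfl⟩
    have := TH_S C k 0 z.toAdd
    show TH C k * S _ (ee a b 0) (kk m z.toAdd) * (TH C k)⁻¹ ∈ _
    rw [this]
    exact hXm _
  have hne1 : ((A 0 : F) * (nu l : F)⁻¹) • ((l : Kx F a b) * 1) ≠ 1 := by
    intro h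
    rw [mul_one] at h
    have hc : (A 0 : F) * (nu l : F)⁻¹ ≠ 0 := mul_ne_zero (A 0).ne_zero (inv_ne_zero (nu l).ne_zero)
    apply hl (((A 0 : F) * (nu l : F)⁻¹)⁻¹)
    rw [← h, smul_smul, inv_mul_cancel₀ hc, one_smul]
  have key := Cfsg.Agent.H136.TwoGen.torus_trick M (xh (m := m) (ee a b 0) (Q_ee 0) (polar_ee_kk 0)).range
    (h := TH A l) (w := n) (u := S _ (ee a b 0) (kk m (1 : Kx F a b))) hM hn (hXm 1)
    (by rw [hh1]; exact hconj _ _)
    (by
      rw [hh1]
      intro x hx
      have h3 := hconj (fun i => if i = 0 then nu l' * (A' (i - 1))⁻¹ else A' (i - 1))⁻¹ l'⁻¹ x hx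
      rwa [← TH_inv, inv_inv] at h3)
    (by
      intro Y hYX hYh
      let Z : AddSubgroup (Kx F a b) := Subgroup.toAddSubgroup'
        (Y.comap (xh (m := m) (ee a b 0) (Q_ee 0) (polar_ee_kk 0)))
      have hZ : ∀ z : Kx F a b, z ∈ Z ↔ S _ (ee a b 0) (kk m z) ∈ Y := fun z => Iff.rfl
      rcases hY Z (fun y hy => by
        rw [hZ] at hy ⊢
        rw [← TH_S]
        exact hYh _ hy) with h3 | h3
      · left
        rw [eq_bot_iff]
        intro x hx
        obtain ⟨z, rfl⟩ := hYX hx
        have h4 : z.toAdd ∈ Z := hx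
        rw [h3, AddSubgroup.mem_bot] at h4
        have h5 : z = 1 := h4
        rw [h5, map_one]
        exact Subgroup.mem_bot.2 rfl
      · right
        refine le_antisymm hYX ?_
        rintro _ ⟨z, rfl⟩
        have h4 : z.toAdd ∈ Z := by rw [h3]; exact AddSubgroup.mem_top _
        exact h4)
    ⟨_, hXm 1, by
      intro h
      rw [← mul_inv_eq_iff_eq_mul, TH_S] at h
      exact hne1 (S_inj h)⟩
    (hconj _ _)
    (by rw [hh1]; exact TH_comm _ _ _ _)
    (by
      rw [hh1]
      intro h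
      rw [← mul_inv_eq_iff_eq_mul, TH_S] at h
      have h3 := S_inj h
      rw [if_pos rfl, mul_one] at h3
      apply hl (A (0 - 1) : F)
      apply ψ.injective
      rw [h1, map_one]
      have h4 : ((nu l' * (A' (0 - 1))⁻¹ : Fˣ) : F) * (nu l' : F)⁻¹ = (φ (A (0 - 1) : F))⁻¹ := by
        rw [Units.val_mul, mul_comm (nu l' : F), mul_assoc, mul_inv_cancel₀ (nu l').ne_zero, mul_one,
          Units.val_inv_eq_inv_val]
        rfl
      rw [h4] at h3
      have h5 : φ (A (0 - 1) : F) ≠ 0 := by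
        rw [Ne, map_eq_zero]
        exact (A (0 - 1)).ne_zero
      rw [← h3, smul_smul, mul_inv_cancel₀ h5, one_smul]
      rfl)
  obtain ⟨hX, hnM⟩ := key
  have hn_ee : ∀ i : Fin m, n.1 (ee a b i) = (B i : F) • (wC a b m).1 (ee a b i) := by
    intro i
    show (wC a b m).1 ((TH B l₂).1 ((Ph m h1 h2).1 (ee a b i))) = _
    rw [Ph_ee, TH_ee, isSS_wC.smul]
    rfl
  have hn_ff : ∀ i : Fin m, n.1 (ff a b i) = ((nu l₂ * (B i)⁻¹ : Fˣ) : F) • (wC a b m).1 (ff a b i) := by
    intro i
    show (wC a b m).1 ((TH B l₂).1 ((Ph m h1 h2).1 (ff a b i))) = _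
    rw [Ph_ff, TH_ff, isSS_wC.smul]
    rfl
  obtain ⟨hE, hF⟩ := full_all n hnM (fun z => by
      refine ⟨ψ.symm ((l₂⁻¹ : (Kx F a b)ˣ) * z), ?_⟩
      show (wC a b m).1 ((TH B l₂).1 ((Ph m h1 h2).1 (kk m _))) = _
      rw [Ph_kk, TH_kk, wC_kk]
      congr 1
      show (l₂ : Kx F a b) * ψ (ψ.symm _) = z
      rw [RingEquiv.apply_symm_apply, Units.mul_inv_cancel_left])
    (fun i hi => ⟨(B i : F), (B i).ne_zero, by rw [hn_ee, wC_ee hi]⟩)
    (fun i hi => ⟨_, (nu l₂ * (B i)⁻¹).ne_zero, by rw [hn_ff, wC_ff hi]⟩)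
    (fun i hi => ⟨(B i : F), (B i).ne_zero, by rw [hn_ee, wC_ee_last hi]⟩)
    (fun z => hX (hXm z))
  exact E_le_isoM hab hG hE hF

end Gen

end Cfsg.Agent.H827.DG.Minus
end

-- part: H827/DG/MinusC
section
/-!
# `Cos2` for `PΩ⁻_2m(q)`, part C: the outer classes (helper827)
-/

set_option autoImplicit false
set_option linter.unusedSectionVars false

namespace Cfsg.Agent.H827.DG.Minus

open QuadraticMap Cfsg.Agent.LieClassical.OrthCore Cfsg.Agent.LieClassical.OrthTrans
  Cfsg.Agent.LieClassical.OrthSimple Cfsg.Agent.ClassicalGeometry.OrthSemi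
  Cfsg.Agent.ClassicalGeometry.OrthSemiCount Cfsg.Agent.ClassicalGeometry.OrthAut1
  Cfsg.Agent.ClassicalGeometry.OrthAutBasic
  Cfsg.Agent.ClassicalGeometry.OrthSemiForms Cfsg.Agent.LieClassical.OrthForms
  Cfsg.Agent.H989.OutOrth.Abstract Cfsg.Agent.H989.OutOrth.Basic Cfsg.Agent.H989.OutOrth.Forms
  Cfsg.Agent.H179.OutMinus Cfsg.Agent.H887.SiegelMethod

variable {F : Type*} [Field F] {a b : F} {m : ℕ}

section Refl

variable [NeZero m]

/-- `h_0(s)` -/
def h0 (a b : F) (m : ℕ) [NeZero m] (s : Fˣ) : Gam (minusForm m F a b) :=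
  TH (Pi.mulSingle 0 s) (1 : (Kx F a b)ˣ)

theorem h0_mul (s t : Fˣ) : h0 a b m (s * t) = h0 a b m s * h0 a b m t := by
  rw [h0, h0, h0, ← TH_mul, mul_one, Pi.mulSingle_mul]

theorem h0_one : h0 a b m 1 = 1 := by
  rw [h0, Pi.mulSingle_one, TH_one]

theorem h0_inv (s : Fˣ) : h0 a b m s⁻¹ = (h0 a b m s)⁻¹ := by
  rw [eq_inv_iff_mul_eq_one, ← h0_mul, inv_mul_cancel, h0_one]

/-- `e_0 + s f_0` -/
def vs (a b : F) (m : ℕ) [NeZero m] (s : Fˣ) : (Fin m ⊕ Fin m) ⊕ Fin 2 → F :=
  ee a b 0 + (s : F) • ff a b 0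

theorem Q_vs (s : Fˣ) : minusForm m F a b (vs a b m s) = s := by
  rw [vs, Q_add, QuadraticMap.map_smul, Q_ee, Q_ff, polar_smul_right, polar_ee_ff, if_pos rfl]
  simp

theorem Q_vs_ne (s : Fˣ) : minusForm m F a b (vs a b m s) ≠ 0 := by
  rw [Q_vs]
  exact s.ne_zero

theorem vs_eq (s : Fˣ) : vs a b m s = coordE a b m (Pi.single 0 1, Pi.single 0 (s : F), 0) := by
  rw [vs, ee, ff, ← map_smul, ← map_add]
  congr 1
  refine Prod.ext ?_ (Prod.ext ?_ ?_)
  · show Pi.single 0 1 + (s : F) • (0 : Fin m → F) = _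
    rw [smul_zero, add_zero]
  · show (0 : Fin m → F) + (s : F) • (Pi.single 0 1 : Fin m → F) = _
    rw [zero_add, ← Pi.single_smul, smul_eq_mul, mul_one]
  · show (0 : Kx F a b) + (s : F) • (0 : Kx F a b) = 0
    rw [smul_zero, add_zero]

theorem rf_vs_apply (s : Fˣ) (t : W a b m) :
    (rf (vs a b m s) (Q_vs_ne s)).1 (coordE a b m t) =
      coordE a b m (Function.update t.1 0 (-(((s⁻¹ : Fˣ) : F) * t.2.1 0)),
        Function.update t.2.1 0 (-((s : F) * t.1 0)), t.2.2) := by
  have hp : polar (minusForm m F a b) (vs a b m s) (coordE a b m t) = t.2.1 0 + t.1 0 * s := by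
    rw [vs_eq, polar_coord]
    simp only [Pi.single_apply, Finset.sum_add_distrib, _root_.ite_mul, _root_.one_mul, _root_.MulZeroClass.zero_mul, _root_.mul_ite, _root_.MulZeroClass.mul_zero, _root_.Finset.sum_ite_eq', _root_.Finset.mem_univ, ↓ _root_.reduceIte, _root_.QuadraticAlgebra.re_zero, _root_.QuadraticAlgebra.im_zero, _root_.add_zero]
  rw [rf_apply, refl_apply, hp, Q_vs, vs_eq, ← map_smul, ← map_sub]
  congr 1
  have hs := s.ne_zero
  refine Prod.ext (funext fun i => ?_) (Prod.ext (funext fun i => ?_) ?_)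
  · show t.1 i - ((s : F)⁻¹ * (t.2.1 0 + t.1 0 * s)) * (Pi.single 0 1 : Fin m → F) i =
      Function.update t.1 0 (-(((s⁻¹ : Fˣ) : F) * t.2.1 0)) i
    by_cases hi : i = 0
    · subst hi
      rw [Pi.single_eq_same, Function.update_self, Units.val_inv_eq_inv_val]
      field_simp
      ring
    · rw [Pi.single_eq_of_ne hi, Function.update_of_ne hi, mul_zero, sub_zero]
  · show t.2.1 i - ((s : F)⁻¹ * (t.2.1 0 + t.1 0 * s)) * (Pi.single 0 (s : F) : Fin m → F) i =
      Function.update t.2.1 0 (-((s : F) * t.1 0)) i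
    by_cases hi : i = 0
    · subst hi
      rw [Pi.single_eq_same, Function.update_self]
      field_simp
      ring
    · rw [Pi.single_eq_of_ne hi, Function.update_of_ne hi, mul_zero, sub_zero]
  · show t.2.2 - ((s : F)⁻¹ * (t.2.1 0 + t.1 0 * s)) • (0 : Kx F a b) = t.2.2
    rw [smul_zero, sub_zero]

/-- `h_0(s)` is a product of two reflections -/
theorem h0_eq (s : Fˣ) : h0 a b m s = rf (vs a b m 1) (Q_vs_ne 1) * rf (vs a b m s) (Q_vs_ne s) := by
  apply ext_Gam
  intro t
  show (TH _ _).1 (coordE a b m t) = (rf (vs a b m 1) (Q_vs_ne 1)).1 ((rf (vs a b m s) (Q_vs_ne s)).1 (coordE a b m t))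
  rw [rf_vs_apply, rf_vs_apply, TH_apply]
  congr 1
  refine Prod.ext (funext fun i => ?_) (Prod.ext (funext fun i => ?_) ?_)
  · show (((Pi.mulSingle 0 s : Fin m → Fˣ) i : Fˣ) : F) * t.1 i =
      Function.update (Function.update t.1 0 (-(((s⁻¹ : Fˣ) : F) * t.2.1 0))) 0
        (-(((1⁻¹ : Fˣ) : F) * Function.update t.2.1 0 (-((s : F) * t.1 0)) 0)) i
    by_cases hi : i = 0
    · subst hi
      rw [Pi.mulSingle_eq_same, Function.update_self, Function.update_self, inv_one, Units.val_one, one_mul,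
        neg_neg]
    · rw [Pi.mulSingle_eq_of_ne hi, Function.update_of_ne hi, Function.update_of_ne hi, Units.val_one, one_mul]
  · show ((nu (1 : (Kx F a b)ˣ) * ((Pi.mulSingle 0 s : Fin m → Fˣ) i)⁻¹ : Fˣ) : F) * t.2.1 i =
      Function.update (Function.update t.2.1 0 (-((s : F) * t.1 0))) 0
        (-(((1 : Fˣ) : F) * Function.update t.1 0 (-(((s⁻¹ : Fˣ) : F) * t.2.1 0)) 0)) i
    rw [nu_one, one_mul]
    by_cases hi : i = 0
    · subst hi
      rw [Pi.mulSingle_eq_same, Function.update_self, Function.update_self, Units.val_one, one_mul,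
        neg_neg]
    · rw [Pi.mulSingle_eq_of_ne hi, Function.update_of_ne hi, Function.update_of_ne hi, inv_one, Units.val_one,
        one_mul]
  · show ((1 : (Kx F a b)ˣ) : Kx F a b) * t.2.2 = t.2.2
    rw [Units.val_one, one_mul]

end Refl

/-! ### rotations of `K` -/

theorem Q_kk_ne (z : (Kx F a b)ˣ) : minusForm m F a b (kk m (z : Kx F a b)) ≠ 0 := by
  rw [Q_kk]
  exact norm_unit_ne_zero z

theorem rf_kk_apply (z : (Kx F a b)ˣ) (t : W a b m) :
    (rf (kk m (z : Kx F a b)) (Q_kk_ne z)).1 (coordE a b m t) =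
      coordE a b m (t.1, t.2.1, -((z * (star z)⁻¹ : (Kx F a b)ˣ) * star t.2.2)) := by
  have hp : polar (minusForm m F a b) (kk m (z : Kx F a b)) (coordE a b m t) =
      2 * (z : Kx F a b).re * t.2.2.re + a * ((z : Kx F a b).re * t.2.2.im + (z : Kx F a b).im * t.2.2.re) +
        2 * b * (z : Kx F a b).im * t.2.2.im := by
    rw [kk, polar_coord]
    simp only [_root_.Pi.zero_apply, _root_.MulZeroClass.zero_mul, _root_.MulZeroClass.mul_zero, _root_.add_zero, _root_.Finset.sum_const_zero, _root_.zero_add]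
  rw [rf_apply, refl_apply, hp, Q_kk, kk, ← map_smul, ← map_sub]
  congr 1
  refine Prod.ext ?_ (Prod.ext ?_ ?_)
  · show t.1 - _ • (0 : Fin m → F) = t.1
    rw [smul_zero, sub_zero]
  · show t.2.1 - _ • (0 : Fin m → F) = t.2.1
    rw [smul_zero, sub_zero]
  · show t.2.2 - ((QuadraticAlgebra.norm (z : Kx F a b))⁻¹ * (2 * (z : Kx F a b).re * t.2.2.re +
      a * ((z : Kx F a b).re * t.2.2.im + (z : Kx F a b).im * t.2.2.re) +
        2 * b * (z : Kx F a b).im * t.2.2.im)) • (z : Kx F a b) = -((z * (star z)⁻¹ : (Kx F a b)ˣ) * star t.2.2)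
    have e1 : algebraMap F (Kx F a b) (2 * (z : Kx F a b).re * t.2.2.re +
      a * ((z : Kx F a b).re * t.2.2.im + (z : Kx F a b).im * t.2.2.re) +
        2 * b * (z : Kx F a b).im * t.2.2.im) = (z : Kx F a b) * star t.2.2 + star (z : Kx F a b) * t.2.2 := by
      apply QuadraticAlgebra.ext
      · simp only [_root_.map_add, _root_.map_mul, _root_.QuadraticAlgebra.re_add, _root_.QuadraticAlgebra.re_mul, _root_.QuadraticAlgebra.algebraMap_re, _root_.QuadraticAlgebra.algebraMap_im, _root_.MulZeroClass.mul_zero, _root_.add_zero, _root_.QuadraticAlgebra.im_mul, _root_.MulZeroClass.zero_mul, _root_.QuadraticAlgebra.im_add, _root_.QuadraticAlgebra.re_star, _root_.neg_mul, _root_.QuadraticAlgebra.im_star, _root_.mul_neg, _root_.neg_neg]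
        ring
      · simp only [_root_.map_add, _root_.map_mul, _root_.QuadraticAlgebra.im_add, _root_.QuadraticAlgebra.im_mul, _root_.QuadraticAlgebra.re_mul, _root_.QuadraticAlgebra.algebraMap_re, _root_.QuadraticAlgebra.algebraMap_im, _root_.MulZeroClass.mul_zero, _root_.add_zero, _root_.MulZeroClass.zero_mul, _root_.QuadraticAlgebra.re_add, _root_.QuadraticAlgebra.im_star, _root_.mul_neg, _root_.QuadraticAlgebra.re_star, _root_.neg_mul]
        ring
    have e2 : algebraMap F (Kx F a b) (QuadraticAlgebra.norm (z : Kx F a b))⁻¹ =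
        ((z⁻¹ * (star z)⁻¹ : (Kx F a b)ˣ) : Kx F a b) := by
      have h1 : algebraMap F (Kx F a b) (QuadraticAlgebra.norm (z : Kx F a b)) *
          algebraMap F (Kx F a b) (QuadraticAlgebra.norm (z : Kx F a b))⁻¹ = 1 := by
        rw [← map_mul, mul_inv_cancel₀ (norm_unit_ne_zero z), map_one]
      rw [QuadraticAlgebra.algebraMap_norm_eq_mul_star] at h1
      have h2 : ((z * star z : (Kx F a b)ˣ) : Kx F a b) *
          algebraMap F (Kx F a b) (QuadraticAlgebra.norm (z : Kx F a b))⁻¹ = 1 := h1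
      have h3 := congrArg (fun x => (((z * star z)⁻¹ : (Kx F a b)ˣ) : Kx F a b) * x) h2
      simp only [Units.inv_mul_cancel_left, mul_one] at h3
      rw [h3, mul_inv]
    rw [Algebra.smul_def, map_mul, e2, e1, Units.val_mul, Units.val_mul]
    have e3 : ((z⁻¹ : (Kx F a b)ˣ) : Kx F a b) * (z : Kx F a b) = 1 := z.inv_mul
    have e4 : (((star z)⁻¹ : (Kx F a b)ˣ) : Kx F a b) * star (z : Kx F a b) = 1 := (star z).inv_mul
    linear_combination (-(((star z)⁻¹ : (Kx F a b)ˣ) : Kx F a b) * (z : Kx F a b) * star t.2.2 -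
      (((star z)⁻¹ : (Kx F a b)ˣ) : Kx F a b) * star (z : Kx F a b) * t.2.2) * e3 - t.2.2 * e4

/-- the rotation `t / t*` is a product of two reflections -/
theorem rot_eq (z : (Kx F a b)ˣ) :
    TH (1 : Fin m → Fˣ) (z * (star z)⁻¹) =
      rf (kk m (z : Kx F a b)) (Q_kk_ne z) * rf (kk m ((1 : (Kx F a b)ˣ) : Kx F a b)) (Q_kk_ne 1) := by
  apply ext_Gam
  intro t
  show (TH _ _).1 (coordE a b m t) = (rf (kk m (z : Kx F a b)) (Q_kk_ne z)).1
    ((rf (kk m ((1 : (Kx F a b)ˣ) : Kx F a b)) (Q_kk_ne 1)).1 (coordE a b m t))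
  rw [rf_kk_apply, rf_kk_apply, TH_apply]
  congr 1
  have hn : nu (z * (star z)⁻¹) = 1 := by
    rw [nu_mul, nu_inv, mul_inv_eq_one]
    apply Units.ext
    rw [coe_nu, coe_nu, Units.coe_star, QuadraticAlgebra.norm_star]
  refine Prod.ext (funext fun i => ?_) (Prod.ext (funext fun i => ?_) ?_)
  · show ((1 : Fˣ) : F) * t.1 i = t.1 i
    rw [Units.val_one, one_mul]
  · show ((nu (z * (star z)⁻¹) * (1 : Fˣ)⁻¹ : Fˣ) : F) * t.2.1 i = t.2.1 i
    rw [hn, inv_one, mul_one, Units.val_one, one_mul]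
  · show ((z * (star z)⁻¹ : (Kx F a b)ˣ) : Kx F a b) * t.2.2 =
      -(((z * (star z)⁻¹ : (Kx F a b)ˣ) : Kx F a b) *
        star (-(((1 * (star 1)⁻¹ : (Kx F a b)ˣ) : Kx F a b) * star t.2.2)))
    rw [star_one, inv_one, mul_one, Units.val_one, one_mul, star_neg, star_star, mul_neg, neg_neg]

/-- the reflection in `v0` (`k ↦ k*`) -/
theorem rf_v0_TH [Finite F] (hab : ∀ z₁ z₂ : F, z₁ ^ 2 + a * z₁ * z₂ + b * z₂ ^ 2 = 0 → z₁ = 0 ∧ z₂ = 0)
    (A : Fin m → Fˣ) (l : (Kx F a b)ˣ) :
    rf (v0 a b m) (form_v0_ne hab m) * TH A l = TH A (star l) * rf (v0 a b m) (form_v0_ne hab m) := by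
  apply ext_Gam
  intro t
  show (rf (v0 a b m) (form_v0_ne hab m)).1 ((TH A l).1 (coordE a b m t)) =
    (TH A (star l)).1 ((rf (v0 a b m) (form_v0_ne hab m)).1 (coordE a b m t))
  rw [← perm_Tr hab m, TH_apply, perm_apply, perm_apply, TH_apply]
  congr 1
  have hn : nu (star l) = nu l := by
    apply Units.ext
    rw [coe_nu, coe_nu, Units.coe_star, QuadraticAlgebra.norm_star]
  refine Prod.ext rfl (Prod.ext (funext fun i => ?_) ?_)
  · show ((nu l * (A i)⁻¹ : Fˣ) : F) * t.2.1 i = ((nu (star l) * (A i)⁻¹ : Fˣ) : F) * t.2.1 i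
    rw [hn]
  · show star ((l : Kx F a b) * t.2.2) = ((star l : (Kx F a b)ˣ) : Kx F a b) * star t.2.2
    rw [star_mul', Units.coe_star]

/-! ### classes -/

section Classes

variable [NeZero m] [Finite F]
  (hab : ∀ z₁ z₂ : F, z₁ ^ 2 + a * z₁ * z₂ + b * z₂ ^ 2 = 0 → z₁ = 0 ∧ z₂ = 0)
  (hG : Good (minusForm m F a b))

include hG

/-- the class of a reflection -/
theorem out_rf_eq {w : (Fin m ⊕ Fin m) ⊕ Fin 2 → F} (hw : minusForm m F a b w ≠ 0) :
    out _ (rf w hw) = out _ (rf (vs a b m 1) (Q_vs_ne 1)) * out _ (h0 a b m (Units.mk0 _ hw)) := by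
  rw [h0_eq, map_mul, ← mul_assoc, ← map_mul, rf_mul_self, map_one, one_mul]
  exact out_rf_of_eq hG hw (Q_vs_ne _) (by rw [Q_vs, Units.val_mk0])

theorem out_rf_eq' {w : (Fin m ⊕ Fin m) ⊕ Fin 2 → F} (hw : minusForm m F a b w ≠ 0) :
    ∃ s : Fˣ, out _ (rf w hw) = out _ (rf (v0 a b m) (form_v0_ne hab m)) * out _ (h0 a b m s) := by
  refine ⟨(Units.mk0 _ (form_v0_ne hab m))⁻¹ * Units.mk0 _ hw, ?_⟩
  rw [out_rf_eq hG (form_v0_ne hab m), out_rf_eq hG hw, h0_mul, h0_inv, map_mul, map_inv]
  group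

theorem rho_sq : out _ (rf (v0 a b m) (form_v0_ne hab m)) * out _ (rf (v0 a b m) (form_v0_ne hab m)) = 1 := by
  rw [← map_mul, rf_mul_self, map_one]

omit hG in
theorem rho_comm (s : Fˣ) : out _ (rf (v0 a b m) (form_v0_ne hab m)) * out _ (h0 a b m s) =
    out _ (h0 a b m s) * out _ (rf (v0 a b m) (form_v0_ne hab m)) := by
  rw [← map_mul, ← map_mul, h0, rf_v0_TH hab, star_one]

/-- **the classes of the isometries** -/
theorem out_iso (g : O (minusForm m F a b)) : ∃ s : Fˣ, out _ (ofO _ g) = out _ (h0 a b m s) ∨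
    out _ (ofO _ g) = out _ (h0 a b m s) * out _ (rf (v0 a b m) (form_v0_ne hab m)) := by
  obtain ⟨ρ, hρ⟩ : ∃ ρ, ρ = out _ (rf (v0 a b m) (form_v0_ne hab m)) := ⟨_, rfl⟩
  have h2 : ρ * ρ = 1 := by rw [hρ]; exact rho_sq hab hG
  have hc : ∀ s : Fˣ, ρ * out _ (h0 a b m s) = out _ (h0 a b m s) * ρ := by
    intro s
    rw [hρ]
    exact rho_comm hab s
  rw [← hρ]
  let R : Subgroup (Cfsg.Out (P (minusForm m F a b))) :=
    { carrier := {x | ∃ s : Fˣ, x = out _ (h0 a b m s) ∨ x = out _ (h0 a b m s) * ρ}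
      one_mem' := ⟨1, Or.inl (by rw [h0_one, map_one])⟩
      mul_mem' := by
        rintro x y ⟨s, hs⟩ ⟨t, ht⟩
        refine ⟨s * t, ?_⟩
        rw [h0_mul, map_mul]
        rcases hs with rfl | rfl <;> rcases ht with rfl | rfl
        · exact Or.inl rfl
        · exact Or.inr (mul_assoc _ _ _).symm
        · right
          rw [mul_assoc, hc, mul_assoc]
        · left
          rw [mul_assoc, ← mul_assoc ρ, hc, mul_assoc, h2, mul_one]
      inv_mem' := by
        rintro x ⟨s, hs⟩
        refine ⟨s⁻¹, ?_⟩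
        have hρi : ρ⁻¹ = ρ := inv_eq_of_mul_eq_one_left h2
        rw [h0_inv, map_inv]
        rcases hs with rfl | rfl
        · exact Or.inl rfl
        · right
          rw [mul_inv_rev, hρi]
          have h3 := hc s⁻¹
          rwa [h0_inv, map_inv] at h3 }
  refine out_ofO_mem hG (R := R) ?_ g
  intro w hw
  obtain ⟨s, hs⟩ := out_rf_eq' hab hG hw
  exact ⟨s, Or.inr (by rw [hs, ← hρ, hc])⟩

/-- rotations can be absorbed -/
theorem out_rot (z : (Kx F a b)ˣ) :
    out _ (TH (m := m) (Pi.mulSingle 0 (nu z)) (z * (star z)⁻¹)) = 1 := by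
  have h1 : TH (m := m) (Pi.mulSingle 0 (nu z)) (z * (star z)⁻¹) = h0 a b m (nu z) * TH 1 (z * (star z)⁻¹) := by
    rw [h0, ← TH_mul, mul_one, one_mul]
  rw [h1, rot_eq, h0_eq, map_mul, map_mul, map_mul]
  have e1 : out _ (rf (kk m (z : Kx F a b)) (Q_kk_ne z)) = out _ (rf (vs a b m (nu z)) (Q_vs_ne _)) :=
    out_rf_of_eq hG _ _ (by rw [Q_vs, Q_kk]; rfl)
  have e2 : out _ (rf (kk m ((1 : (Kx F a b)ˣ) : Kx F a b)) (Q_kk_ne 1)) = out _ (rf (vs a b m 1) (Q_vs_ne _)) :=
    out_rf_of_eq hG _ _ (by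
      rw [Q_vs, Q_kk, Units.val_one, map_one]
      rfl)
  rw [e1, e2]
  have e3 : ∀ s : Fˣ, out _ (rf (vs a b m s) (Q_vs_ne s)) * out _ (rf (vs a b m s) (Q_vs_ne s)) = 1 := by
    intro s
    rw [← map_mul, rf_mul_self, map_one]
  calc out _ (rf (vs a b m 1) (Q_vs_ne 1)) * out _ (rf (vs a b m (nu z)) (Q_vs_ne _)) *
        (out _ (rf (vs a b m (nu z)) (Q_vs_ne _)) * out _ (rf (vs a b m 1) (Q_vs_ne 1)))
      = out _ (rf (vs a b m 1) (Q_vs_ne 1)) * (out _ (rf (vs a b m (nu z)) (Q_vs_ne _)) *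
        out _ (rf (vs a b m (nu z)) (Q_vs_ne _))) * out _ (rf (vs a b m 1) (Q_vs_ne 1)) := by group
    _ = 1 := by rw [e3, mul_one, e3]

end Classes

end Cfsg.Agent.H827.DG.Minus
end

-- part: H827/DG/Minus
section
/-!
# `Cos2` for `PΩ⁻_2m(q)` (helper827)

`cos2_minus : IsPOmegaMinus T → Cos2 T`.

The classes of the torus elements `(x, y, k) ↦ (A x, N(l) A⁻¹ y, l k)` form a normal subgroup of `Out T` with cyclic
quotient generated by the Frobenius automorphism; so we may assume (Euclid) that the first element `x` of the pair is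
congruent to a torus element `h`.  The second is congruent to `n` = (Coxeter element) (torus element) (field
automorphism); `⟨h, u n⟩` contains `Inn T` (`gen_core`).
-/

set_option autoImplicit false
set_option linter.unusedSectionVars false

namespace Cfsg.Agent.H827.DG.Minus

open QuadraticMap Cfsg.Agent.LieClassical.OrthCore Cfsg.Agent.LieClassical.OrthTrans
  Cfsg.Agent.LieClassical.OrthSimple Cfsg.Agent.ClassicalGeometry.OrthSemi
  Cfsg.Agent.ClassicalGeometry.OrthSemiCount Cfsg.Agent.ClassicalGeometry.OrthAut1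
  Cfsg.Agent.ClassicalGeometry.OrthAutBasic
  Cfsg.Agent.ClassicalGeometry.OrthSemiForms Cfsg.Agent.LieClassical.OrthForms
  Cfsg.Agent.H989.OutOrth.Abstract Cfsg.Agent.H989.OutOrth.Basic Cfsg.Agent.H989.OutOrth.Forms
  Cfsg.Agent.H179.OutMinus Cfsg.Agent.H887.SiegelMethod Cfsg.Agent.H891.Gen Cfsg.Agent.H891.DG

/-! ### transfer along isomorphisms -/

section Transfer

universe u v

theorem range_congr {T : Type u} {T' : Type v} [Group T] [Group T'] (e : T ≃* T') {α : MulAut T}
    (h : α ∈ (MulAut.conj : T →* MulAut T).range) :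
    MulAut.congr e α ∈ (MulAut.conj : T' →* MulAut T').range := by
  obtain ⟨g, rfl⟩ := h
  refine ⟨e g, ?_⟩
  ext x
  change e g * x * (e g)⁻¹ = e (g * e.symm x * g⁻¹)
  simp only [_root_.map_mul, _root_.MulEquiv.apply_symm_apply, _root_.map_inv]

theorem cos2_congr {T : Type u} {T' : Type v} [Group T] [Group T'] (e : T ≃* T') (h : Cos2 T) : Cos2 T' := by
  intro x y
  obtain ⟨s, hs, t, ht, h1⟩ := h ((MulAut.congr e).symm x) ((MulAut.congr e).symm y)
  refine ⟨MulAut.congr e s, range_congr e hs, MulAut.congr e t, range_congr e ht, ?_⟩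
  intro z hz
  have h2 := h1 (show (MulAut.congr e).symm z ∈ _ from range_congr e.symm hz)
  have h3 := Subgroup.mem_map_of_mem (MulAut.congr e : MulAut T ≃* MulAut T').toMonoidHom h2
  rw [MonoidHom.map_closure, Set.image_pair] at h3
  have h4 : (MulAut.congr e : MulAut T ≃* MulAut T').toMonoidHom ((MulAut.congr e).symm z) = z :=
    (MulAut.congr e).apply_symm_apply z
  have h5 : (MulAut.congr e : MulAut T ≃* MulAut T').toMonoidHom ((MulAut.congr e).symm x * s) =
      x * MulAut.congr e s := by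
    rw [map_mul]
    exact congrArg (· * _) ((MulAut.congr e).apply_symm_apply x)
  have h6 : (MulAut.congr e : MulAut T ≃* MulAut T').toMonoidHom ((MulAut.congr e).symm y * t) =
      y * MulAut.congr e t := by
    rw [map_mul]
    exact congrArg (· * _) ((MulAut.congr e).apply_symm_apply y)
  rwa [h4, h5, h6] at h3

end Transfer

variable {F : Type*} [Field F] {a b : F} {m : ℕ}

/-- powers of the Frobenius semisimilitude -/
theorem Ph_npow {φ : RingAut F} {ψ : RingAut (Kx F a b)} (h1 : ∀ (x : F) z, ψ (x • z) = φ x • ψ z)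
    (h2 : ∀ z, QuadraticAlgebra.norm (ψ z) = φ (QuadraticAlgebra.norm z)) (j : ℕ) :
    ∃ (h1' : ∀ (x : F) z, (ψ ^ j) (x • z) = (φ ^ j) x • (ψ ^ j) z)
      (h2' : ∀ z, QuadraticAlgebra.norm ((ψ ^ j) z) = (φ ^ j) (QuadraticAlgebra.norm z)),
      Ph m h1 h2 ^ j = Ph m h1' h2' := by
  have h1' : ∀ (x : F) z, (ψ ^ j) (x • z) = (φ ^ j) x • (ψ ^ j) z := by
    induction j with
    | zero => intro x z; rfl
    | succ j ih =>
      intro x z
      rw [pow_succ, pow_succ]
      show (ψ ^ j) (ψ (x • z)) = (φ ^ j) (φ x) • (ψ ^ j) (ψ z)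
      rw [h1, ih]
  have h2' : ∀ j : ℕ, ∀ z, QuadraticAlgebra.norm ((ψ ^ j) z) = (φ ^ j) (QuadraticAlgebra.norm z) := by
    intro j
    induction j with
    | zero => intro z; rfl
    | succ j ih =>
      intro z
      rw [pow_succ, pow_succ]
      show QuadraticAlgebra.norm ((ψ ^ j) (ψ z)) = (φ ^ j) (φ (QuadraticAlgebra.norm z))
      rw [ih, h2]
  exact ⟨h1', h2' j, Subtype.ext (by
    show perm a b m (TΦ φ ψ) ^ j = _
    rw [← map_pow, TΦ_pow]
    rfl)⟩

theorem exists_nu [Finite F] (hab : ∀ z₁ z₂ : F, z₁ ^ 2 + a * z₁ * z₂ + b * z₂ ^ 2 = 0 → z₁ = 0 ∧ z₂ = 0)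
    {c : F} (hc : c ≠ 0) : ∃ l : (Kx F a b)ˣ, (nu l : F) = c := by
  obtain ⟨l₁, l₂, hl⟩ := exists_binary_eq a b hab c
  have hnl : QuadraticAlgebra.norm (⟨l₁, l₂⟩ : Kx F a b) = c := by rw [norm_eq]; exact hl
  have hunit : IsUnit (⟨l₁, l₂⟩ : Kx F a b) :=
    QuadraticAlgebra.isUnit_iff_norm_isUnit.2 (by rw [hnl]; exact IsUnit.mk0 _ hc)
  obtain ⟨l, hlu⟩ := hunit
  exact ⟨l, by rw [coe_nu, hlu, hnl]⟩

/-- every semisimilitude is a torus element times an isometry times a power of `Ph` -/
theorem exists_dec [Finite F] (hab : ∀ z₁ z₂ : F, z₁ ^ 2 + a * z₁ * z₂ + b * z₂ ^ 2 = 0 → z₁ = 0 ∧ z₂ = 0)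
    {φ : RingAut F} {ψ : RingAut (Kx F a b)} (h1 : ∀ (x : F) z, ψ (x • z) = φ x • ψ z)
    (h2 : ∀ z, QuadraticAlgebra.norm (ψ z) = φ (QuadraticAlgebra.norm z)) (hφ : ∀ σ : RingAut F, ∃ j : ℕ, φ ^ j = σ)
    (M : Gam (minusForm m F a b)) :
    ∃ (l : (Kx F a b)ˣ) (g : O (minusForm m F a b)) (j : ℕ), M = TH 1 l * ofO _ g * Ph m h1 h2 ^ j := by
  obtain ⟨σ, c, hM⟩ := M.2
  obtain ⟨j, hj⟩ := hφ σ
  obtain ⟨h1', h2', hP⟩ := Ph_npow (m := m) h1 h2 j
  obtain ⟨l, hl⟩ := exists_nu hab hM.ne
  have hPS : IsSS (minusForm m F a b) (φ ^ j) 1 (Ph m h1' h2').1 := isSS_TΦ h1' h2'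
  subst hj
  have h5 := ((isSS_TH (1 : Fin m → Fˣ) l).inv.mul hM).mul hPS.inv
  have e1 : (RingEquiv.symm (φ ^ j)).trans ((φ ^ j : RingAut F).trans (RingEquiv.refl F).symm) = RingEquiv.refl F := by
    ext x
    show (φ ^ j) ((RingEquiv.symm (φ ^ j)) x) = x
    exact RingEquiv.apply_symm_apply _ _
  have e2 : (RingEquiv.refl F).symm (nu l : F)⁻¹ * (RingEquiv.refl F).symm c *
      ((φ ^ j : RingAut F).trans (RingEquiv.refl F).symm) ((RingEquiv.symm (φ ^ j)) (1 : F)⁻¹) = 1 := by
    rw [inv_one, map_one, map_one, mul_one, hl]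
    show c⁻¹ * c = 1
    exact inv_mul_cancel₀ hM.ne
  rw [e2] at h5
  have h6 : IsSS (minusForm m F a b) (RingEquiv.refl F) 1 ((TH (1 : Fin m → Fˣ) l)⁻¹ * M * (Ph m h1' h2')⁻¹).1 := by
    rw [← e1]
    exact h5
  obtain ⟨g, hg⟩ := exists_ofO h6
  refine ⟨l, g, j, ?_⟩
  rw [hg, hP]
  group

section Main

variable [NeZero m] [Finite F]
  (hab : ∀ z₁ z₂ : F, z₁ ^ 2 + a * z₁ * z₂ + b * z₂ ^ 2 = 0 → z₁ = 0 ∧ z₂ = 0)
  (hG : Good (minusForm m F a b)) {φ : RingAut F} {ψ : RingAut (Kx F a b)}
  (h1 : ∀ (x : F) z, ψ (x • z) = φ x • ψ z)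
  (h2 : ∀ z, QuadraticAlgebra.norm (ψ z) = φ (QuadraticAlgebra.norm z))
  (hφ : ∀ σ : RingAut F, ∃ j : ℕ, φ ^ j = σ) {f : ℕ}
  (hf : Ph m h1 h2 ^ f = rf (v0 a b m) (form_v0_ne hab m))

include hG hφ hf

/-- classes, first form -/
theorem out_dec (M : Gam (minusForm m F a b)) :
    ∃ (A : Fin m → Fˣ) (l : (Kx F a b)ˣ) (j : ℕ), out _ M = out _ (TH A l * Ph m h1 h2 ^ j) := by
  obtain ⟨l, g, j, rfl⟩ := exists_dec hab h1 h2 hφ M
  obtain ⟨s, hs⟩ := out_iso hab hG g
  rcases hs with hs | hs
  · refine ⟨Pi.mulSingle 0 s, l, j, ?_⟩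
    rw [map_mul, map_mul, hs, ← map_mul, ← map_mul, h0, ← TH_mul, one_mul, mul_one]
  · refine ⟨Pi.mulSingle 0 s, l, f + j, ?_⟩
    rw [map_mul, map_mul, hs, ← hf, ← map_mul, ← map_mul, ← map_mul, h0, pow_add, ← mul_assoc, ← mul_assoc,
      ← TH_mul, one_mul, mul_one]

/-- classes, second form -/
theorem out_dec' (M : Gam (minusForm m F a b)) :
    ∃ (A : Fin m → Fˣ) (l : (Kx F a b)ˣ) (j : ℕ), out _ M = out _ (wC a b m * TH A l * Ph m h1 h2 ^ j) := by
  obtain ⟨A, l, j, h⟩ := out_dec hab hG h1 h2 hφ hf ((wC a b m)⁻¹ * M)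
  refine ⟨A, l, j, ?_⟩
  rw [mul_assoc, map_mul, ← h, ← map_mul, mul_inv_cancel_left]

omit hG hφ hf in
/-- `n h n⁻¹` -/
theorem conj_TH_dec (A B : Fin m → Fˣ) (l l₂ : (Kx F a b)ˣ) (j : ℕ) :
    ∃ (A' : Fin m → Fˣ) (l' : (Kx F a b)ˣ),
      TH B l₂ * Ph m h1 h2 ^ j * TH A l * (TH B l₂ * Ph m h1 h2 ^ j)⁻¹ = TH A' l' := by
  obtain ⟨h1', h2', hP⟩ := Ph_npow (m := m) h1 h2 j
  rw [hP]
  refine ⟨fun i => Units.map ((φ ^ j : RingAut F) : F →* F) (A i),
    Units.map ((ψ ^ j : RingAut (Kx F a b)) : Kx F a b →* Kx F a b) l, ?_⟩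
  rw [mul_inv_eq_iff_eq_mul, mul_assoc, Ph_TH, ← mul_assoc, TH_comm, mul_assoc]

end Main

/-- the classes of the torus elements -/
def TorC (m : ℕ) (a b : F) : Subgroup (Cfsg.Out (P (minusForm m F a b))) where
  carrier := {x | ∃ (A : Fin m → Fˣ) (l : (Kx F a b)ˣ), x = out _ (TH A l)}
  one_mem' := ⟨1, 1, by rw [TH_one, map_one]⟩
  mul_mem' := by
    rintro _ _ ⟨A, l, rfl⟩ ⟨A', l', rfl⟩
    exact ⟨A * A', l * l', by rw [TH_mul, map_mul]⟩
  inv_mem' := by
    rintro _ ⟨A, l, rfl⟩
    exact ⟨A⁻¹, l⁻¹, by rw [← TH_inv, map_inv]⟩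

section Main2

variable [NeZero m] [Finite F]
  (hab : ∀ z₁ z₂ : F, z₁ ^ 2 + a * z₁ * z₂ + b * z₂ ^ 2 = 0 → z₁ = 0 ∧ z₂ = 0)
  (hG : Good (minusForm m F a b)) {φ : RingAut F} {ψ : RingAut (Kx F a b)}
  (h1 : ∀ (x : F) z, ψ (x • z) = φ x • ψ z)
  (h2 : ∀ z, QuadraticAlgebra.norm (ψ z) = φ (QuadraticAlgebra.norm z))
  (hφ : ∀ σ : RingAut F, ∃ j : ℕ, φ ^ j = σ) {f : ℕ}
  (hf : Ph m h1 h2 ^ f = rf (v0 a b m) (form_v0_ne hab m))
  (hsurj : Function.Surjective (Psi (minusForm m F a b)))

include hab hG h1 h2 hφ hf hsurj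

theorem out_surj : Function.Surjective (out (minusForm m F a b)) :=
  (QuotientGroup.mk'_surjective _).comp hsurj

theorem TorC_normal : (TorC m a b).Normal := by
  constructor
  rintro _ ⟨A, l, rfl⟩ x
  obtain ⟨M, rfl⟩ := out_surj hab hG h1 h2 hφ hf hsurj x
  obtain ⟨B, l₂, j, hM⟩ := out_dec hab hG h1 h2 hφ hf M
  obtain ⟨A', l', h⟩ := conj_TH_dec h1 h2 A B l l₂ j
  refine ⟨A', l', ?_⟩
  rw [hM, ← map_inv, ← map_mul, ← map_mul, h]

theorem TorC_cyclic (hN : (TorC m a b).Normal) : IsCyclic (Cfsg.Out (P (minusForm m F a b)) ⧸ TorC m a b) := by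
  refine ⟨⟨QuotientGroup.mk (out _ (Ph m h1 h2)), ?_⟩⟩
  intro x
  obtain ⟨x, rfl⟩ := QuotientGroup.mk_surjective x
  obtain ⟨M, rfl⟩ := out_surj hab hG h1 h2 hφ hf hsurj x
  obtain ⟨A, l, j, hM⟩ := out_dec hab hG h1 h2 hφ hf M
  refine ⟨j, ?_⟩
  show (QuotientGroup.mk (out _ (Ph m h1 h2)) : Cfsg.Out (P (minusForm m F a b)) ⧸ TorC m a b) ^ (j : ℤ) = _
  rw [zpow_natCast, hM, map_mul, map_pow, QuotientGroup.mk_mul, QuotientGroup.mk_pow]
  have h3 : (QuotientGroup.mk (out _ (TH A l)) : Cfsg.Out (P (minusForm m F a b)) ⧸ TorC m a b) = 1 :=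
    (QuotientGroup.eq_one_iff _).2 ⟨A, l, rfl⟩
  rw [h3, one_mul]

end Main2

/-- the scalars in `Kˣ` -/
def iu (a b : F) : Fˣ →* (Kx F a b)ˣ := Units.map (algebraMap F (Kx F a b) : F →* Kx F a b)

theorem iu_nu (l : (Kx F a b)ˣ) : iu a b (nu l) = l * star l := Units.ext (by
  show algebraMap F (Kx F a b) (QuadraticAlgebra.norm (l : Kx F a b)) = _
  rw [QuadraticAlgebra.algebraMap_norm_eq_mul_star, Units.val_mul, Units.coe_star])

theorem nu_star (l : (Kx F a b)ˣ) : nu (star l) = nu l := by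
  apply Units.ext
  rw [coe_nu, coe_nu, Units.coe_star, QuadraticAlgebra.norm_star]

/-- the eigenvalue on the root group of `e_0` -/
def ev [NeZero m] (A : Fin m → Fˣ) (l : (Kx F a b)ˣ) : (Kx F a b)ˣ := iu a b (A 0 * (nu l)⁻¹) * l

theorem ev_mul [NeZero m] (A : Fin m → Fˣ) (l : (Kx F a b)ˣ) (y : Kx F a b) :
    ((A 0 : F) * (nu l : F)⁻¹) • ((l : Kx F a b) * y) = (ev A l : Kx F a b) * y := by
  rw [Algebra.smul_def, ← mul_assoc]
  congr 1
  show _ = algebraMap F (Kx F a b) ((A 0 * (nu l)⁻¹ : Fˣ) : F) * (l : Kx F a b)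
  rw [Units.val_mul, Units.val_inv_eq_inv_val]

theorem grp_id {G : Type*} [CommGroup G] (x t s l : G) : x * (t * s) * (l * (t * s⁻¹)) = x * l * t ^ 2 := by
  have e : x * (t * s) * (l * (t * s⁻¹)) = x * l * t ^ 2 * (s * s⁻¹) := by
    rw [pow_two]
    ac_rfl
  rw [e, mul_inv_cancel, mul_one]

theorem ev_mod [NeZero m] (A : Fin m → Fˣ) (l t : (Kx F a b)ˣ) :
    ev (A * Pi.mulSingle 0 (nu t) : Fin m → Fˣ) (l * (t * (star t)⁻¹)) = ev A l * t ^ 2 := by
  have e1 : nu (l * (t * (star t)⁻¹)) = nu l := by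
    rw [nu_mul, nu_mul, nu_inv, nu_star, mul_inv_cancel, mul_one]
  rw [ev, ev, e1, Pi.mul_apply, Pi.mulSingle_eq_same, mul_right_comm (A 0), map_mul, iu_nu]
  exact grp_id _ _ _ _

theorem zpow_adj {G : Type*} [Group G] (g : G) (j : ℤ) :
    ∃ k : ℤ, g ^ j * (g ^ k) ^ 2 = g ∨ g ^ j * (g ^ k) ^ 2 = g ^ 2 := by
  rcases Int.even_or_odd j with ⟨k, hk⟩ | ⟨k, hk⟩
  · refine ⟨1 - k, Or.inr ?_⟩
    rw [hk, ← zpow_natCast, ← zpow_mul, ← zpow_add, ← zpow_natCast]
    congr 1
    push_cast
    ring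
  · refine ⟨-k, Or.inl ?_⟩
    rw [hk, ← zpow_natCast, ← zpow_mul, ← zpow_add]
    conv_rhs => rw [← zpow_one g]
    congr 1
    push_cast
    ring

/-- the scalars as an additive subgroup of `K` -/
def FinK (a b : F) : AddSubgroup (Kx F a b) where
  carrier := {y | y.im = 0}
  zero_mem' := rfl
  add_mem' := by
    intro x y hx hy
    show x.im + y.im = 0
    rw [show x.im = 0 from hx, show y.im = 0 from hy, add_zero]
  neg_mem' := by
    intro x hx
    show -x.im = 0
    rw [show x.im = 0 from hx, neg_zero]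

theorem mem_FinK {y : Kx F a b} : y ∈ FinK a b ↔ y.im = 0 := Iff.rfl

theorem not_scalar [NeZero m] {A : Fin m → Fˣ} {l : (Kx F a b)ˣ}
    (hY : ∀ Y : AddSubgroup (Kx F a b),
        (∀ y ∈ Y, ((A 0 : F) * (nu l : F)⁻¹) • ((l : Kx F a b) * y) ∈ Y) → Y = ⊥ ∨ Y = ⊤) (c : F) :
    (l : Kx F a b) ≠ c • (1 : Kx F a b) := by
  intro hc
  rcases hY (FinK a b) (fun y hy => by
    rw [mem_FinK] at hy ⊢
    rw [hc, smul_mul_assoc, one_mul, QuadraticAlgebra.im_smul, QuadraticAlgebra.im_smul, hy, smul_zero,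
      smul_zero]) with h | h
  · have h3 : (1 : Kx F a b) ∈ FinK a b := mem_FinK.2 rfl
    rw [h, AddSubgroup.mem_bot] at h3
    exact one_ne_zero h3
  · have h3 : (⟨0, 1⟩ : Kx F a b) ∈ FinK a b := by rw [h]; exact AddSubgroup.mem_top _
    exact one_ne_zero (mem_FinK.1 h3)

/-- the torus part can be improved -/
theorem exists_good_torus [NeZero m] [Finite F]
    (hab : ∀ z₁ z₂ : F, z₁ ^ 2 + a * z₁ * z₂ + b * z₂ ^ 2 = 0 → z₁ = 0 ∧ z₂ = 0)
    (hG : Good (minusForm m F a b)) (A : Fin m → Fˣ) (l : (Kx F a b)ˣ) :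
    ∃ (A' : Fin m → Fˣ) (l' : (Kx F a b)ˣ), out _ (TH A l) = out _ (TH A' l') ∧
      (∀ Y : AddSubgroup (Kx F a b),
        (∀ y ∈ Y, ((A' 0 : F) * (nu l' : F)⁻¹) • ((l' : Kx F a b) * y) ∈ Y) → Y = ⊥ ∨ Y = ⊤) := by
  have hfact := fact_of hab
  have hfinK : Finite (Kx F a b) := Finite.of_equiv _ (QuadraticAlgebra.equivProd (-b) a).symm
  obtain ⟨g, hg⟩ := IsCyclic.exists_generator (α := (Kx F a b)ˣ)
  obtain ⟨j, hj⟩ := Subgroup.mem_zpowers_iff.1 (hg (ev A l))
  obtain ⟨k, hk⟩ := zpow_adj g j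
  obtain ⟨t, rfl⟩ : ∃ t, t = g ^ k := ⟨_, rfl⟩
  rw [hj, ← ev_mod] at hk
  refine ⟨A * Pi.mulSingle 0 (nu (g ^ k)), l * (g ^ k * (star (g ^ k))⁻¹), ?_, ?_⟩
  · rw [TH_mul, map_mul, out_rot hG, mul_one]
  · intro Y hY
    refine inv_sub hg hk Y fun y hy => ?_
    rw [← ev_mul]
    exact (hY y hy :)

theorem mem_range_of_mk {T : Type*} [Group T] {α β : MulAut T}
    (h : QuotientGroup.mk' (Cfsg.Inn T) α = QuotientGroup.mk' (Cfsg.Inn T) β) :
    α⁻¹ * β ∈ (MulAut.conj : T →* MulAut T).range := QuotientGroup.eq.1 h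

theorem mk_Psi {V : Type*} [AddCommGroup V] [Module F V] (Q : QuadraticForm F V) (M : Gam Q) :
    QuotientGroup.mk' (Cfsg.Inn (P Q)) (Psi Q M) = out Q M := rfl

/-- the general form of the last step -/
theorem lift_of_gen {V : Type*} [AddCommGroup V] [Module F V] {Q : QuadraticForm F V} {x y : MulAut (P Q)}
    {h k : Gam Q} (hx : QuotientGroup.mk' (Cfsg.Inn (P Q)) x = out Q h)
    (hy : QuotientGroup.mk' (Cfsg.Inn (P Q)) y = out Q k)
    (hgen : ∀ e : ↥(E Q), ofO Q ⟨e, E_le_O e.2⟩ ∈ Subgroup.closure ({h, k} : Set (Gam Q))) :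
    Lift (MulAut.conj : P Q →* MulAut (P Q)).range x y := by
  refine ⟨_, mem_range_of_mk (hx.trans (mk_Psi Q h).symm), _, mem_range_of_mk (hy.trans (mk_Psi Q k).symm), ?_⟩
  rw [mul_inv_cancel_left, mul_inv_cancel_left, ← Set.image_pair, ← MonoidHom.map_closure]
  rintro _ ⟨g, rfl⟩
  obtain ⟨e, rfl⟩ := QuotientGroup.mk_surjective g
  exact ⟨_, hgen e, Psi_ofO e⟩

/-- **the main theorem for `P Q`** -/
theorem cos2_P {F : Type*} [Field F] [Fintype F] {a b : F} {m : ℕ} (hm : 3 ≤ m)
    (hab : ∀ z₁ z₂ : F, z₁ ^ 2 + a * z₁ * z₂ + b * z₂ ^ 2 = 0 → z₁ = 0 ∧ z₂ = 0) :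
    Cos2 (P (minusForm m F a b)) := by
  have hm0 : NeZero m := ⟨by omega⟩
  have hG : Good (minusForm m F a b) := good_minus (by omega) a b hab
  have hfinE : Finite (((Fin m ⊕ Fin m) ⊕ Fin 2 → F) ≃ₗ[F] ((Fin m ⊕ Fin m) ⊕ Fin 2 → F)) :=
    Finite.of_injective (fun g => g.toEquiv) fun g h e => LinearEquiv.toEquiv_injective e
  have hfinP : Finite (P (minusForm m F a b)) := inferInstance
  have hsurj : Function.Surjective (Psi (minusForm m F a b)) :=
    Cfsg.Agent.AutOrth.Final.surjective_minus hm hab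
  -- the Frobenius automorphism
  obtain ⟨p, hpc⟩ := CharP.exists F
  obtain ⟨f, hp, hF⟩ := FiniteField.card F p
  have : Fact p.Prime := ⟨hp⟩
  obtain ⟨φ, hφ1, hφ2, hφ3⟩ := exists_frob (F := F) f.pos hF
  obtain ⟨ψ, -, h1, h2, -, h4⟩ := exists_frobK hF hab hφ1
  have hPf := Ph_pow hab m h1 h2 hφ2 h4
  have hφ : ∀ σ : RingAut F, ∃ j : ℕ, φ ^ j = σ := by
    have hfin : Finite (RingAut F) := Finite.of_injective (fun σ : RingAut F => (σ : F → F)) DFunLike.coe_injective
    have hord : orderOf φ = Nat.card (RingAut F) := by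
      have h5 : Nat.card (RingAut F) = f := Cfsg.Agent.Lib.FieldAutCard.card_ringAut f.pos hF
      rw [h5]
      exact Nat.dvd_antisymm (orderOf_dvd_of_pow_eq_one hφ2) (hφ3 _ (pow_orderOf_eq_one φ))
    have h6 : Subgroup.zpowers φ = ⊤ := by
      apply Subgroup.eq_top_of_card_eq
      rw [Nat.card_zpowers, hord]
    intro σ
    have h7 : σ ∈ Subgroup.zpowers φ := by rw [h6]; exact Subgroup.mem_top _
    exact mem_powers_iff_mem_zpowers.2 h7
  have hN := TorC_normal hab hG h1 h2 hφ hPf hsurj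
  have hC := TorC_cyclic hab hG h1 h2 hφ hPf hsurj hN
  have hfinO : Finite (Cfsg.Out (P (minusForm m F a b))) := finite_Out
  refine Nielsen.cos2_of_ker ((QuotientGroup.mk' (TorC m a b)).comp
    (QuotientGroup.mk' (Cfsg.Inn (P (minusForm m F a b))))) ?_
  intro x y hx
  have hx' : QuotientGroup.mk' (Cfsg.Inn (P (minusForm m F a b))) x ∈ TorC m a b :=
    (QuotientGroup.eq_one_iff _).1 hx
  obtain ⟨A₀, l₀, hx0⟩ := hx'
  obtain ⟨A, l, hAl, hY⟩ := exists_good_torus hab hG A₀ l₀
  obtain ⟨My, rfl⟩ := hsurj y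
  obtain ⟨B, l₂, j, hMy⟩ := out_dec' hab hG h1 h2 hφ hPf My
  obtain ⟨h1', h2', hP⟩ := Ph_npow (m := m) h1 h2 j
  rw [hP] at hMy
  have hou : out _ (S (minusForm m F a b) (ee a b 0) (kk m (1 : Kx F a b))) = 1 := out_ofO_of_mem (T_mem_E _ _)
  refine lift_of_gen (h := TH A l) (k := S _ (ee a b 0) (kk m (1 : Kx F a b)) * (wC a b m * TH B l₂ * Ph m h1' h2'))
    (hx0.trans hAl) ?_ ?_
  · rw [mk_Psi, map_mul, hou, one_mul]
    exact hMy
  · intro e
    exact (mem_isoM (E_le_O e.2)).1 (gen_core hab hG hY (not_scalar hY) (B := B) (l₂ := l₂) h1' h2'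
      (Subgroup.subset_closure (Set.mem_insert _ _))
      (Subgroup.subset_closure (Set.mem_insert_of_mem _ (Set.mem_singleton _))) e.2)

/-- **`Cos2` for `PΩ⁻_2m(q)`, `m ≥ 4`.** -/
theorem cos2_minus {T : Type*} [Group T] (h : Cfsg.IsPOmegaMinus T) : Cos2 T := by
  obtain ⟨F, _, _, m, a, b, hm, hab, ⟨e⟩⟩ := h
  have hG : Good (minusForm (m - 1) F a b) := good_minus (by omega) a b hab
  have h1 : Cos2 (P (minusForm (m - 1) F a b)) := cos2_P (by omega) hab
  have e1 := pomegaEquiv hG
  rw [coe_minusForm] at e1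
  exact cos2_congr (e.trans e1).symm h1

end Cfsg.Agent.H827.DG.Minus
end

private theorem dce_14e744f47d9f : _root_.True := by
  try have : _root_.True := by simp only [_root_.Cfsg.Agent.H97.DG.tor.eq_1]
  try have : _root_.True := by simp only [_root_.Cfsg.Agent.H179.OutMinus.Ph.congr_simp]
  try have : _root_.True := by simp only [_root_.Cfsg.Agent.H989.OutOrth.Basic.rf.congr_simp]
  try have : _root_.True := by simp only [_root_.Cfsg.Agent.H97.DG.fieldPart.congr_simp]
  try have : _root_.True := by simp only [_root_.Cfsg.Agent.H827.DG.Minus.ff.eq_1]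
  try have : _root_.True := by simp only [_root_.Cfsg.Agent.H827.DG.Minus.kk.eq_1]
  try have : _root_.True := by simp only [_root_.Cfsg.Agent.H827.DG.Minus.h0.eq_1]
  try have : _root_.True := by simp only [_root_.Cfsg.Agent.H827.DG.Minus.h0.congr_simp]
  try have : _root_.True := by simp only [_root_.Cfsg.Agent.H827.DG.Minus.vs.congr_simp]
  try have : _root_.True := by simp only [_root_.Cfsg.Agent.H97.DG.E.eq_1]
  try have : _root_.True := by simp only [_root_.Cfsg.Agent.H97.DG.wcox.eq_1]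
  try have : _root_.True := by simp only [_root_.Cfsg.Agent.H827.DG.Minus.ee.eq_1]
  try have : _root_.True := by simp only [_root_.Cfsg.Agent.H827.DG.Minus.ev.eq_1]
  try have : _root_.True := by simp only [_root_.Cfsg.Agent.H827.DG.Minus.vs.eq_1]
  try have : _root_.True := by simp only [_root_.Cfsg.Agent.H827.DG.Minus.S.eq_1]
  try have : _root_.True := by simp only [_root_.Cfsg.Agent.H97.DG.cc.eq_1]
  exact _root_.True.intro
end

-- part: H38/DG/TwD4Cos_mg
section
prune_inst 0xc1303c4409a2100000000080b10020044c0001921060800188000a400240a3424000094004803112002aa20000010028130800d04040000004000000000400001028120e10400008400000000004000000000000000000000000000000000004000000000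
set_option linter.all false
open scoped Cfsg.Agent.FastGrp

-- part: H38/DG/Twist
section
/-!
# S4180, rows `Cos2`: the torus trick with a twist (helper38)

`T` is a subgroup of a group `L` (matrix group), `σ` an automorphism of `L` (field automorphism) with `σ T = T`.

* `twisted_trick`: the torus trick for a subgroup `M` of `L` which contains `h` and is normalised by `(u w) σ`;
* `lift_of_twist`: an automorphism `ρ` of `T` induced by `σ`; if every subgroup `M ≤ T` with `h ∈ M`, normalised by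
  `u σ`, is all of `T` then `⟨inn h, inn u * ρ⟩` contains `Inn T`.
-/

set_option autoImplicit false

namespace Cfsg.Agent.H38.DG

open Cfsg.Agent.H891.Gen Cfsg.Agent.H891.DG Subgroup

/-- **The torus trick with a twist.** -/
theorem twisted_trick {G : Type*} [Group G] (σ : G ≃* G) (M X : Subgroup G) {h w u : G} (hM : h ∈ M)
    (huw : ∀ g ∈ M, (u * w) * σ g * (u * w)⁻¹ ∈ M) (hu : u ∈ X)
    (hX1 : ∀ x ∈ X, (w * σ h * w⁻¹) * x * (w * σ h * w⁻¹)⁻¹ ∈ X)
    (hX2 : ∀ x ∈ X, (w * σ h * w⁻¹)⁻¹ * x * (w * σ h * w⁻¹) ∈ X)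
    (hirr : ∀ Y : Subgroup G, Y ≤ X → (∀ y ∈ Y, h * y * h⁻¹ ∈ Y) → Y = ⊥ ∨ Y = X)
    (hnt : ∃ x ∈ X, h * x ≠ x * h)
    (hXn : ∀ x ∈ X, h * x * h⁻¹ ∈ X)
    (hcomm : h * (w * σ h * w⁻¹) = (w * σ h * w⁻¹) * h)
    (hne : (w * σ h * w⁻¹) * u ≠ u * (w * σ h * w⁻¹)) :
    X ≤ M ∧ ∀ g ∈ M, w * σ g * w⁻¹ ∈ M := by
  set h₁ := w * σ h * w⁻¹ with hh₁
  -- the centraliser of `h` in `X` is trivial
  have hcent : ∀ x ∈ X, h * x = x * h → x = 1 := by
    rcases hirr (X ⊓ Subgroup.centralizer {h}) inf_le_left (by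
      intro y hy
      have h1 : h * y = y * h := by
        have := Subgroup.mem_centralizer_iff.1 hy.2 h (Set.mem_singleton h)
        exact this
      rwa [h1, mul_inv_cancel_right]) with h1 | h1
    · intro x hx hxh
      have : x ∈ X ⊓ Subgroup.centralizer {h} := by
        refine ⟨hx, Subgroup.mem_centralizer_iff.2 ?_⟩
        rintro _ rfl
        exact hxh
      rw [h1] at this
      exact this
    · exfalso
      obtain ⟨x, hx, hne⟩ := hnt
      rw [← h1] at hx
      exact hne (Subgroup.mem_centralizer_iff.1 hx.2 h (Set.mem_singleton h))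
  -- the element `y = h₁⁻¹ u h₁ u⁻¹`
  set y := h₁⁻¹ * u * h₁ * u⁻¹ with hy
  have hyX : y ∈ X := X.mul_mem (hX2 u hu) (X.inv_mem hu)
  have hy1 : y ≠ 1 := by
    intro h0
    apply hne
    have h2 : h₁⁻¹ * u * h₁ = u := by
      rw [hy, mul_inv_eq_one] at h0; exact h0
    calc h₁ * u = h₁ * (h₁⁻¹ * u * h₁) := by rw [h2]
      _ = u * h₁ := by group
  have hm1 : h₁ * y ∈ M := by
    have h3 : h₁ * y = (u * w) * σ h * (u * w)⁻¹ := by
      rw [hy, hh₁]; group
    rw [h3]
    exact huw h hM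
  -- the commutator of `h` and `h₁ y`
  set z := h₁ * (h * y * h⁻¹ * y⁻¹) * h₁⁻¹ with hz
  have hzX : z ∈ X := by
    have h5 := hX1 _ (X.mul_mem (hXn y hyX) (X.inv_mem hyX))
    rwa [hz]
  have hz1 : z ≠ 1 := by
    intro h0
    apply hy1
    apply hcent y hyX
    rw [hz] at h0
    have h4 : h * y * h⁻¹ * y⁻¹ = 1 := by
      calc h * y * h⁻¹ * y⁻¹ = h₁⁻¹ * (h₁ * (h * y * h⁻¹ * y⁻¹) * h₁⁻¹) * h₁ := by group
        _ = 1 := by rw [h0]; group
    rw [mul_inv_eq_one, mul_inv_eq_iff_eq_mul] at h4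
    exact h4
  have hzM : z ∈ M := by
    have h5 : z = h * (h₁ * y) * h⁻¹ * (h₁ * y)⁻¹ := by
      rw [hz]
      calc h₁ * (h * y * h⁻¹ * y⁻¹) * h₁⁻¹ = (h₁ * h) * y * h⁻¹ * y⁻¹ * h₁⁻¹ := by group
        _ = (h * h₁) * y * h⁻¹ * y⁻¹ * h₁⁻¹ := by rw [hcomm]
        _ = _ := by group
    rw [h5]
    exact M.mul_mem (M.mul_mem (M.mul_mem hM hm1) (M.inv_mem hM)) (M.inv_mem hm1)
  have hXM : X ≤ M := by
    rcases hirr (X ⊓ M) inf_le_left (by
      intro x hx
      exact ⟨hXn x hx.1, M.mul_mem (M.mul_mem hM hx.2) (M.inv_mem hM)⟩) with h6 | h6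
    · exfalso
      apply hz1
      have : z ∈ X ⊓ M := ⟨hzX, hzM⟩
      rw [h6] at this
      exact this
    · rw [← h6]; exact inf_le_right
  refine ⟨hXM, fun g hg => ?_⟩
  have h7 := M.mul_mem (M.mul_mem (M.inv_mem (hXM hu)) (huw g hg)) (hXM hu)
  have e : u⁻¹ * (u * w * σ g * (u * w)⁻¹) * u = w * σ g * w⁻¹ := by group
  rwa [e] at h7

/-- From the matrix group to the automorphism group. -/
theorem lift_of_twist {L : Type*} [Group L] (T : Subgroup L) (σ : L ≃* L) (ρ : MulAut ↥T)
    (hρ : ∀ t : ↥T, ((ρ t : ↥T) : L) = σ t) {h u : L} (hh : h ∈ T) (hu : u ∈ T)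
    (key : ∀ M : Subgroup L, M ≤ T → h ∈ M → (∀ g ∈ T, (g ∈ M ↔ u * σ g * u⁻¹ ∈ M)) → T ≤ M) :
    (MulAut.conj : ↥T →* MulAut ↥T).range ≤
      _root_.Subgroup.closure ({MulAut.conj ⟨h, hh⟩, MulAut.conj ⟨u, hu⟩ * ρ} : Set (MulAut ↥T)) := by
  set C := _root_.Subgroup.closure ({MulAut.conj ⟨h, hh⟩, MulAut.conj ⟨u, hu⟩ * ρ} : Set (MulAut ↥T)) with hC
  have h1 : MulAut.conj ⟨h, hh⟩ ∈ C := _root_.Subgroup.subset_closure (by simp)
  have h2 : MulAut.conj ⟨u, hu⟩ * ρ ∈ C := _root_.Subgroup.subset_closure (by simp only [_root_.Set.mem_insert_iff, _root_.Set.mem_singleton_iff, _root_.or_true])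
  have h3 : T ≤ (C.comap MulAut.conj).map T.subtype := by
    apply key
    · rintro _ ⟨g, -, rfl⟩
      exact g.2
    · exact ⟨⟨h, hh⟩, h1, rfl⟩
    · intro g hg
      have e : MulAut.conj (⟨u, hu⟩ * ρ ⟨g, hg⟩ * (⟨u, hu⟩ : ↥T)⁻¹) =
          (MulAut.conj ⟨u, hu⟩ * ρ) * MulAut.conj ⟨g, hg⟩ * (MulAut.conj ⟨u, hu⟩ * ρ)⁻¹ := by
        rw [map_mul, map_mul, map_inv, mul_inv_rev]
        have e2 : ρ * MulAut.conj ⟨g, hg⟩ * ρ⁻¹ = MulAut.conj (ρ ⟨g, hg⟩) := by
          apply MulEquiv.ext
          intro x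
          rw [MulAut.mul_apply, MulAut.mul_apply, MulAut.conj_apply, MulAut.conj_apply, map_mul, map_mul, map_inv,
            MulAut.apply_inv_self]
        rw [← e2]
        group
      have e3 : u * σ g * u⁻¹ = ((⟨u, hu⟩ * ρ ⟨g, hg⟩ * (⟨u, hu⟩ : ↥T)⁻¹ : ↥T) : L) := by
        rw [Subgroup.coe_mul, Subgroup.coe_mul, hρ, Subgroup.coe_inv]
      constructor
      · rintro ⟨g', hg', hgg⟩
        have : g' = ⟨g, hg⟩ := Subtype.ext hgg
        subst this
        refine ⟨⟨u, hu⟩ * ρ ⟨g, hg⟩ * (⟨u, hu⟩ : ↥T)⁻¹, ?_, e3.symm⟩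
        show MulAut.conj (⟨u, hu⟩ * ρ ⟨g, hg⟩ * (⟨u, hu⟩ : ↥T)⁻¹) ∈ C
        rw [e]
        exact mul_mem (mul_mem h2 hg') (inv_mem h2)
      · rintro ⟨g', hg', hgg⟩
        have : g' = (⟨u, hu⟩ * ρ ⟨g, hg⟩ * (⟨u, hu⟩ : ↥T)⁻¹ : ↥T) := Subtype.ext (by rw [← e3]; exact hgg)
        subst this
        refine ⟨⟨g, hg⟩, ?_, rfl⟩
        show MulAut.conj ⟨g, hg⟩ ∈ C
        have h4 : MulAut.conj (⟨u, hu⟩ * ρ ⟨g, hg⟩ * (⟨u, hu⟩ : ↥T)⁻¹) ∈ C := hg'
        rw [e] at h4
        have h5 := mul_mem (mul_mem (inv_mem h2) h4) h2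
        have e5 : (MulAut.conj ⟨u, hu⟩ * ρ)⁻¹ * ((MulAut.conj ⟨u, hu⟩ * ρ) * MulAut.conj ⟨g, hg⟩ *
            (MulAut.conj ⟨u, hu⟩ * ρ)⁻¹) * (MulAut.conj ⟨u, hu⟩ * ρ) = MulAut.conj ⟨g, hg⟩ := by group
        rwa [e5] at h5
  rintro _ ⟨t, rfl⟩
  obtain ⟨g', hg', hgg⟩ := h3 t.2
  have : g' = t := Subtype.ext hgg
  subst this
  exact hg'

end Cfsg.Agent.H38.DG
end

-- part: H38/DG/TwD4
section
/-!
# S4180, row `Cos2` for `³D₄(q)`: generation with a field automorphism (helper38)

`main_tw`: for every field automorphism `τ` there are `h`, `u` in `T = ³D₄(q)` such that a subgroup of `T` containing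
`h` and normalised by `u τ` is `T`.
-/

set_option autoImplicit false

namespace Cfsg.Agent.H38.DG.TwD4

open Cfsg.Lie
open Cfsg.Agent.ChevalleyStructure.D4Comm Cfsg.Agent.ChevalleyStructure.D4NCheck
open Cfsg.Agent.ChevalleyStructure.D4NConj Cfsg.Agent.ChevalleyStructure.D4RGD
open Cfsg.Agent.ChevalleyStructure.D4Perm Cfsg.Agent.ChevalleyStructure.D4TwN
open Cfsg.Agent.ChevalleyStructure.D4Cols (xU)
open Cfsg.Agent.ChevalleyStructure.D4Fixed (X Y fix mem_fix twisted_le_fix twisted_induction X_mem Y_mem exists_frob)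
open Cfsg.Agent.ChevalleyStructure.D4HConj
open Cfsg.Agent.ChevalleyStructure.D4Perfect
open Cfsg.Agent.ChevalleyStructure.D4U (RS na nb na_RS nb_RS RS_outer_fix phi3)
open Cfsg.Agent.ChevalleyStructure.D4Pos
open Cfsg.Agent.ChevalleyStructure.TwistedU
open Cfsg.Agent.ChevStructure.FieldMap
open Cfsg.Agent.H136 Cfsg.Agent.S2407

variable {K : Type*} [Field K] {φ : K →+* K} {q : ℕ}

/-! ### the action of the field automorphisms -/

section Gl

variable (τ : K ≃+* K)

theorem gl_xG (r : ℕ) (t : K) : glEquiv chevD4 τ (xG r t) = xG r (τ t) := by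
  apply Units.ext
  rw [glEquiv_coe, coe_xG, coe_xG]
  exact x_map chevD4 (τ : K →+* K) r t

theorem gl_nR (r : ℕ) (t : K) : glEquiv chevD4 τ (nR r t) = nR r (τ t) := by
  rw [nR_def, nR_def, map_mul, map_mul, gl_xG, gl_xG, map_neg, map_inv₀]

theorem gl_hR (r : ℕ) (t : K) : glEquiv chevD4 τ (hR r t) = hR r (τ t) := by
  rw [hR_def, hR_def, map_mul, gl_nR, gl_nR, map_neg, map_one]

theorem gl_nG (i : ℕ) : glEquiv chevD4 τ (nG K i) = nG K i := by
  rw [nG_def, gl_nR, map_one]

theorem gl_nA : glEquiv chevD4 τ (nA K) = nA K := by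
  rw [nA_def, map_mul, map_mul, gl_nG, gl_nG, gl_nG]

theorem gl_nB : glEquiv chevD4 τ (nB K) = nB K := by
  rw [nB_def, gl_nG]

theorem gl_vv : glEquiv chevD4 τ (vv K) = vv K := by
  rw [vv, map_mul, gl_nA, gl_nB]

variable {τ} (hτ : ∀ a, τ (φ a) = φ (τ a))

include hτ

theorem gl_X (t : K) : glEquiv chevD4 τ (X φ t) = X φ (τ t) := by
  rw [X_def', X_def', map_mul, map_mul, gl_xG, gl_xG, gl_xG, hτ, hτ, hτ]

theorem gl_Y (t : K) : glEquiv chevD4 τ (Y φ t) = Y φ (τ t) := by
  rw [Y_def', Y_def', map_mul, map_mul, gl_xG, gl_xG, gl_xG, hτ, hτ, hτ]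

theorem gl_hA (c : K) : glEquiv chevD4 τ (hA φ c) = hA φ (τ c) := by
  rw [hA, hA, map_mul, map_mul, gl_hR, gl_hR, gl_hR, hτ, hτ, hτ]

end Gl

theorem main_tw [Fintype K] (hq : IsPrimePow q) (hK : Fintype.card K = q ^ 3) (τ : K ≃+* K) :
    ∃ h u : GL chevD4.Idx K, h ∈ twistedD4 K q ∧ u ∈ twistedD4 K q ∧ ∀ M : Subgroup (GL chevD4.Idx K),
      M ≤ twistedD4 K q → h ∈ M → (∀ g ∈ twistedD4 K q, (g ∈ M ↔ u * glEquiv chevD4 τ g * u⁻¹ ∈ M)) →
        twistedD4 K q ≤ M := by
  obtain ⟨φ, hφ⟩ := exists_frob hq hK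
  have hτ : ∀ a, τ (φ a) = φ (τ a) := fun a => by rw [hφ, hφ, map_pow]
  have hfix := twisted_le_fix hK hφ
  have hq2 : 2 ≤ q := hq.two_le
  have hq3 : 2 ^ 3 ≤ q ^ 3 := Nat.pow_le_pow_left hq2 3
  obtain ⟨c, hc⟩ := IsCyclic.exists_generator (α := Kˣ)
  have hc0 : (c : K) ≠ 0 := c.ne_zero
  have hord : orderOf c = q ^ 3 - 1 := by
    rw [orderOf_eq_card_of_forall_mem_zpowers hc, Nat.card_units, Nat.card_eq_fintype_card, hK]
  have hpow : ∀ n, 0 < n → n < q ^ 3 - 1 → (c : K) ^ n ≠ 1 := by
    intro n h0 hn h1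
    have h2 : c ^ n = 1 := Units.ext (by rw [Units.val_pow_eq_pow_val, h1, Units.val_one])
    have := Nat.le_of_dvd h0 (orderOf_dvd_of_pow_eq_one h2)
    omega
  have hc2 : (c : K) ^ 2 ≠ 1 := hpow 2 (by norm_num) (by omega)
  have hlam0 : φ c * φ (φ c) ≠ c := by
    intro h
    have h1 : φ c * φ (φ c) = (c : K) ^ (q + q ^ 2) := by
      rw [hφ (φ c), hφ c, ← pow_mul, ← pow_add, ← sq]
    have h2 : q ^ 2 + q ^ 2 ≤ q ^ 3 := by nlinarith only [hq2]
    have h3 : q + q < q ^ 2 + q := by nlinarith only [hq3]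
    refine hpow (q + q ^ 2 - 1) (by omega) (by omega) ?_
    apply mul_right_cancel₀ hc0
    rw [one_mul, ← pow_succ, Nat.sub_add_cancel (by omega), ← h1, h]
  set d : K := τ c with hd
  have hd0 : d ≠ 0 := by rw [hd, Ne, map_eq_zero_iff _ τ.injective]; exact hc0
  have hlam : φ d * φ (φ d) ≠ d := by
    intro h
    apply hlam0
    apply τ.injective
    rw [map_mul, hτ, hτ, hτ]
    exact h
  have hvT : vv K ∈ twistedD4 K q := mul_mem (nA_mem_twisted hφ) (nB_mem_twisted hφ)
  have hvN : vv K ∈ chevD4.monomialSubgroup K := mul_mem (nA_mem K) (nB_mem K)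
  have hhD : hA φ (c : K) ∈ chevD4.diagonalSubgroup K := hA_mem_diagonal hc0
  have hhT : hA φ (c : K) ∈ twistedD4 K q := hA_mem hφ _
  have hhD' : hA φ d ∈ chevD4.diagonalSubgroup K := hA_mem_diagonal hd0
  have hhT' : hA φ d ∈ twistedD4 K q := hA_mem hφ _
  refine ⟨hA φ (c : K), X φ 1 * (vv K)⁻¹, hhT, mul_mem (X_mem hφ 1) (inv_mem hvT), ?_⟩
  intro M hMT ha hM
  have hσT : ∀ g ∈ twistedD4 K q, glEquiv chevD4 τ g ∈ twistedD4 K q := fun g hg =>
    Cfsg.Agent.H69.OutTwD4.le_comap τ q hg
  have h1D : (vv K)⁻¹ * hA φ d * (vv K)⁻¹⁻¹ ∈ chevD4.diagonalSubgroup K :=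
    conj_mem_diagonal (inv_mem hvN) hhD'
  have h1T : (vv K)⁻¹ * hA φ d * (vv K)⁻¹⁻¹ ∈ twistedD4 K q :=
    mul_mem (mul_mem (inv_mem hvT) hhT') (inv_mem (inv_mem hvT))
  have eh : glEquiv chevD4 τ (hA φ (c : K)) = hA φ d := gl_hA hτ _
  obtain ⟨hXM, hwM⟩ := twisted_trick (glEquiv chevD4 τ) M (XS φ) (h := hA φ (c : K)) (w := (vv K)⁻¹) (u := X φ 1) ha
    (fun g hg => (hM g (hMT hg)).1 hg)
    ⟨1, rfl⟩ (fun x hx => by rw [eh]; exact conj_XS hK hφ h1D h1T hx)
    (fun x hx => by
      have := conj_XS hK hφ (inv_mem h1D) (inv_mem h1T) hx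
      rw [inv_inv] at this
      rw [eh]
      exact this)
    (irr hc)
    ⟨X φ 1, ⟨1, rfl⟩, fun h => by
      have h2 := hA_conj_X (φ := φ) hc0 1
      rw [h, mul_inv_cancel_right] at h2
      have h3 := X_inj h2
      rw [mul_one] at h3
      exact hc2 h3.symm⟩
    (fun x hx => conj_XS hK hφ hhD hhT hx)
    (by rw [eh]; exact diag_comm hhD h1D)
    (fun h => by
      rw [eh] at h
      have h2 : hA φ d * (vv K * X φ 1 * (vv K)⁻¹) * (hA φ d)⁻¹ = vv K * X φ 1 * (vv K)⁻¹ := by
        have h3 : vv K * ((vv K)⁻¹ * hA φ d * (vv K)⁻¹⁻¹ * X φ 1) * (vv K)⁻¹ =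
            vv K * (X φ 1 * ((vv K)⁻¹ * hA φ d * (vv K)⁻¹⁻¹)) * (vv K)⁻¹ := by rw [h]
        have h4 : vv K * ((vv K)⁻¹ * hA φ d * (vv K)⁻¹⁻¹ * X φ 1) * (vv K)⁻¹ =
            hA φ d * (vv K * X φ 1 * (vv K)⁻¹) := by group
        have h5 : vv K * (X φ 1 * ((vv K)⁻¹ * hA φ d * (vv K)⁻¹⁻¹)) * (vv K)⁻¹ =
            (vv K * X φ 1 * (vv K)⁻¹) * hA φ d := by group
        rw [h4, h5] at h3
        rw [h3, mul_inv_cancel_right]
      rw [vv_X, conj3, hA_conj (by norm_num) hd0, hA_conj (by norm_num) hd0, hA_conj (by norm_num) hd0] at h2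
      have h6 := (three_inj (by decide) (by decide) (by decide) (by decide +kernel) h2).1
      obtain ⟨e1, e2, e3⟩ := cart_vals
      rw [e1, e2, e3, zpow_one, zpow_one, zpow_neg_one, mul_one] at h6
      have hs : ((vsg 18 : ℤ) : K) ≠ 0 := by
        intro h0
        have := congrArg (Int.cast (R := K)) (vsg_sq 18 (by simp))
        rw [Int.cast_mul, h0, mul_zero, Int.cast_one] at this
        exact zero_ne_one this
      have h7 : (d⁻¹ * (φ d * φ (φ d))) * ((vsg 18 : ℤ) : K) = 1 * ((vsg 18 : ℤ) : K) := by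
        rw [one_mul]
        calc (d⁻¹ * (φ d * φ (φ d))) * ((vsg 18 : ℤ) : K)
            = d⁻¹ * (φ d * (φ (φ d) * ((vsg 18 : ℤ) : K))) := by ring
          _ = _ := h6
      have h8 := mul_right_cancel₀ hs h7
      apply hlam
      rw [inv_mul_eq_one₀ hd0] at h8
      exact h8.symm)
  have hX : ∀ t, X φ t ∈ M := fun t => hXM ⟨t, rfl⟩
  have hX1 := hX 1
  -- `v σ⁻¹` normalises `M`
  have hv1 : ∀ g ∈ M, vv K * glEquiv chevD4 τ.symm g * (vv K)⁻¹ ∈ M := by
    intro g hg
    have hgT := hMT hg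
    have hg' : vv K * glEquiv chevD4 τ.symm g * (vv K)⁻¹ ∈ twistedD4 K q :=
      mul_mem (mul_mem hvT (Cfsg.Agent.H69.OutTwD4.le_comap τ.symm q hgT)) (inv_mem hvT)
    rw [hM _ hg', map_mul, map_mul, map_inv, gl_vv]
    have e : glEquiv chevD4 τ (glEquiv chevD4 τ.symm g) = g := (glEquiv chevD4 τ).apply_symm_apply g
    rw [e]
    have e2 : X φ 1 * (vv K)⁻¹ * (vv K * g * (vv K)⁻¹) * (X φ 1 * (vv K)⁻¹)⁻¹ = X φ 1 * g * (X φ 1)⁻¹ := by group
    rw [e2]
    exact mul_mem (mul_mem hX1 hg) (inv_mem hX1)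
  have hv2 : ∀ g ∈ twistedD4 K q, vv K * glEquiv chevD4 τ.symm g * (vv K)⁻¹ ∈ M → g ∈ M := by
    intro g hg hgM
    have h1 := (hM _ (hMT hgM)).1 hgM
    rw [map_mul, map_mul, map_inv, gl_vv] at h1
    have e : glEquiv chevD4 τ (glEquiv chevD4 τ.symm g) = g := (glEquiv chevD4 τ).apply_symm_apply g
    rw [e] at h1
    have e2 : X φ 1 * (vv K)⁻¹ * (vv K * g * (vv K)⁻¹) * (X φ 1 * (vv K)⁻¹)⁻¹ = X φ 1 * g * (X φ 1)⁻¹ := by group
    rw [e2] at h1
    have h2 := mul_mem (mul_mem (inv_mem hX1) h1) hX1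
    have e3 : (X φ 1)⁻¹ * (X φ 1 * g * (X φ 1)⁻¹) * X φ 1 = g := by group
    rwa [e3] at h2
  have hτ' : ∀ a, τ.symm (φ a) = φ (τ.symm a) := fun a => by rw [hφ, hφ, map_pow]
  have hY : ∀ t, Y φ t ∈ M := by
    intro t
    have hs3 : ∀ g ∈ twistedD4 K q, vv K * glEquiv chevD4 τ.symm g * (vv K)⁻¹ ∈ twistedD4 K q := fun g hg =>
      mul_mem (mul_mem hvT (Cfsg.Agent.H69.OutTwD4.le_comap τ.symm q hg)) (inv_mem hvT)
    have hY0 : Y φ t ∈ twistedD4 K q := Y_mem hφ t
    refine hv2 _ hY0 (hv2 _ (hs3 _ hY0) (hv2 _ (hs3 _ (hs3 _ hY0)) (hXM ?_)))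
    simp only [map_mul, map_inv, gl_vv, gl_Y hτ']
    exact Y_conj hK hφ _
  have hnA : nA K ∈ M := by
    have h1 := Cfsg.Agent.ChevalleyStructure.D4H1.n_outer_eq φ 1
    rw [map_one, map_one, wU_nWord_eq (by norm_num), wU_nWord_eq (by norm_num), wU_nWord_eq (by norm_num)] at h1
    have h2 : nA K = nR 18 1 * nR 13 1 * nR 12 (1 : K) := rfl
    rw [h2, ← h1]
    apply Subgroup.list_prod_mem
    intro x hx
    rw [List.mem_map] at hx
    obtain ⟨⟨_ | _, t⟩, _, rfl⟩ := hx
    · exact hY t
    · exact hX t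
  have hnB : ∀ g ∈ M, nB K * glEquiv chevD4 τ.symm g * (nB K)⁻¹ ∈ M := by
    intro g hg
    have := M.mul_mem (M.mul_mem (M.inv_mem hnA) (hv1 g hg)) hnA
    have e : (nA K)⁻¹ * (vv K * glEquiv chevD4 τ.symm g * (vv K)⁻¹) * nA K =
        nB K * glEquiv chevD4 τ.symm g * (nB K)⁻¹ := by
      rw [vv]; group
    rwa [e] at this
  -- long root elements
  have h22 : ∃ ε : K, (ε = 1 ∨ ε = -1) ∧ ∀ t : K, xG 22 (ε * (t + φ t + φ (φ t))) ∈ M := by
    obtain ⟨a1, a2, a3, k1, k2, k3, r1, r2, r3, r4⟩ :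
        ∃ a1 a2 a3 : ℤ, Cfsg.Agent.ChevalleyStructure.D4CommTab.cm 18 17 = some (22, a1) ∧
          Cfsg.Agent.ChevalleyStructure.D4CommTab.cm 13 20 = some (22, a2) ∧
          Cfsg.Agent.ChevalleyStructure.D4CommTab.cm 12 21 = some (22, a3) ∧
          a2 * vsg 13 = a1 * vsg 18 ∧ a3 * vsg 12 = a1 * vsg 18 ∧ a1 * vsg 18 * (a1 * vsg 18) = 1 ∧ True := by
      refine ⟨((Cfsg.Agent.ChevalleyStructure.D4CommTab.cm 18 17).getD (0, 0)).2,
        ((Cfsg.Agent.ChevalleyStructure.D4CommTab.cm 13 20).getD (0, 0)).2,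
        ((Cfsg.Agent.ChevalleyStructure.D4CommTab.cm 12 21).getD (0, 0)).2, ?_, ?_, ?_, ?_, ?_, ?_, trivial⟩ <;>
      decide +kernel
    refine ⟨((a1 * vsg 18 : ℤ) : K), ?_, fun t => ?_⟩
    · have h3 : ((a1 * vsg 18 : ℤ) : K) ^ 2 = 1 := by
        rw [sq, ← Int.cast_mul, r3, Int.cast_one]
      exact Cfsg.Agent.ChevalleyStructure.D4H1.sq_one_cases h3
    · have h3 : X φ 1 * (vv K * X φ t * (vv K)⁻¹) * (X φ 1)⁻¹ * (vv K * X φ t * (vv K)⁻¹)⁻¹ ∈ M := by
        have h4 : vv K * X φ t * (vv K)⁻¹ ∈ M := by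
          have h5 := hv1 _ (hX (τ t))
          rwa [gl_X hτ', RingEquiv.symm_apply_apply] at h5
        exact M.mul_mem (M.mul_mem (M.mul_mem (hX 1) h4) (M.inv_mem (hX 1))) (M.inv_mem h4)
      rw [vv_X, X_def', map_one, map_one] at h3
      rw [comm3 (c_comm2 (by norm_num) (by norm_num) (by norm_num) (by norm_num) (by norm_num) k1 _ _)
        (c_comm2 (by norm_num) (by norm_num) (by norm_num) (by norm_num) (by norm_num) k2 _ _)
        (c_comm2 (by norm_num) (by norm_num) (by norm_num) (by norm_num) (by norm_num) k3 _ _)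
        (c_comm (by norm_num) (by norm_num) (by norm_num) (by norm_num) (by norm_num) (by decide +kernel) _ _)
        (c_comm (by norm_num) (by norm_num) (by norm_num) (by norm_num) (by norm_num) (by decide +kernel) _ _)
        (c_comm (by norm_num) (by norm_num) (by norm_num) (by norm_num) (by norm_num) (by decide +kernel) _ _)
        (c_comm (by norm_num) (by norm_num) (by norm_num) (by norm_num) (by norm_num) (by decide +kernel) _ _)
        (c_comm (by norm_num) (by norm_num) (by norm_num) (by norm_num) (by norm_num) (by decide +kernel) _ _)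
        (c_comm (by norm_num) (by norm_num) (by norm_num) (by norm_num) (by norm_num) (by decide +kernel) _ _)
        (by
          have hcen : ∀ r ∈ [18, 13, 12, 17, 20, 21], ∀ t u : K, xG 22 t * xG r u = (xG r u * xG 22 t :
              GL chevD4.Idx K) := by
            have hd : ∀ r ∈ [18, 13, 12, 17, 20, 21], 12 ≤ r ∧ r < 24 ∧ r ≠ 22 ∧
              Cfsg.Agent.ChevalleyStructure.D4CommTab.cm 22 r = none := by decide +kernel
            intro r hr t u
            obtain ⟨d1, d2, d3, d4⟩ := hd r hr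
            exact c_comm (by norm_num) (by norm_num) d1 d2 d3 d4 t u
          intro g hg
          simp only [Set.mem_insert_iff, Set.mem_singleton_iff] at hg
          rcases hg with rfl | rfl | rfl | rfl | rfl | rfl
          · exact ⟨hcen 18 (by simp) _ _, hcen 18 (by simp) _ _, hcen 18 (by simp) _ _⟩
          · exact ⟨hcen 13 (by simp) _ _, hcen 13 (by simp) _ _, hcen 13 (by simp) _ _⟩
          · exact ⟨hcen 12 (by simp) _ _, hcen 12 (by simp) _ _, hcen 12 (by simp) _ _⟩
          · exact ⟨hcen 17 (by simp) _ _, hcen 17 (by simp) _ _, hcen 17 (by simp) _ _⟩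
          · exact ⟨hcen 20 (by simp) _ _, hcen 20 (by simp) _ _, hcen 20 (by simp) _ _⟩
          · exact ⟨hcen 21 (by simp) _ _, hcen 21 (by simp) _ _, hcen 21 (by simp) _ _⟩)] at h3
      rw [← xG_add, ← xG_add] at h3
      have e : (a1 : K) * (1 * ((vsg 18 : K) * t)) + (a2 : K) * (1 * ((vsg 13 : K) * φ t)) +
          (a3 : K) * (1 * ((vsg 12 : K) * φ (φ t))) = ((a1 * vsg 18 : ℤ) : K) * (t + φ t + φ (φ t)) := by
        have r1' := congrArg (Int.cast (R := K)) r1
        have r2' := congrArg (Int.cast (R := K)) r2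
        push_cast at r1' r2' ⊢
        linear_combination φ t * r1' + φ (φ t) * r2'
      rwa [e] at h3
  obtain ⟨ε, hε, h22⟩ := h22
  have h22' : ∀ v, φ v = v → xG 22 v ∈ M := by
    intro v hv
    obtain ⟨t, ht⟩ := FieldLem.exists_trace hq2 hK φ hφ (phi_sign hε hv)
    have := h22 t
    rwa [ht, _root_.Cfsg.Agent.ChevalleyStructure.D4Perfect.sign_mul_self hε] at this
  have h14 : ∀ v, φ v = v → xG 14 v ∈ M := by
    intro v hv
    obtain ⟨ε', hε', h⟩ := nA_conj_14 K
    have h5 := h22' _ (phi_sign hε' hv)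
    rw [← h] at h5
    have := M.mul_mem (M.mul_mem (M.inv_mem hnA) h5) hnA
    have e : (nA K)⁻¹ * (nA K * xG 14 v * (nA K)⁻¹) * nA K = xG 14 v := by group
    rwa [e] at this
  refine twisted_induction hφ ?_ ?_ hX hY
  · intro t ht
    rw [xU_eq]
    exact h14 t ht
  · intro t ht
    rw [xU_eq]
    obtain ⟨ε', hε', h⟩ := nB_conj_14 K
    have ht' : φ (τ (ε' * t)) = τ (ε' * t) := by
      rw [← hτ, phi_sign hε' ht]
    have h5 := hnB _ (h14 _ ht')
    rw [gl_xG, RingEquiv.symm_apply_apply] at h5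
    rwa [h, _root_.Cfsg.Agent.ChevalleyStructure.D4Perfect.sign_mul_self hε'] at h5

end Cfsg.Agent.H38.DG.TwD4
end

-- part: H38/DG/TwD4Cos
section
/-!
# S4180, row `Cos2` for `³D₄(q)` (helper38)

* `cos2_congr`: `Cos2` is invariant under isomorphisms;
* `aut_eq`: every automorphism of `³D₄(q)` is an inner automorphism times a standard field automorphism;
* `cos2_twD4`: the field `twD4` of `Rows Cos2`.
-/

set_option autoImplicit false
set_option maxHeartbeats 400000

namespace Cfsg.Agent.H38.DG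

open Cfsg.Agent.H891.Gen Cfsg.Agent.H891.DG Subgroup

universe u v

/-- `Cos2` is invariant under isomorphisms. -/
theorem cos2_congr {T : Type u} {T' : Type v} [Group T] [Group T'] (e : T ≃* T') (h : Cos2 T') : Cos2 T := by
  intro x y
  set E : MulAut T ≃* MulAut T' := MulAut.congr e with hE
  have hEr : ∀ z : MulAut T, E z ∈ (MulAut.conj : T' →* MulAut T').range ↔
      z ∈ (MulAut.conj : T →* MulAut T).range := by
    intro z
    constructor
    · rintro ⟨t, ht⟩
      refine ⟨e.symm t, ?_⟩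
      apply E.injective
      rw [← ht]
      apply MulEquiv.ext
      intro a
      simp only [hE, MulAut.congr, _root_.MulEquiv.coe_mk, _root_.Equiv.coe_fn_mk, _root_.MulEquiv.trans_apply, _root_.MulAut.conj_apply, _root_.map_mul, _root_.MulEquiv.apply_symm_apply, _root_.map_inv]
    · rintro ⟨t, rfl⟩
      refine ⟨e t, ?_⟩
      apply MulEquiv.ext
      intro a
      simp only [hE, MulAut.congr, _root_.MulAut.conj_apply, _root_.MulEquiv.coe_mk, _root_.Equiv.coe_fn_mk, _root_.MulEquiv.trans_apply, _root_.map_mul, _root_.MulEquiv.apply_symm_apply, _root_.map_inv]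
  obtain ⟨s, hs, t, ht, hle⟩ := h (E x) (E y)
  obtain ⟨s', rfl⟩ := E.surjective s
  obtain ⟨t', rfl⟩ := E.surjective t
  refine ⟨s', (hEr _).1 hs, t', (hEr _).1 ht, ?_⟩
  intro z hz
  have h1 := hle ((hEr z).2 hz)
  have h2 : (_root_.Subgroup.closure ({x * s', y * t'} : Set (MulAut T))).map E.toMonoidHom =
      _root_.Subgroup.closure ({E x * E s', E y * E t'} : Set (MulAut T')) := by
    rw [MonoidHom.map_closure, Set.image_pair]
    simp only [_root_.MulEquiv.toMonoidHom_eq_coe, _root_.MonoidHom.coe_coe, _root_.map_mul]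
  rw [← h2] at h1
  obtain ⟨z', hz', h3⟩ := h1
  have : z' = z := E.injective h3
  exact this ▸ hz'

end Cfsg.Agent.H38.DG

namespace Cfsg.Agent.H38.DG.TwD4

open CoxeterSystem Cfsg.Agent.ChevalleyStructure.CoxeterGeom Cfsg.Agent.Tits.Roots Cfsg.Agent.Tits.Core
  Cfsg.Agent.Tits.Exchange Cfsg.Agent.Nodes.Reps Cfsg.Agent.Nodes.BNOf Cfsg.Agent.Nodes.StabComb
  Cfsg.Agent.Nodes.Bruhat Cfsg.Agent.Nodes.OppDec Cfsg.Agent.Nodes.RGDTwGen Cfsg.Agent.Nodes.RGDChev
  Cfsg.Agent.Nodes.RGDFold Cfsg.Agent.Nodes.RGDFoldSL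
open Cfsg.Agent.KFacts.RgdOpp Cfsg.Agent.KFacts.RgdAut Cfsg.Agent.KFacts.RgdDiag Cfsg.Agent.KFacts.RgdRigid
  Cfsg.Agent.KFacts.RgdField Cfsg.Agent.KFacts.RgdTau Cfsg.Agent.KFacts.RgdNodes
open Cfsg.Lie Cfsg.Agent.ChevalleyStructure Cfsg.Agent.ChevStructure.FieldMap
open Cfsg.Agent.KFacts.TwDFour.Out
open Cfsg.Agent.Nodes.RGDTwD4 Cfsg.Agent.Nodes.RGDTwNode.D4
open Cfsg.Agent.ParSys.Fam.D4 (hf)
open Cfsg.Agent.CpAut.RgdTwStd
open Cfsg.Agent.H69.OutCount Cfsg.Agent.H69.OutTwD4
open Cfsg.Agent.H891.Gen Cfsg.Agent.H891.DG Cfsg.Agent.H891.DG.Nielsen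

universe u

variable {K : Type u} [Field K] [Fintype K] {q : ℕ}

omit [Fintype K] in
theorem st_mul (τ τ' : K ≃+* K) : st q (τ * τ') = st q τ * st q τ' := by
  apply MulEquiv.ext
  intro g
  apply Subtype.ext
  show glEquiv chevD4 (τ * τ') (g : GL chevD4.Idx K) = glEquiv chevD4 τ (glEquiv chevD4 τ' g)
  rw [glE_mul]

omit [Fintype K] in
theorem st_one : st q (1 : K ≃+* K) = 1 := by
  apply MulEquiv.ext
  intro g
  apply Subtype.ext
  show glEquiv chevD4 (1 : K ≃+* K) (g : GL chevD4.Idx K) = g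
  rw [glE_one]

/-- **The automorphisms of `³D₄(q)`.** -/
theorem aut_eq (hq : IsPrimePow q) (hK : Fintype.card K = q ^ 3) (p : ℕ) [Fact p.Prime] [CharP K p]
    (β : MulAut ↥(twistedD4 K q)) : ∃ (g : ↥(twistedD4 K q)) (τ : K ≃+* K), β = MulAut.conj g * st q τ := by
  obtain ⟨φ, hφ⟩ := D4Fixed.exists_frob hq hK
  let cs : CoxeterSystem CoxeterMatrix.G₂ CoxeterMatrix.G₂.Group := CoxeterMatrix.G₂.toCoxeterSystem
  have hfin : Finite CoxeterMatrix.G₂.Group := finiteW cs
  have R := Cfsg.Agent.Nodes.RGDTwD4.rgd cs hK hφ p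
  have hG1 : RGD.Sup (X φ q) {x | IsRoot cs isCartan x} = ⊤ := _root_.Cfsg.Agent.Nodes.RGDTwD4.G1_eq_top cs hK hφ
  have hT := card_T hq hK
  -- the kernel
  have h2 : Nat.card {β : MulAut ↥(twistedD4 K q) // DTau hφ hK β 1} ≤ Nat.card ↥(T K q) := by
    refine le_trans (card_scalar_le R hG1 (coordD hφ hK) (Q := fun β => DTau hφ hK β 1) fun β S => ⟨S.diag, fun i => ?_⟩) ?_
    · have hS : NTau (T K q) (X φ q) (chD hφ hK) β 1 := ⟨S.diag, fun i t ht => Subtype.ext (S.char i t ht)⟩
      obtain ⟨c, hc, e⟩ := NTau.semi (coordD hφ hK) hS i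
      exact ⟨c, hc, fun a => e a⟩
    · rw [hT, Fin.prod_univ_two, mul_comm]
      have e1 : Nat.card (KD φ 1) = q ^ 3 := by
        rw [F3_eq_top hK hφ, ← hK, ← Nat.card_eq_fintype_card]
        exact Nat.card_congr Subfield.topEquiv.toEquiv
      have e0 : Nat.card (KD φ 0) - 1 = q - 1 := by
        rw [← D4H1.card_fixed hq.one_lt hK hφ, ← Nat.card_units]
        have key : ∀ b : (KD φ 0), φ (b : K) = b := fun b => (mem_Fx.1 b.2)
        refine Nat.card_congr
          { toFun := fun b => ⟨Units.map (KD φ 0).subtype.toMonoidHom b, key b⟩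
            invFun := fun b => Units.mk0 ⟨(b.1 : K), mem_Fx.2 b.2⟩ (fun h => b.1.ne_zero (congrArg Subtype.val h))
            left_inv := fun b => Units.ext rfl
            right_inv := fun b => Subtype.ext (Units.ext rfl) }
      rw [e0, e1]
  have hinj : Function.Injective (fun t : ↥(T K q) =>
      (⟨MulAut.conj t.1, dtau_conj hφ hK cs p t.2⟩ : {β : MulAut ↥(twistedD4 K q) // DTau hφ hK β 1})) := by
    intro s t hst
    have h4 : MulAut.conj s.1 = MulAut.conj t.1 := congrArg Subtype.val hst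
    apply Subtype.ext
    have h5 : s.1⁻¹ * t.1 ∈ Subgroup.center ↥(twistedD4 K q) := by
      rw [Subgroup.mem_center_iff]
      intro y
      have h6 := DFunLike.congr_fun h4 y
      rw [MulAut.conj_apply, MulAut.conj_apply] at h6
      have h7 : y * (s.1⁻¹ * t.1) = s.1⁻¹ * (s.1 * y * s.1⁻¹) * t.1 := by group
      rw [h7, h6]; group
    rw [center_eq_bot hq hK, Subgroup.mem_bot] at h5
    exact inv_mul_eq_one.1 h5
  have : Finite (MulAut ↥(twistedD4 K q)) :=
    Finite.of_injective (fun f : MulAut ↥(twistedD4 K q) => (f : ↥(twistedD4 K q) → ↥(twistedD4 K q)))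
      DFunLike.coe_injective
  have hsurj : Function.Surjective (fun t : ↥(T K q) =>
      (⟨MulAut.conj t.1, dtau_conj hφ hK cs p t.2⟩ : {β : MulAut ↥(twistedD4 K q) // DTau hφ hK β 1})) := by
    have h3 : Nat.card {β : MulAut ↥(twistedD4 K q) // DTau hφ hK β 1} = Nat.card ↥(T K q) :=
      le_antisymm h2 (Nat.card_le_card_of_injective _ hinj)
    exact ((Nat.bijective_iff_injective_and_card _).2 ⟨hinj, h3.symm⟩).2
  obtain ⟨g, σ, D⟩ := exists_diag_conj R hG1 β
  have hσ : σ = 1 := by
    apply perm_G2 σ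
    intro h3
    have h4 := Diag.card_eq D 0
    rw [h3] at h4
    exact card_ne hφ hK hq.one_lt h4
  subst hσ
  obtain ⟨τ, S⟩ := exists_dtau hφ hK cs p D
  have S2 := (dtau_st hφ hK τ⁻¹ cs p).mul hφ hK S
  rw [inv_mul_cancel] at S2
  obtain ⟨t, ht⟩ := hsurj ⟨_, S2⟩
  have ht' : MulAut.conj t.1 = st q τ⁻¹ * (MulAut.conj g * β) := congrArg Subtype.val ht
  refine ⟨g⁻¹ * st q τ t.1, τ, ?_⟩
  have e1 : st q τ * st q τ⁻¹ = 1 := by rw [← st_mul, mul_inv_cancel, st_one]
  have e2 : MulAut.conj g * β = st q τ * MulAut.conj t.1 := by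
    rw [ht', ← mul_assoc, e1, one_mul]
  have e3 : st q τ * MulAut.conj t.1 = MulAut.conj (st q τ t.1) * st q τ := by
    apply MulEquiv.ext
    intro x
    rw [MulAut.mul_apply, MulAut.mul_apply, MulAut.conj_apply, MulAut.conj_apply, map_mul, map_mul, map_inv]
  rw [map_mul, map_inv, mul_assoc, ← e3, ← e2, inv_mul_cancel_left]

/-- `Cos2` for `³D₄(q)`. -/
theorem cos2_tw (hq : IsPrimePow q) (hK : Fintype.card K = q ^ 3) : Cos2 ↥(twistedD4 K q) := by
  obtain ⟨p, hp⟩ := CharP.exists K
  have : Fact p.Prime := ⟨(CharP.char_is_prime_or_zero K p).resolve_right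
    (CharP.char_ne_zero_of_finite K p)⟩
  have hN := inn_normal ↥(twistedD4 K q)
  -- the outer automorphism group is cyclic
  let Q := MulAut ↥(twistedD4 K q) ⧸ (MulAut.conj : ↥(twistedD4 K q) →* MulAut ↥(twistedD4 K q)).range
  let f : (K ≃+* K) →* Q := MonoidHom.mk' (fun τ => QuotientGroup.mk' _ (st q τ)) (fun a b => by
    rw [st_mul, map_mul])
  have hf : Function.Surjective f := by
    intro z
    obtain ⟨β, rfl⟩ := QuotientGroup.mk'_surjective _ z
    obtain ⟨g, τ, rfl⟩ := aut_eq hq hK p β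
    refine ⟨τ, ?_⟩
    rw [map_mul]
    have h1 : QuotientGroup.mk' (MulAut.conj : ↥(twistedD4 K q) →* MulAut ↥(twistedD4 K q)).range
        (MulAut.conj g) = 1 := (QuotientGroup.eq_one_iff _).2 ⟨g, rfl⟩
    rw [h1, one_mul]
    rfl
  have hcyc : IsCyclic (K ≃+* K) := Cfsg.Agent.H230.GenPsl.isCyclic_ringAut K
  have hQ : IsCyclic Q := isCyclic_of_surjective f hf
  have : Finite (K ≃+* K) := Finite.of_injective (fun f : K ≃+* K => (f : K → K)) DFunLike.coe_injective
  have hQf : Finite Q := Finite.of_surjective f hf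
  refine cos2_of_ker (QuotientGroup.mk' (MulAut.conj : ↥(twistedD4 K q) →* MulAut ↥(twistedD4 K q)).range) ?_
  intro x y hx
  have hx' : x ∈ (MulAut.conj : ↥(twistedD4 K q) →* MulAut ↥(twistedD4 K q)).range :=
    (QuotientGroup.eq_one_iff _).1 hx
  obtain ⟨g, τ, rfl⟩ := aut_eq hq hK p y
  obtain ⟨h, u, hh, hu, key⟩ := main_tw hq hK τ
  have h1 := lift_of_twist (twistedD4 K q) (glEquiv chevD4 τ) (st q τ) (fun t => rfl) hh hu key
  refine Lift.congr (x := 1) (y := st q τ) (by rw [mul_one]; exact inv_mem hx') ?_ ?_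
  · have e : (MulAut.conj g * st q τ)⁻¹ * st q τ = (st q τ)⁻¹ * MulAut.conj g⁻¹ * (st q τ)⁻¹⁻¹ := by
      rw [mul_inv_rev, map_inv, inv_inv]
    rw [e]
    exact hN.conj_mem _ ⟨_, rfl⟩ _
  · refine ⟨MulAut.conj ⟨h, hh⟩, ⟨_, rfl⟩, (st q τ)⁻¹ * MulAut.conj ⟨u, hu⟩ * (st q τ)⁻¹⁻¹,
      hN.conj_mem _ ⟨_, rfl⟩ _, ?_⟩
    rw [one_mul]
    have e : st q τ * ((st q τ)⁻¹ * MulAut.conj ⟨u, hu⟩ * (st q τ)⁻¹⁻¹) = MulAut.conj ⟨u, hu⟩ * st q τ := by group
    rw [e]
    exact h1

/-- The field `twD4` of `Rows Cos2`. -/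
theorem cos2_twD4 (T : Type u) [Group T] [Finite T] [IsSimpleGroup T] (h : Iso3D4 T) : Cos2 T := by
  obtain ⟨K, _, _, q, hq, hK, ⟨e⟩⟩ := h
  exact cos2_congr e (cos2_tw hq hK)

end Cfsg.Agent.H38.DG.TwD4
end

-- part: H42/Cos/TitsGen
section
/-!
# Generation of the Tits group by pairs of elements of `²F₄(2)` (helper42)

`s = Z₇ Z₀ Z₄` (in the Tits group) and `h = y 7` (not in the Tits group) generate a subgroup of `²F₄(2)` which contains
the eight involutions `Z i` of an apartment.
-/

set_option autoImplicit false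
set_option maxRecDepth 100000

namespace Cfsg.Agent.H42.Cos.TitsGen

open Cfsg.Agent.ChevalleyStructure.Tits.Pack Cfsg.Agent.ChevalleyStructure.Tits.Data
  Cfsg.Agent.ChevalleyStructure.Tits.Sat Cfsg.Agent.ChevalleyStructure.Tits.Final
  Cfsg.Agent.ChevalleyStructure.Tits.Mat Cfsg.Agent.ChevalleyStructure.Tits.Order
  Cfsg.Agent.ChevalleyStructure.Tits.Main Cfsg.Agent.Omega.TitsIso.TitsSideRel
  Cfsg.Agent.Omega.TitsIso.TitsSide

/-- the letters `s`, `s⁻¹`, `h`, `h⁻¹` -/
def al : List (List ℕ) := [zz [7, 0, 4], zz [4, 0, 7], [7], [7, 7, 7]]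

/-- words of the eight involutions in `s, s⁻¹, h, h⁻¹` -/
def wl : List (List ℕ) := [
  [3, 0, 2, 1, 2, 0, 2, 1, 2, 2],
  [1, 1, 2, 1, 1, 2, 1, 2, 2, 0, 3, 0, 0, 3, 0, 0],
  [1, 3, 3, 0, 2, 1, 2, 0, 2, 1, 3, 0],
  [2, 2],
  [1, 3, 3, 0, 3, 3, 1, 2, 2, 0, 2, 2, 1, 2, 2],
  [1, 1, 3, 1, 3, 0, 2, 2, 1, 2, 0, 2, 0, 0],
  [2, 1, 2, 0, 3, 0, 0, 2, 2, 1, 1, 2, 1, 3, 0, 3],
  [3, 0, 3, 1, 2, 2, 0, 2, 1, 2]]

/-- the word of `Z i` -/
def w (i : ZMod 8) : List ℕ := (wl.getD i.val []).flatMap fun k => al.getD k []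

theorem chk_w : ∀ i : ZMod 8, chk (w i, zw i) = true := by decide +kernel

theorem chk_s : chk (zz [4, 0, 7] ++ zz [7, 0, 4], []) = true := by decide +kernel

theorem chk_h : chk ([7, 7, 7] ++ [7], []) = true := by decide +kernel

theorem w_lt : ∀ i : ZMod 8, ∀ k ∈ w i, k < 10 := by decide +kernel

theorem wl_lt : ∀ i : ZMod 8, ∀ k ∈ wl.getD i.val [], k < 4 := by decide +kernel

/-- `s` -/
noncomputable def s : ChevalleyStructure.Tits.Order.H0 := ((zz [7, 0, 4]).map yH).prod

/-- `h` -/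
noncomputable def h : ChevalleyStructure.Tits.Order.H0 := yH 7

theorem s_mem : s ∈ commutator ChevalleyStructure.Tits.Order.H0 := by
  unfold s
  rw [prod_zz]
  apply Subgroup.list_prod_mem
  intro x hx
  rw [List.mem_map] at hx
  obtain ⟨i, _, rfl⟩ := hx
  exact ZH_mem_comm i

theorem h_not_mem : h ∉ commutator ChevalleyStructure.Tits.Order.H0 := by
  intro hh
  have : Finite ChevalleyStructure.Tits.Order.H0 :=
    Nat.finite_of_card_ne_zero (by rw [card_H0]; norm_num)
  obtain ⟨χ, hχ⟩ := exists_sign Sat_yH gen_yH card_H0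
  have h1 : χ h = 1 := by
    have h2 := Abelianization.commutator_subset_ker χ hh
    exact h2
  rw [h, hχ] at h1
  exact absurd h1 (by decide)

theorem al_mem (k : ℕ) (hk : k < 4) :
    ((al.getD k []).map yH).prod ∈ Subgroup.closure ({s, h} : Set ChevalleyStructure.Tits.Order.H0) := by
  have hs : s ∈ Subgroup.closure ({s, h} : Set ChevalleyStructure.Tits.Order.H0) := Subgroup.subset_closure (Or.inl rfl)
  have hh : h ∈ Subgroup.closure ({s, h} : Set ChevalleyStructure.Tits.Order.H0) := Subgroup.subset_closure (Or.inr rfl)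
  have h4 : k = 0 ∨ k = 1 ∨ k = 2 ∨ k = 3 := by omega
  rcases h4 with rfl | rfl | rfl | rfl
  · exact hs
  · have h1 := rel_H chk_s (by decide) (by decide)
    rw [List.map_append, List.prod_append, List.map_nil, List.prod_nil] at h1
    have h2 : ((zz [4, 0, 7]).map yH).prod = s⁻¹ := eq_inv_of_mul_eq_one_left h1
    show ((zz [4, 0, 7]).map yH).prod ∈ _
    rw [h2]
    exact inv_mem hs
  · show ([7].map yH).prod ∈ _
    rw [List.map_singleton, List.prod_singleton]
    exact hh
  · have h1 := rel_H chk_h (by decide) (by decide)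
    rw [List.map_append, List.prod_append, List.map_nil, List.prod_nil] at h1
    have h2 : (([7, 7, 7] : List ℕ).map yH).prod = h⁻¹ := eq_inv_of_mul_eq_one_left (by simpa only [h, _root_.List.map_cons, _root_.List.map_nil, _root_.List.prod_cons, _root_.List.prod_nil, _root_.mul_one] using h1)
    show (([7, 7, 7] : List ℕ).map yH).prod ∈ _
    rw [h2]
    exact inv_mem hh

theorem flat_mem (l : List ℕ) (hl : ∀ k ∈ l, k < 4) :
    ((l.flatMap fun k => al.getD k []).map yH).prod ∈
      Subgroup.closure ({s, h} : Set ChevalleyStructure.Tits.Order.H0) := by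
  induction l with
  | nil => exact one_mem _
  | cons a l ih =>
    rw [List.flatMap_cons, List.map_append, List.prod_append]
    exact mul_mem (al_mem a (hl a List.mem_cons_self)) (ih fun k hk => hl k (List.mem_cons_of_mem _ hk))

theorem ZH_mem_closure (i : ZMod 8) : ZH i ∈ Subgroup.closure ({s, h} : Set ChevalleyStructure.Tits.Order.H0) := by
  have h1 := rel_H (chk_w i) (w_lt i) (zw_lt i)
  have h2 : ZH i = ((w i).map yH).prod := h1.symm
  rw [h2]
  exact flat_mem _ (wl_lt i)

theorem comm_eq : commutator ChevalleyStructure.Tits.Order.H0 = Subgroup.closure (Set.range ZH) := by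
  have h1 := congrArg (Subgroup.map (commutator ChevalleyStructure.Tits.Order.H0).subtype) closure_ZC
  rw [MonoidHom.map_closure, ← MonoidHom.range_eq_map, Subgroup.range_subtype, ← Set.range_comp] at h1
  exact h1.symm

theorem comm_le : commutator ChevalleyStructure.Tits.Order.H0 ≤ Subgroup.closure ({s, h} : Set _) := by
  rw [comm_eq, Subgroup.closure_le]
  rintro _ ⟨i, rfl⟩
  exact ZH_mem_closure i

end Cfsg.Agent.H42.Cos.TitsGen
end

-- part: H42/Cos/Nielsen
section
/-!
# Nielsen moves for `Lift` (helper42)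
-/

set_option autoImplicit false

namespace Cfsg.Agent.H42.Cos

open Cfsg.Agent.H891.Gen Subgroup

universe u

variable {A : Type u} [Group A]

theorem lift_of_closure {N : Subgroup A} {x y x' y' : A} (hx : x⁻¹ * x' ∈ N) (hy : y⁻¹ * y' ∈ N)
    (h : N ≤ _root_.Subgroup.closure ({x', y'} : Set A)) : Lift N x y :=
  ⟨x⁻¹ * x', hx, y⁻¹ * y', hy, by rwa [mul_inv_cancel_left, mul_inv_cancel_left]⟩

/-- replace `y` by `x⁻¹ y` -/
theorem lift_of_inv_mul {N : Subgroup A} [hN : N.Normal] {x y : A} (h : Lift N x (x⁻¹ * y)) : Lift N x y := by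
  obtain ⟨s, hs, t, ht, h⟩ := h
  refine lift_of_closure (x' := x * s) (y' := (x * s) * (x⁻¹ * y * t)) (by rwa [inv_mul_cancel_left]) ?_ ?_
  · have e : y⁻¹ * ((x * s) * (x⁻¹ * y * t)) = ((x⁻¹ * y)⁻¹ * s * (x⁻¹ * y)) * t := by group
    rw [e]
    refine N.mul_mem ?_ ht
    have := hN.conj_mem s hs (x⁻¹ * y)⁻¹
    rwa [inv_inv] at this
  · refine h.trans ?_
    rw [closure_le]
    have h1 : x * s ∈ _root_.Subgroup.closure ({x * s, (x * s) * (x⁻¹ * y * t)} : Set A) := _root_.Subgroup.subset_closure (by simp only [_root_.Set.mem_insert_iff, _root_.Set.mem_singleton_iff, _root_.left_eq_mul, _root_.true_or])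
    have h2 : (x * s) * (x⁻¹ * y * t) ∈ _root_.Subgroup.closure ({x * s, (x * s) * (x⁻¹ * y * t)} : Set A) :=
      _root_.Subgroup.subset_closure (by simp only [_root_.Set.mem_insert_iff, _root_.mul_eq_left, _root_.Set.mem_singleton_iff, _root_.or_true])
    rintro z (rfl | hz)
    · exact h1
    · rw [Set.mem_singleton_iff] at hz
      subst hz
      have h3 := mul_mem (inv_mem h1) h2
      rwa [inv_mul_cancel_left] at h3

/-- if `A / N` is cyclic it is enough to treat the pairs with `x ∈ N`. -/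
theorem lift_of_cyclic [Finite A] (N : Subgroup A) [hN : N.Normal] [hc : IsCyclic (A ⧸ N)]
    (h : ∀ x ∈ N, ∀ y, Lift N x y) (x y : A) : Lift N x y := by
  obtain ⟨c, hc⟩ := hc.exists_generator
  have hex : ∀ z : A, ∃ a : ℕ, (QuotientGroup.mk z : A ⧸ N) = c ^ a := by
    intro z
    obtain ⟨a, ha⟩ := mem_powers_iff_mem_zpowers.2 (hc (QuotientGroup.mk z))
    exact ⟨a, ha.symm⟩
  have key : ∀ (k a b : ℕ), a + b ≤ k → ∀ x y : A, (QuotientGroup.mk x : A ⧸ N) = c ^ a →
      (QuotientGroup.mk y : A ⧸ N) = c ^ b → Lift N x y := by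
    intro k
    induction k with
    | zero =>
      intro a b hab x y hx hy
      have ha : a = 0 := by omega
      rw [ha, pow_zero, QuotientGroup.eq_one_iff] at hx
      exact h x hx y
    | succ k ih =>
      intro a b hab x y hx hy
      by_cases ha : a = 0
      · rw [ha, pow_zero, QuotientGroup.eq_one_iff] at hx
        exact h x hx y
      by_cases hb : b = 0
      · rw [hb, pow_zero, QuotientGroup.eq_one_iff] at hy
        exact (h y hy x).symm
      rcases Nat.le_total a b with hle | hle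
      · apply lift_of_inv_mul
        refine ih a (b - a) (by omega) x _ hx ?_
        rw [QuotientGroup.mk_mul, QuotientGroup.mk_inv, hx, hy, inv_mul_eq_iff_eq_mul, ← pow_add]
        congr 1
        omega
      · apply Lift.symm
        apply lift_of_inv_mul
        apply Lift.symm
        refine ih (a - b) b (by omega) _ y ?_ hy
        rw [QuotientGroup.mk_mul, QuotientGroup.mk_inv, hx, hy, inv_mul_eq_iff_eq_mul, ← pow_add]
        congr 1
        omega
  obtain ⟨a, ha⟩ := hex x
  obtain ⟨b, hb⟩ := hex y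
  exact key (a + b) a b le_rfl x y ha hb

end Cfsg.Agent.H42.Cos
end

-- part: H42/Cos/TwF4
section
/-!
# `Cos2` for the large Ree groups (helper42)
-/

set_option autoImplicit false

namespace Cfsg.Agent.H42.Cos

open Cfsg.Agent.H891.Gen Cfsg.Agent.H891.DG Cfsg.Agent.KFacts.TwF4 Subgroup

section abstract

variable {F : Type*} [Field F] [CharP F 2] [Finite F] {σ : F →+* F} {G : Type*} [Group G] (S : Sys σ G)

/-- the generation argument with a field automorphism -/
theorem mem_of' (hσ : ∀ x, σ (σ x) = x ^ 2) {Γ : Type*} [Group Γ] (ι : G →* Γ) {w : Γ} {h : G} {τ : F ≃+* F}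
    (hτ : ∀ x, τ (σ x) = σ (τ x))
    (hw : ∀ a p u, w * ι (S.e a p u) * w⁻¹ = ι (S.e (a + 1) (τ p) (τ u))) {c d : Fˣ}
    (he : ∀ a p u, h * S.e a p u * h⁻¹ = S.e a ((chE σ a c d : F) * p) ((chE σ a c d : F) * σ (chE σ a c d : F) * u))
    (hc : c ≠ 1) (hd1 : d ≠ 1) (hd : ∀ x : Fˣ, x ∈ Subgroup.zpowers d)
    (hcomm : ι h * (w * ι h * w⁻¹) = (w * ι h * w⁻¹) * ι h)
    {M : Subgroup Γ} (hM : ι h ∈ M) (huw : ι (S.e 1 1 0) * w ∈ M) :
    (∀ a p u, ι (S.e a p u) ∈ M) ∧ ∀ a t, ι (S.o a t) ∈ M := by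
  set h₁ := w * ι h * w⁻¹ with hh₁
  set u := ι (S.e 1 1 0) with hu
  set c' : F := τ (c : F) with hc'
  have hc0 : c' ≠ 0 := by
    rw [hc', Ne, map_eq_zero_iff τ τ.injective]
    exact c.ne_zero
  have h1e : ∀ p v, h₁ * ι (S.e 1 p v) * h₁⁻¹ = ι (S.e 1 (c' * p) (c' * σ c' * v)) := by
    intro p v
    have e0 : ι (S.e 1 p v) = w * ι (S.e 0 (τ.symm p) (τ.symm v)) * w⁻¹ := by
      rw [hw, zero_add, τ.apply_symm_apply, τ.apply_symm_apply]
    have e1 : h₁ * ι (S.e 1 p v) * h₁⁻¹ = w * ι (h * S.e 0 (τ.symm p) (τ.symm v) * h⁻¹) * w⁻¹ := by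
      rw [e0, hh₁, map_mul, map_mul, map_inv]; group
    rw [e1, he, hw, chE_zero, zero_add, map_mul, map_mul, map_mul, τ.apply_symm_apply, τ.apply_symm_apply, hτ]
  have h2e : ∀ p v, h₁⁻¹ * ι (S.e 1 p v) * h₁ = ι (S.e 1 (c'⁻¹ * p) (c'⁻¹ * σ c'⁻¹ * v)) := by
    intro p v
    have hσc : σ c' ≠ 0 := (map_ne_zero σ).2 hc0
    have e1 := h1e (c'⁻¹ * p) (c'⁻¹ * σ c'⁻¹ * v)
    have e2 : c' * (c'⁻¹ * p) = p := by rw [mul_inv_cancel_left₀ hc0]
    have e3 : c' * σ c' * (c'⁻¹ * σ c'⁻¹ * v) = v := by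
      rw [map_inv₀]; field_simp
    rw [e2, e3] at e1
    rw [← e1]; group
  have he1 : ∀ p v, h * S.e 1 p v * h⁻¹ = S.e 1 ((d : F) * p) ((d : F) * σ (d : F) * v) := by
    intro p v
    rw [he, chE_one]
  have he1' : ∀ p v, ι h * ι (S.e 1 p v) * (ι h)⁻¹ = ι (S.e 1 ((d : F) * p) ((d : F) * σ (d : F) * v)) := by
    intro p v
    rw [← he1, map_mul, map_mul, map_inv]
  -- `y = h₁⁻¹ u h₁ u⁻¹`
  set y := h₁⁻¹ * u * h₁ * u⁻¹ with hy
  obtain ⟨v1, hv1⟩ : ∃ v1, y = ι (S.e 1 (c'⁻¹ + 1) v1) := by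
    rw [hy, hu, h2e, ← map_inv ι, H136.TwFour.e_inv, ← map_mul, S.e_mul, mul_one]
    exact ⟨_, rfl⟩
  have hm1 : h₁ * y ∈ M := by
    have h3 : h₁ * y = (u * w) * ι h * (u * w)⁻¹ := by
      rw [hy, hh₁]; group
    rw [h3]
    exact M.mul_mem (M.mul_mem huw hM) (M.inv_mem huw)
  obtain ⟨v2, hv2⟩ : ∃ v2, ι h * y * (ι h)⁻¹ * y⁻¹ = ι (S.e 1 (((d : F) + 1) * (c'⁻¹ + 1)) v2) := by
    rw [hv1, he1', ← map_inv ι, H136.TwFour.e_inv, ← map_mul, S.e_mul]
    have e3 : (d : F) * (c'⁻¹ + 1) + (c'⁻¹ + 1) = ((d : F) + 1) * (c'⁻¹ + 1) := by ring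
    rw [e3]
    exact ⟨_, rfl⟩
  obtain ⟨v3, hv3⟩ : ∃ v3, h₁ * (ι h * y * (ι h)⁻¹ * y⁻¹) * h₁⁻¹ =
      ι (S.e 1 (c' * (((d : F) + 1) * (c'⁻¹ + 1))) v3) := by
    rw [hv2, h1e]
    exact ⟨_, rfl⟩
  have hzM : h₁ * (ι h * y * (ι h)⁻¹ * y⁻¹) * h₁⁻¹ ∈ M := by
    have h5 : h₁ * (ι h * y * (ι h)⁻¹ * y⁻¹) * h₁⁻¹ = ι h * (h₁ * y) * (ι h)⁻¹ * (h₁ * y)⁻¹ := by
      calc h₁ * (ι h * y * (ι h)⁻¹ * y⁻¹) * h₁⁻¹ = (h₁ * ι h) * y * (ι h)⁻¹ * y⁻¹ * h₁⁻¹ := by group
        _ = (ι h * h₁) * y * (ι h)⁻¹ * y⁻¹ * h₁⁻¹ := by rw [hcomm]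
        _ = _ := by group
    rw [h5]
    exact M.mul_mem (M.mul_mem (M.mul_mem hM hm1) (M.inv_mem hM)) (M.inv_mem hm1)
  rw [hv3] at hzM
  have hadd : ∀ x : F, x + 1 = 0 → x = 1 := by
    intro x hx
    have h1 := CharTwo.add_self_eq_zero (1 : F)
    linear_combination hx - h1
  have hne : c' * (((d : F) + 1) * (c'⁻¹ + 1)) ≠ 0 := by
    refine mul_ne_zero hc0 (mul_ne_zero ?_ ?_)
    · intro h0
      exact hd1 (Units.ext (hadd _ h0))
    · intro h0
      have := inv_eq_one.1 (hadd _ h0)
      rw [hc', map_eq_one_iff τ τ.injective] at this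
      exact hc (Units.ext this)
  have hX : ∀ p v, S.e 1 p v ∈ M.comap ι :=
    H136.TwFour.all_e S hσ he1 hd (M := M.comap ι) hM hne hzM
  have hwM : w ∈ M := by
    have h7 := M.mul_mem (M.inv_mem (hX 1 0)) huw
    rwa [hu, inv_mul_cancel_left] at h7
  have hE : ∀ a p v, ι (S.e a p v) ∈ M := by
    intro a
    refine Sys.ind8 (P := fun a => ∀ p v, ι (S.e a p v) ∈ M) 1 hX ?_ a
    intro a ih p v
    have h8 := hw a (τ.symm p) (τ.symm v)
    rw [τ.apply_symm_apply, τ.apply_symm_apply] at h8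
    rw [← h8]
    exact M.mul_mem (M.mul_mem hwM (ih _ _)) (M.inv_mem hwM)
  refine ⟨hE, ?_⟩
  intro a t
  have h8 := S.e_e1 a t 0 1 0
  rw [mul_one] at h8
  have h9 : S.o a t = (S.e (a + 1) 1 0 * S.e a t 0)⁻¹ * (S.e a t 0 * S.e (a + 1) 1 0) := by
    rw [h8]; group
  rw [h9]
  have h10 : S.e (a + 1) 1 0 ∈ M.comap ι := hE _ _ _
  have h11 : S.e a t 0 ∈ M.comap ι := hE _ _ _
  exact (M.comap ι).mul_mem ((M.comap ι).inv_mem ((M.comap ι).mul_mem h10 h11)) ((M.comap ι).mul_mem h11 h10)

end abstract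

end Cfsg.Agent.H42.Cos
end

-- part: H42/Cos/TwF4Row
section
/-!
# `Cos2` for the large Ree groups: the row (helper42)
-/

set_option autoImplicit false

namespace Cfsg.Agent.H42.Cos

open Cfsg.Agent.H891.Gen Cfsg.Agent.H891.DG Cfsg.Agent.KFacts.TwF4 Subgroup
open Cfsg.Agent.SplitTwo Cfsg.Agent.SplitTwo.RootSysZ Cfsg.Agent.KFacts.TwF4.Arc Cfsg.Agent.KFacts.TwF4.Inv
open Cfsg.Agent.S2128

section full

universe u

variable {F : Type*} [Field F] [CharP F 2] [Finite F] {σ : F →+* F} {G : Type u} [Group G] [Finite G] (S : Full σ G)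

theorem lift_conj (hF : ∃ c : Fˣ, c ≠ 1) (hR : S.R.p = 2) (Φ : (F ≃+* F) → MulAut G)
    (hΦo : ∀ τ a t, Φ τ (S.o a t) = S.o a (τ t)) (hΦe : ∀ τ a p u, Φ τ (S.e a p u) = S.e a (τ p) (τ u))
    (hτ : ∀ (τ : F ≃+* F) x, τ (σ x) = σ (τ x)) {x : MulAut G} (hx : x ∈ (MulAut.conj : G →* MulAut G).range)
    (y : MulAut G) : Lift (MulAut.conj : G →* MulAut G).range x y := by
  obtain ⟨k, τ0, ho, he⟩ := AutNorm.aut_form S hF hR y
  obtain ⟨τ, hτ0⟩ : ∃ τ : F ≃+* F, ∀ x, τ x = τ0 x :=
    ⟨RingEquiv.ofBijective τ0 (Finite.injective_iff_bijective.1 τ0.injective), fun _ => rfl⟩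
  have h1 : y = MulAut.conj k * Φ τ := by
    refine aut_ext S ?_ ?_
    · intro a t
      rw [ho, MulAut.mul_apply, hΦo, MulAut.conj_apply, hτ0]
    · intro a p u
      rw [he, MulAut.mul_apply, hΦe, MulAut.conj_apply, hτ0, hτ0]
  obtain ⟨d, hd⟩ := IsCyclic.exists_generator (α := Fˣ)
  have hd1 : d ≠ 1 := by
    rintro rfl
    obtain ⟨c, hc⟩ := hF
    obtain ⟨n, hn⟩ := hd c
    exact hc (by simpa using hn.symm)
  set h := S.h d d with hh
  set w : MulAut G := MulAut.conj S.rot * Φ τ with hw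
  have hwo : ∀ a t, w (S.o a t) = S.o (a + 1) (τ t) := by
    intro a t
    rw [hw, MulAut.mul_apply, hΦo, MulAut.conj_apply, S.rot_o]
  have hwe : ∀ a p u, w (S.e a p u) = S.e (a + 1) (τ p) (τ u) := by
    intro a p u
    rw [hw, MulAut.mul_apply, hΦe, MulAut.conj_apply, S.rot_e]
  have hwc : ∀ g : G, w * MulAut.conj g * w⁻¹ = MulAut.conj (w g) := by
    intro g
    ext v
    simp only [_root_.MulAut.mul_apply, _root_.MulAut.inv_apply, _root_.MulAut.conj_apply, _root_.map_mul, _root_.MulEquiv.apply_symm_apply, _root_.map_inv]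
  have hwio : ∀ a t, w⁻¹ (S.o a t) = S.o (a - 1) (τ.symm t) := by
    intro a t
    apply w.injective
    rw [MulAut.apply_inv_self, hwo, sub_add_cancel, τ.apply_symm_apply]
  have hwie : ∀ a p u, w⁻¹ (S.e a p u) = S.e (a - 1) (τ.symm p) (τ.symm u) := by
    intro a p u
    apply w.injective
    rw [MulAut.apply_inv_self, hwe, sub_add_cancel, τ.apply_symm_apply, τ.apply_symm_apply]
  have hcomm : MulAut.conj h * (w * MulAut.conj h * w⁻¹) = (w * MulAut.conj h * w⁻¹) * MulAut.conj h := by
    refine aut_ext S ?_ ?_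
    · intro a t
      simp only [MulAut.mul_apply, hwio, MulAut.conj_apply, hh, S.h_o, hwo, sub_add_cancel, map_mul,
        RingEquiv.apply_symm_apply]
      congr 1
      ring
    · intro a p u
      simp only [MulAut.mul_apply, hwie, MulAut.conj_apply, hh, S.h_e, hwe, sub_add_cancel, map_mul,
        RingEquiv.apply_symm_apply]
      congr 1 <;> ring
  refine lift_of_closure (x' := MulAut.conj h) (y' := MulAut.conj (S.e 1 1 0) * w) ?_ ?_ ?_
  · exact mul_mem (inv_mem hx) ⟨h, rfl⟩
  · have h2 : y⁻¹ * (MulAut.conj (S.e 1 1 0) * w) =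
        (Φ τ)⁻¹ * MulAut.conj (k⁻¹ * S.e 1 1 0 * S.rot) * Φ τ := by
      rw [h1, hw]
      simp only [map_mul, map_inv]
      group
    rw [h2]
    have h3 : (Φ τ)⁻¹ * MulAut.conj (k⁻¹ * S.e 1 1 0 * S.rot) * Φ τ =
        MulAut.conj ((Φ τ)⁻¹ (k⁻¹ * S.e 1 1 0 * S.rot)) := by
      ext v
      simp only [_root_.map_mul, _root_.map_inv, _root_.MulAut.mul_apply, _root_.MulAut.conj_apply, _root_.MulAut.inv_apply, _root_.MulAut.conj_symm_apply, _root_.MulEquiv.symm_apply_apply]
    rw [h3]
    exact ⟨_, rfl⟩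
  · set M : Subgroup (MulAut G) := _root_.Subgroup.closure {MulAut.conj h, MulAut.conj (S.e 1 1 0) * w} with hM
    have key := mem_of' S.toSys S.sq (MulAut.conj : G →* MulAut G) (w := w) (h := h) (τ := τ) (hτ τ)
      (fun a p u => by rw [hwc, hwe]) (c := d) (d := d) (fun a p u => by rw [hh, S.h_e]) hd1 hd1 hd hcomm
      (M := M) (_root_.Subgroup.subset_closure (Or.inl rfl)) (_root_.Subgroup.subset_closure (Or.inr rfl))
    have htop : M.comap (MulAut.conj : G →* MulAut G) = ⊤ := by
      refine eq_top_of S ?_ ?_ ?_ ?_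
      · intro x hx
        obtain ⟨p, u, rfl⟩ := (mem_X0 S).1 hx
        exact key.1 _ _ _
      · intro x hx
        obtain ⟨t, rfl⟩ := (mem_X1 S).1 hx
        exact key.2 _ _
      · intro x hx
        obtain ⟨p, u, rfl⟩ := (mem_X8 S).1 hx
        exact key.1 _ _ _
      · intro x hx
        obtain ⟨t, rfl⟩ := (mem_X9 S).1 hx
        exact key.2 _ _
    rintro _ ⟨g, rfl⟩
    have : g ∈ M.comap (MulAut.conj : G →* MulAut G) := by rw [htop]; trivial
    exact this

/-- the field automorphisms generate the outer automorphism group, which is cyclic -/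
theorem isCyclic_out (hF : ∃ c : Fˣ, c ≠ 1) (hR : S.R.p = 2) (Φ : (F ≃+* F) → MulAut G)
    (hΦo : ∀ τ a t, Φ τ (S.o a t) = S.o a (τ t)) (hΦe : ∀ τ a p u, Φ τ (S.e a p u) = S.e a (τ p) (τ u)) :
    IsCyclic (MulAut G ⧸ (MulAut.conj : G →* MulAut G).range) := by
  let f : (F ≃+* F) →* (MulAut G ⧸ (MulAut.conj : G →* MulAut G).range) :=
    { toFun := fun τ => QuotientGroup.mk (Φ τ)
      map_one' := by
        have h1 : Φ 1 = 1 := by
          refine aut_ext S ?_ ?_
          · intro a t
            rw [hΦo]; rfl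
          · intro a p u
            rw [hΦe]; rfl
        rw [h1]; rfl
      map_mul' := by
        intro τ ρ
        have h1 : Φ (τ * ρ) = Φ τ * Φ ρ := by
          refine aut_ext S ?_ ?_
          · intro a t
            rw [MulAut.mul_apply, hΦo, hΦo, hΦo]; rfl
          · intro a p u
            rw [MulAut.mul_apply, hΦe, hΦe, hΦe]; rfl
        rw [h1]; rfl }
  have hf : Function.Surjective f := by
    intro x
    obtain ⟨α, rfl⟩ := QuotientGroup.mk_surjective x
    obtain ⟨k, τ0, ho, he⟩ := AutNorm.aut_form S hF hR α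
    obtain ⟨τ, hτ⟩ : ∃ τ : F ≃+* F, ∀ x, τ x = τ0 x :=
      ⟨RingEquiv.ofBijective τ0 (Finite.injective_iff_bijective.1 τ0.injective), fun _ => rfl⟩
    have h1 : α = MulAut.conj k * Φ τ := by
      refine aut_ext S ?_ ?_
      · intro a t
        rw [ho, MulAut.mul_apply, hΦo, MulAut.conj_apply, hτ]
      · intro a p u
        rw [he, MulAut.mul_apply, hΦe, MulAut.conj_apply, hτ, hτ]
    refine ⟨τ, ?_⟩
    show (QuotientGroup.mk (Φ τ) : MulAut G ⧸ (MulAut.conj : G →* MulAut G).range) = QuotientGroup.mk α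
    rw [h1, QuotientGroup.mk_mul]
    have h2 : (QuotientGroup.mk (MulAut.conj k) : MulAut G ⧸ (MulAut.conj : G →* MulAut G).range) = 1 :=
      (QuotientGroup.eq_one_iff _).2 ⟨k, rfl⟩
    rw [h2, one_mul]
  haveI : IsCyclic (F ≃+* F) := Cfsg.Agent.LieRecognition.FieldSemilinear.isCyclic_ringAut F
  exact isCyclic_of_surjective f hf

theorem cos2_full (hF : ∃ c : Fˣ, c ≠ 1) (hR : S.R.p = 2) (Φ : (F ≃+* F) → MulAut G)
    (hΦo : ∀ τ a t, Φ τ (S.o a t) = S.o a (τ t)) (hΦe : ∀ τ a p u, Φ τ (S.e a p u) = S.e a (τ p) (τ u))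
    (hτ : ∀ (τ : F ≃+* F) x, τ (σ x) = σ (τ x)) : Cos2 G := by
  haveI := isCyclic_out S hF hR Φ hΦo hΦe
  haveI : Finite (MulAut G) := inferInstance
  intro x y
  exact lift_of_cyclic _ (fun x hx y => lift_conj S hF hR Φ hΦo hΦe hτ hx y) x y

end full

/-- transport -/
theorem cos2_of_equiv {T T' : Type*} [Group T] [Group T'] (f : T ≃* T') (h : Cos2 T') : Cos2 T := by
  intro x y
  set Ψ : MulAut T ≃* MulAut T' := MulAut.congr f with hΨ
  obtain ⟨s, ⟨s', rfl⟩, t, ⟨t', rfl⟩, hst⟩ := h (Ψ x) (Ψ y)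
  have hc : ∀ g : T', MulAut.conj g = Ψ (MulAut.conj (f.symm g)) := by
    intro g
    ext v
    simp only [hΨ, MulAut.congr, _root_.MulAut.conj_apply, _root_.MulEquiv.coe_mk, _root_.Equiv.coe_fn_mk, _root_.MulEquiv.trans_apply, _root_.map_mul, _root_.MulEquiv.apply_symm_apply, _root_.map_inv]
  have hc' : ∀ g : T, Ψ (MulAut.conj g) = MulAut.conj (f g) := by
    intro g
    rw [hc, f.symm_apply_apply]
  refine ⟨MulAut.conj (f.symm s'), ⟨_, rfl⟩, MulAut.conj (f.symm t'), ⟨_, rfl⟩, ?_⟩
  have h1 : (_root_.Subgroup.closure {x * MulAut.conj (f.symm s'), y * MulAut.conj (f.symm t')}).map Ψ.toMonoidHom =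
      _root_.Subgroup.closure {Ψ x * MulAut.conj s', Ψ y * MulAut.conj t'} := by
    rw [MonoidHom.map_closure]
    congr 1
    rw [Set.image_insert_eq, Set.image_singleton]
    simp only [MulEquiv.toMonoidHom_eq_coe, MonoidHom.coe_coe, map_mul, ← hc]
  rw [← h1] at hst
  rintro _ ⟨g, rfl⟩
  have h2 : Ψ (MulAut.conj g) ∈ (_root_.Subgroup.closure {x * MulAut.conj (f.symm s'), y * MulAut.conj (f.symm t')}).map Ψ.toMonoidHom :=
    hst ⟨f g, (hc' g).symm⟩
  obtain ⟨z, hz, hz2⟩ := h2
  have h3 : z = MulAut.conj g := Ψ.injective hz2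
  rw [← h3]
  exact hz

open Cfsg.Lie Cfsg.Agent.KFacts.TwF4.Inst Cfsg.Agent.ChevalleyStructure.TwF4.TwistedFix in
/-- **The row `²F₄`.** -/
theorem cos2_twF4 {T : Type*} [Group T] (h : Cfsg.Lie.Iso2F4 T) : Cos2 T := by
  obtain ⟨K, _, _, m, hm, hK, ⟨f⟩⟩ := h
  refine cos2_of_equiv f ?_
  haveI : CharP K 2 := Cfsg.Agent.ChevalleyStructure.TwF4.Twisted.charP_two hK
  obtain ⟨φ, hφ⟩ := exists_rln hK
  have hF : ∃ c : Kˣ, c ≠ 1 := by
    have h1 : 1 < Nat.card Kˣ := by
      rw [Nat.card_units, Nat.card_eq_fintype_card, hK]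
      have : 2 ^ 3 ≤ 2 ^ (2 * m + 1) := Nat.pow_le_pow_right (by norm_num) (by omega)
      omega
    have : Nontrivial Kˣ := Finite.one_lt_card_iff_nontrivial.1 h1
    exact exists_ne 1
  exact cos2_full (full hK hφ) hF rfl (fun τ => fld τ (2 ^ m)) (fun τ a t => fld_ro τ hφ a t)
    (fun τ a p u => fld_re τ hφ a p u) (fun τ x => comm_phi τ hφ x)

end Cfsg.Agent.H42.Cos
end

-- part: H42/Cos/TitsRow
section
/-!
# `Cos2` for the Tits group (helper42)
-/

set_option autoImplicit false
set_option maxRecDepth 100000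

namespace Cfsg.Agent.H42.Cos

open Cfsg.Agent.H891.Gen Cfsg.Agent.H891.DG Subgroup

section abstract

/-- any two cosets of the derived subgroup contain a pair generating at least the derived subgroup -/
def LiftAll (X : Type*) [Group X] : Prop := ∀ x y : X, Lift (commutator X) x y

theorem lift_map {X Y : Type*} [Group X] [Group Y] (f : X →* Y) {N : Subgroup X} {x y : X} (h : Lift N x y) :
    Lift (N.map f) (f x) (f y) := by
  obtain ⟨s, hs, t, ht, h⟩ := h
  refine ⟨f s, ⟨s, hs, rfl⟩, f t, ⟨t, ht, rfl⟩, ?_⟩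
  have h1 := Subgroup.map_mono (f := f) h
  rwa [MonoidHom.map_closure, Set.image_pair, map_mul, map_mul] at h1

theorem map_comm_equiv {X Y : Type*} [Group X] [Group Y] (e : X ≃* Y) :
    (commutator X).map (e : X →* Y) = commutator Y := by
  rw [commutator_def, commutator_def, Subgroup.map_commutator, ← MonoidHom.range_eq_map,
    MonoidHom.range_eq_top.mpr e.surjective]

theorem lift_comm_equiv {X Y : Type*} [Group X] [Group Y] (e : X ≃* Y) (h : LiftAll X) : LiftAll Y := by
  intro x y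
  have h1 := lift_map (e : X →* Y) (h (e.symm x) (e.symm y))
  rw [map_comm_equiv] at h1
  simpa using h1

theorem lift_comm_map {G K : Type*} [Group G] [Group K] (f : G →* K) (hf : Function.Injective f)
    (H : Subgroup G) (T : Subgroup K) (h : H.map f = T) (hT : LiftAll ↥T) : LiftAll ↥H := by
  subst h
  exact lift_comm_equiv (H.equivMapOfInjective f hf).symm hT

theorem cos2_of_data {G : Type*} [Group G] [Finite G] (D : Cfsg.Agent.TitsK.TData G)
    (hD : LiftAll ↥D.H) (hT : (commutator ↥D.H).map D.H.subtype = D.T) :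
    Cos2 ↥D.T := by
  have h1 : (MulAut.conj : ↥D.T →* MulAut ↥D.T).range = (commutator ↥D.H).map D.PhiT := by
    rw [D.range_conj]
    congr 1
    rw [← hT]
    exact Subgroup.comap_map_eq_self_of_injective D.H.subtype_injective _
  intro x y
  obtain ⟨a, rfl⟩ := D.PhiT_surjective x
  obtain ⟨b, rfl⟩ := D.PhiT_surjective y
  rw [h1]
  exact lift_map _ (hD a b)

end abstract

section model

open Cfsg.Agent.ChevalleyStructure.Tits.Main Cfsg.Agent.ChevalleyStructure.Tits.Order
  Cfsg.Agent.ChevalleyStructure.Tits.Mat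

theorem lift_H0 : LiftAll ChevalleyStructure.Tits.Order.H0 := by
  intro x y
  have hfin : Finite ChevalleyStructure.Tits.Order.H0 :=
    Nat.finite_of_card_ne_zero (by rw [card_H0]; norm_num)
  have h2 : (commutator ChevalleyStructure.Tits.Order.H0).index = 2 := H0_result.1
  have mm : ∀ a b : ChevalleyStructure.Tits.Order.H0, a * b ∈ commutator ChevalleyStructure.Tits.Order.H0 ↔
      (a ∈ commutator ChevalleyStructure.Tits.Order.H0 ↔ b ∈ commutator ChevalleyStructure.Tits.Order.H0) :=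
    fun a b => Subgroup.mul_mem_iff_of_index_two h2
  have hcyc : IsCyclic (ChevalleyStructure.Tits.Order.H0 ⧸ commutator ChevalleyStructure.Tits.Order.H0) := by
    have : Fact (Nat.Prime 2) := ⟨Nat.prime_two⟩
    exact isCyclic_of_prime_card (p := 2) h2
  refine lift_of_cyclic _ ?_ x y
  intro x hx y
  by_cases hy : y ∈ commutator ChevalleyStructure.Tits.Order.H0
  · obtain ⟨a, b, hab⟩ := Cfsg.Agent.H440.TwoGen.Tits.twoGen_model
    refine lift_of_closure (x' := a) (y' := b) (mul_mem (inv_mem hx) a.2) (mul_mem (inv_mem hy) b.2) ?_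
    have h3 := congrArg (Subgroup.map (commutator ChevalleyStructure.Tits.Order.H0).subtype) hab
    rw [MonoidHom.map_closure, ← MonoidHom.range_eq_map, Subgroup.range_subtype, Set.image_pair] at h3
    exact h3.ge
  · refine lift_of_closure (x' := TitsGen.s) (y' := TitsGen.h) (mul_mem (inv_mem hx) TitsGen.s_mem) ?_ TitsGen.comm_le
    rw [mm, inv_mem_iff]
    exact ⟨fun h => absurd h hy, fun h => absurd h TitsGen.h_not_mem⟩

theorem lift_of_eq (K : Subgroup (GL I52 (ZMod 2))) (hK : K = ChevalleyStructure.Tits.Order.H0) :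
    LiftAll ↥K := by
  subst hK
  exact lift_H0

end model

theorem lift_tw : LiftAll ↥(Cfsg.Lie.twistedF4 (ZMod 2) 1) := by
  exact lift_of_eq (Cfsg.Lie.twistedF4 (ZMod 2) 1) Cfsg.Agent.ChevalleyStructure.Tits.Main.T0_eq_H0

open Cfsg.Agent.TitsK in
theorem cos2_TT : Cos2 ↥tdata.T := by
  refine cos2_of_data tdata ?_ (map_comm_aux HT)
  exact lift_comm_map _ (Subgroup.subtype_injective _) HT _ map_HT lift_tw

open Cfsg.Agent.TitsK in
theorem nonempty_equiv_tits {X : Type*} [Group X] (h : Cfsg.Lie.IsoTits X) : Nonempty (X ≃* ↥tdata.T) := by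
  obtain ⟨e⟩ := h
  obtain ⟨e'⟩ := exists_equiv
  exact ⟨e.trans e'⟩

theorem cos2_of_nonempty {G : Type*} [Group G] (D : Cfsg.Agent.TitsK.TData G) {T : Type*} [Group T]
    (f : Nonempty (T ≃* ↥D.T)) (h : Cos2 ↥D.T) : Cos2 T := by
  obtain ⟨f⟩ := f
  exact cos2_of_equiv f h

/-- **The Tits group.** -/
theorem cos2_tits {T : Type*} [Group T] (h : Cfsg.Lie.IsoTits T) : Cos2 T :=
  cos2_of_nonempty Cfsg.Agent.TitsK.tdata (nonempty_equiv_tits h) cos2_TT

end Cfsg.Agent.H42.Cos
end

private theorem dce_e6bf49934daf : _root_.True := by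
  try have : _root_.True := by simp only [_root_.Cfsg.Agent.H42.Cos.TitsGen.h.eq_1]
  exact _root_.True.intro
end

-- part: H440/DG/He_mg
section
prune_inst 0x4e1303c441980120000180092f1003c46ce000192106b8001d9e00f4206c6ff636d43af61fce03f1219faae74287dc068131800d9425000002e008e00411d01a094aa520eb348b10c67008fc09087180c00000000000000000000000000041004000000000
set_option linter.all false
open scoped Cfsg.Agent.FastGrp

-- part: H440/DG/Basic
section
/-!
# Tools for the rows of S4180 (helper440)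

* `cos2_congr` : `Cos2` along an isomorphism (any universes);
* `cos2_of_out_two` : `Out T` of order at most two, `σ` a representative of the outer coset, `T = ⟨b, σ b⟩` and `T` is
  2-generated;
* `gen_equiv` : generating pairs along an isomorphism.
-/

set_option autoImplicit false

namespace Cfsg.Agent.H440.DG.Basic

open Subgroup Cfsg.Agent.H891.DG Cfsg.Agent.H891.Gen Cfsg.Agent.H440.TwoGen

universe u v

theorem gen_equiv {T : Type u} {H : Type v} [Group T] [Group H] (e : T ≃* H) {c b : H}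
    (h : _root_.Subgroup.closure ({c, b} : Set H) = ⊤) : _root_.Subgroup.closure ({e.symm c, e.symm b} : Set T) = ⊤ := by
  have h1 : ({e.symm c, e.symm b} : Set T) = e.symm.toMonoidHom '' {c, b} := by
    rw [Set.image_pair]; rfl
  rw [h1, ← MonoidHom.map_closure, h, ← MonoidHom.range_eq_map]
  exact MonoidHom.range_eq_top.2 e.symm.surjective

theorem conj_mem_of {T : Type u} [Group T] {S : Subgroup (MulAut T)} {b c : T} (h : _root_.Subgroup.closure ({b, c} : Set T) = ⊤)
    (hb : MulAut.conj b ∈ S) (hc : MulAut.conj c ∈ S) : (MulAut.conj : T →* MulAut T).range ≤ S := by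
  rw [MonoidHom.range_eq_map, ← h, MonoidHom.map_closure, closure_le]
  rintro _ ⟨x, hx, rfl⟩
  simp only [Set.mem_insert_iff, Set.mem_singleton_iff] at hx
  rcases hx with rfl | rfl
  · exact hb
  · exact hc

theorem conj_aut {T : Type u} [Group T] (σ : MulAut T) (b : T) : σ * MulAut.conj b * σ⁻¹ = MulAut.conj (σ b) := by
  ext x
  simp only [MulAut.conj_apply, _root_.MulAut.mul_apply, _root_.MulAut.inv_apply, _root_.map_mul, _root_.MulEquiv.apply_symm_apply, _root_.map_inv]

/-- **`Out T` of order at most two.** -/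
theorem cos2_of_out_two {T : Type u} [Group T] (σ : MulAut T) (hT : TwoGen T)
    (hout : ∀ α : MulAut T, ∃ x : T, α = MulAut.conj x ∨ α = MulAut.conj x * σ) {b : T}
    (h : _root_.Subgroup.closure ({b, σ b} : Set T) = ⊤) : Cos2 T := by
  set N : Subgroup (MulAut T) := (MulAut.conj : T →* MulAut T).range with hN
  have hNn : N.Normal := inferInstance
  have key : ∀ S : Subgroup (MulAut T), σ ∈ S → MulAut.conj b ∈ S → N ≤ S := by
    intro S h1 h2
    refine conj_mem_of h h2 ?_
    rw [← conj_aut]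
    exact S.mul_mem (S.mul_mem h1 h2) (S.inv_mem h1)
  have hmem : ∀ x : T, MulAut.conj x ∈ N := fun x => ⟨x, rfl⟩
  -- an element of the outer coset
  have ho : ∀ x : T, (MulAut.conj x * σ)⁻¹ * σ ∈ N := by
    intro x
    have h1 : (MulAut.conj x * σ)⁻¹ * σ = σ⁻¹ * (MulAut.conj x)⁻¹ * σ⁻¹⁻¹ := by group
    rw [h1]
    exact hNn.conj_mem _ (N.inv_mem (hmem x)) _
  have mix : ∀ x y : MulAut T, x ∈ N → (∃ g : T, y = MulAut.conj g * σ) → Lift N x y := by
    rintro x y hx ⟨g, rfl⟩
    refine ⟨x⁻¹ * MulAut.conj b, N.mul_mem (N.inv_mem hx) (hmem b), (MulAut.conj g * σ)⁻¹ * σ, ho g, ?_⟩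
    rw [mul_inv_cancel_left, mul_inv_cancel_left]
    exact key _ (_root_.Subgroup.subset_closure (by simp)) (_root_.Subgroup.subset_closure (by simp))
  intro x y
  obtain ⟨a, ha⟩ := hout x
  obtain ⟨c, hc⟩ := hout y
  rcases ha with ha | ha <;> rcases hc with hc | hc
  · obtain ⟨p, q, hpq⟩ := hT
    refine ⟨x⁻¹ * MulAut.conj p, N.mul_mem (N.inv_mem (ha ▸ hmem a)) (hmem p), y⁻¹ * MulAut.conj q,
      N.mul_mem (N.inv_mem (hc ▸ hmem c)) (hmem q), ?_⟩
    rw [mul_inv_cancel_left, mul_inv_cancel_left]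
    exact conj_mem_of hpq (_root_.Subgroup.subset_closure (by simp)) (_root_.Subgroup.subset_closure (by simp))
  · exact mix x y (ha ▸ hmem a) ⟨c, hc⟩
  · exact (mix y x (hc ▸ hmem c) ⟨a, ha⟩).symm
  · subst ha hc
    refine ⟨(MulAut.conj a * σ)⁻¹ * σ, ho a, (MulAut.conj c * σ)⁻¹ * σ * MulAut.conj b,
      N.mul_mem (ho c) (hmem b), ?_⟩
    rw [mul_inv_cancel_left, ← mul_assoc, mul_inv_cancel_left]
    have h1 : σ ∈ _root_.Subgroup.closure ({σ, σ * MulAut.conj b} : Set (MulAut T)) := _root_.Subgroup.subset_closure (by simp)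
    have h2 : σ * MulAut.conj b ∈ _root_.Subgroup.closure ({σ, σ * MulAut.conj b} : Set (MulAut T)) := _root_.Subgroup.subset_closure (by simp)
    refine key _ h1 ?_
    have h3 := mul_mem (inv_mem h1) h2
    rwa [inv_mul_cancel_left] at h3

/-- the two cosets of the inner automorphisms -/
theorem out_of_card {T : Type u} [Group T] {σ : MulAut T} (hσ : ∀ x : T, σ ≠ MulAut.conj x)
    (h : Nat.card (Cfsg.Out T) = 2) (α : MulAut T) : ∃ x : T, α = MulAut.conj x ∨ α = MulAut.conj x * σ := by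
  have h2 : (MulAut.conj : T →* MulAut T).range.index = 2 := h
  by_cases hα : α ∈ (MulAut.conj : T →* MulAut T).range
  · obtain ⟨x, hx⟩ := hα
    exact ⟨x, Or.inl hx.symm⟩
  · have h3 : α * σ⁻¹ ∈ (MulAut.conj : T →* MulAut T).range := by
      rw [Subgroup.mul_mem_iff_of_index_two h2]
      refine ⟨fun h4 => absurd h4 hα, fun h4 => absurd (inv_mem h4) ?_⟩
      rw [inv_inv]
      rintro ⟨x, hx⟩
      exact hσ x hx.symm
    obtain ⟨x, hx⟩ := h3
    exact ⟨x, Or.inr (by rw [hx, inv_mul_cancel_right])⟩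

/-- `Cos2` along an isomorphism. -/
theorem cos2_congr {T : Type u} {H : Type v} [Group T] [Group H] (e : T ≃* H) (h : Cos2 H) : Cos2 T := by
  have hc : ∀ t : T, MulAut.congr e (MulAut.conj t) = MulAut.conj (e t) := by
    intro t
    ext x
    simp only [MulAut.congr, _root_.MulEquiv.coe_mk, _root_.Equiv.coe_fn_mk, _root_.MulEquiv.trans_apply, _root_.MulAut.conj_apply, _root_.map_mul, _root_.MulEquiv.apply_symm_apply, _root_.map_inv]
  have hr : (MulAut.conj : T →* MulAut T).range.map (MulAut.congr e).toMonoidHom =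
      (MulAut.conj : H →* MulAut H).range := by
    ext α
    constructor
    · rintro ⟨_, ⟨t, rfl⟩, rfl⟩
      exact ⟨e t, (hc t).symm⟩
    · rintro ⟨k, rfl⟩
      refine ⟨MulAut.conj (e.symm k), ⟨_, rfl⟩, ?_⟩
      change MulAut.congr e (MulAut.conj (e.symm k)) = _
      rw [hc, e.apply_symm_apply]
  intro x y
  obtain ⟨s, hs, t, ht, hst⟩ := h (MulAut.congr e x) (MulAut.congr e y)
  rw [← hr] at hs ht hst
  obtain ⟨s', hs', rfl⟩ := hs
  obtain ⟨t', ht', rfl⟩ := ht
  refine ⟨s', hs', t', ht', ?_⟩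
  have h1 : ({MulAut.congr e x * (MulAut.congr e).toMonoidHom s', MulAut.congr e y * (MulAut.congr e).toMonoidHom t'} :
      Set (MulAut H)) = (MulAut.congr e).toMonoidHom '' {x * s', y * t'} := by
    rw [Set.image_pair, map_mul, map_mul]; rfl
  rw [h1, ← MonoidHom.map_closure] at hst
  exact (Subgroup.map_le_map_iff_of_injective (MulAut.congr e).injective).1 hst

end Cfsg.Agent.H440.DG.Basic
end

-- part: H440/DG/He
section
/-!
# The Held group: `Cos2`, and a generating pair with an involution (helper440, for S4180)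

With `ρ` fixing `a, b, c, d, e` and swapping `f, g`: `He = ⟨bdcg, bdcf⟩` and `He = ⟨d, gbcfa⟩`. The words are checked on 2058
points.
-/

set_option autoImplicit false
set_option maxRecDepth 100000

namespace Cfsg.Agent.H440.DG.He

open Subgroup Cfsg.Spor Cfsg.Spor.He Cfsg.Agent.SporadicB.HePerm Cfsg.Agent.KFacts.He.Lv Cfsg.Agent.FixBN.HeStab
open Cfsg.Agent.H891.DG Cfsg.Agent.H440.DG.Basic

/-- the elements given by words in `p, p⁻¹, q, q⁻¹` -/
theorem wd_flat {S : Subgroup He} (ls : List (List Gen)) (h : ∀ l ∈ ls, wd l ∈ S) : wd ls.flatten ∈ S := by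
  induction ls with
  | nil => exact S.one_mem
  | cons l ls ih =>
    rw [List.flatten_cons, wd_append]
    exact S.mul_mem (h l (by simp)) (ih fun m hm => h m (by simp [hm]))

/-- `S` contains a word if it contains the reversed word -/
theorem wd_inv {S : Subgroup He} {p p' : List Gen} (h : chkB (p ++ p') [] = true) (hp : wd p ∈ S) : wd p' ∈ S := by
  have h1 := eq_of_chkB h
  rw [wd_append, wd_nil] at h1
  rw [← inv_eq_of_mul_eq_one_right h1]
  exact S.inv_mem hp

/-- generation by words for the generators -/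
theorem top_of {p p' q q' : List Gen} (hp : chkB (p ++ p') [] = true) (hq : chkB (q ++ q') [] = true)
    (ls : Gen → List (List Gen)) (h1 : ∀ x : Gen, ∀ l ∈ ls x, l ∈ [p, p', q, q'])
    (h2 : ∀ x : Gen, chkB [x] (ls x).flatten = true) : _root_.Subgroup.closure ({wd p, wd q} : Set He) = ⊤ := by
  obtain ⟨S, hS⟩ : ∃ S, S = _root_.Subgroup.closure ({wd p, wd q} : Set He) := ⟨_, rfl⟩
  have hpS : wd p ∈ S := hS ▸ _root_.Subgroup.subset_closure (by simp)
  have hqS : wd q ∈ S := hS ▸ _root_.Subgroup.subset_closure (by simp)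
  have hp' := wd_inv hp hpS
  have hq' := wd_inv hq hqS
  rw [← hS]
  refine Cfsg.Agent.H440.TwoGen.Cox.eq_top_of_forall _ fun x => ?_
  have h3 := eq_of_chkB (h2 x)
  rw [wd_one] at h3
  change gn x ∈ S
  rw [h3]
  refine wd_flat _ fun l hl => ?_
  have h4 := h1 x l hl
  simp only [List.mem_cons, List.not_mem_nil, or_false] at h4
  rcases h4 with rfl | rfl | rfl | rfl
  · exact hpS
  · exact hp'
  · exact hqS
  · exact hq'

def p1 : List Gen := [.b, .d, .c, .g]
def p'1 : List Gen := [.g, .c, .d, .b]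
def q1 : List Gen := [.b, .d, .c, .f]
def q'1 : List Gen := [.f, .c, .d, .b]

/-- words for the generators -/
def ls1 : Gen → List (List Gen)
  | .a => [p1, q'1, p'1, p'1, q1, q1, p1, q'1, p'1, p'1, q1, q1, p1, q'1, p1, q'1, q'1, p1, q'1, p1, q1, p'1, q1, p'1, p'1, q1, p1, q'1, p'1, p'1, q1, q1, p1, q'1, p'1, p'1, q1, q1, p1, q'1, p1, q'1, q'1, p1, q'1, p1, q1, p'1, q1, p'1, p'1, q1, p1, q'1, p'1, p'1, q1, q1, p1, q'1, p'1, p'1, q1, q1, p1, q'1, p1, q'1, q'1, p1, q'1, p1, q1, p'1, q1, p'1, p'1, q1, p1, q'1, p'1, p'1, q1, q1, p1, q'1, p'1, p'1, q1, q1, p1, q'1, p1, q'1, q'1, p1, q'1, p1, q1, p'1, q1, p'1, p'1, q1, p1, q'1, p'1, p'1, q1, q1, p1, q'1, p'1, p'1, q1, q1, p1, q'1, p1, q'1, q'1, p1, q'1, p1, q1, p'1, q1, p'1, p'1, q1]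
  | .b => [q1, p1, p1, q'1, p'1, p'1, q1, q1, q1, p'1, p'1, p'1, q1, q1, p1, q'1, q'1, p'1]
  | .c => [p1, q'1, p'1, p'1, q1, q1, p1, q'1, p'1, p'1, q1, q1, p1, q'1]
  | .d => [p1, q'1, q'1, p1, q'1, p1, q1, p'1, q1, p'1, p'1, q1]
  | .e => [p1, q'1, p'1, q1, q1, p'1, p'1, q1, q1, p'1, q1, p'1, q1, p'1, q'1, p1, p1, q'1, q'1, p1, q1, p'1, p'1, q1, q1, p'1, p'1, q1, q1, p'1, q1, p'1, q1, p'1, q'1, p1, p1, q'1, q'1, p1, q1, p'1, q1, p'1]
  | .f => [p1, q'1, p'1, q1, q1, p'1, p'1, q1, q1, p'1, q1, p'1]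
  | .g => [q1, p'1, q'1, p1, p1, q'1, q'1, p1, q1, p'1, q1, p'1]

theorem pp1 : chkB (p1 ++ p'1) [] = true := by decide +kernel
theorem qq1 : chkB (q1 ++ q'1) [] = true := by decide +kernel
theorem mm1 : ∀ x : Gen, ∀ l ∈ ls1 x, l ∈ [p1, p'1, q1, q'1] := by
  intro x; cases x <;> decide +kernel
theorem cc1 : ∀ x : Gen, chkB [x] (ls1 x).flatten = true := by
  intro x; cases x <;> decide +kernel

theorem top1 : _root_.Subgroup.closure ({wd p1, wd q1} : Set He) = ⊤ := top_of pp1 qq1 ls1 mm1 cc1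

def p2 : List Gen := [.d]
def p'2 : List Gen := [.d]
def q2 : List Gen := [.g, .b, .c, .f, .a]
def q'2 : List Gen := [.a, .f, .c, .b, .g]

/-- words for the generators -/
def ls2 : Gen → List (List Gen)
  | .a => [q2, p2, q'2, p2, q'2, q'2, q'2, q'2, p2, q2, q2, q2, q2, p2, q2, p2, q2, p2, q'2, p2, q'2, p2, p2, q2, p2, q'2, p2, q'2, q'2, q'2, q'2, p2, q2, q2, q2, q2, p2, q2, p2, q2, p2, q'2, p2, q'2, p2, p2, q2, p2, q'2, p2, q'2, q'2, q'2, q'2, p2, q2, q2, q2, q2, p2, q2, p2, q2, p2, q'2, p2, q'2, p2, p2, q2, p2, q'2, p2, q'2, q'2, q'2, q'2, p2, q2, q2, q2, q2, p2, q2, p2, q2, p2, q'2, p2, q'2, p2, p2, q2, p2, q'2, p2, q'2, q'2, q'2, q'2, p2, q2, q2, q2, q2, p2, q2, p2, q2, p2, q'2, p2, q'2, p2, p2]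
  | .b => [q2, q2, p2, q'2, q'2, p2, q2, q2, p2, q'2, q'2, p2, q2, q2, p2]
  | .c => [q2, p2, q'2, p2, q'2, q'2, q'2, q'2, p2, q2, q2, q2, q2, p2, q2, p2, q2, p2, q'2, p2, q'2, p2]
  | .d => [p2]
  | .e => [q2, p2, q2, q2, q2, p2, q2, q2, q2, p2, q'2, q'2, q'2, p2, q'2, q'2, q'2, p2, p2, q'2, q'2, q'2, p2, q'2, q'2, q'2, p2, q2, q2, q2, p2, q2, q2, q2, p2, p2, q2, q2, q2, p2, q2, q2, q2, p2, q'2, q'2, q'2, p2, q'2, q'2, q'2, p2, p2, q'2, q'2, q'2, p2, q'2, q'2, q'2, p2, q2, q2, q2, p2, q2, q2, q2, p2, q'2]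
  | .f => [q2, p2, q2, q2, q2, p2, q2, q2, q2, p2, q'2, q'2, q'2, p2, q'2, q'2, q'2, p2, q'2]
  | .g => [q2, p2, q'2, q'2, q'2, p2, q'2, q'2, q'2, p2, q2, q2, q2, p2, q2, q2, q2, p2, q'2]

theorem pp2 : chkB (p2 ++ p'2) [] = true := by decide +kernel
theorem qq2 : chkB (q2 ++ q'2) [] = true := by decide +kernel
theorem mm2 : ∀ x : Gen, ∀ l ∈ ls2 x, l ∈ [p2, p'2, q2, q'2] := by
  intro x; cases x <;> decide +kernel
theorem cc2 : ∀ x : Gen, chkB [x] (ls2 x).flatten = true := by
  intro x; cases x <;> decide +kernel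

theorem top2 : _root_.Subgroup.closure ({wd p2, wd q2} : Set He) = ⊤ := top_of pp2 qq2 ls2 mm2 cc2

theorem rho_wd (l : List Gen) : Cfsg.Agent.H997.OutHe.rho (wd l) = wd (l.map Cfsg.Agent.H997.OutHe.sw) := by
  induction l with
  | nil => rw [List.map_nil, wd_nil, map_one]
  | cons x l ih => rw [List.map_cons, wd_cons, wd_cons, map_mul, ih, Cfsg.Agent.H997.OutHe.rho_gn]

theorem cos2 : Cos2 He := by
  refine cos2_of_out_two Cfsg.Agent.H997.OutHe.rho Cfsg.Agent.H440.TwoGen.HNHe.he
    (out_of_card Cfsg.Agent.H997.OutHe.rho_outer Cfsg.Agent.S2075.result) (b := wd p1) ?_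
  rw [rho_wd]
  exact top1

/-- **`Cos2` for the Held group.** -/
theorem cos2_he {T : Type*} [Group T] (h : Cfsg.Spor.IsoHe T) : Cos2 T := by
  obtain ⟨e⟩ := h
  exact cos2_congr e cos2

/-- an involution `c` and an element `b` with `He = ⟨c, b⟩` -/
theorem exists_invol : ∃ c b : He, c ^ 2 = 1 ∧ c ≠ 1 ∧ _root_.Subgroup.closure ({c, b} : Set He) = ⊤ := by
  refine ⟨wd p2, wd q2, ?_, ?_, top2⟩
  · have h := eq_of_chkB (v := [.d, .d]) (w := []) (by decide +kernel)
    rw [wd_nil] at h
    rw [pow_two, p2, ← wd_append]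
    exact h
  · intro h
    rw [p2] at h
    have h1 := congrArg (fun x => ((phi x 0 : Fin 2058) : ℕ)) h
    have h2 := congrArg (fun x => ((phi x 1 : Fin 2058) : ℕ)) h
    have h3 := congrArg (fun x => ((phi x 8 : Fin 2058) : ℕ)) h
    have h4 := congrArg (fun x => ((phi x 32 : Fin 2058) : ℕ)) h
    rw [← wd_nil] at h1 h2 h3 h4
    simp only [phi_wd_apply] at h1 h2 h3 h4
    revert h1 h2 h3 h4
    decide +kernel

end Cfsg.Agent.H440.DG.He
end

-- part: H440/DG/ONan
section
/-!
# S4180: `Cos2` and a generating pair with an involution for the O'Nan group (helper440)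

The words are checked in the 45-dimensional projective representation.
-/

set_option autoImplicit false
set_option maxRecDepth 100000
set_option Elab.async false

namespace Cfsg.Agent.H440.DG.ONan

open Cfsg.Spor Cfsg.Spor.ON Cfsg.Agent.SporadicB.ON45Word Cfsg.Agent.Lib.PackMat Cfsg.Agent.SporadicB.ON45Data
  Cfsg.Agent.SporadicB.ON45Rels Cfsg.Agent.H891.DG Cfsg.Agent.H891.Gen Cfsg.Agent.H440.TwoGen Cfsg.Agent.H440.DG.Basic
open Cfsg.Agent.H440.TwoGen.ONan (wd wd_append mem_of_mul mem_of_mul')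

/-- the matrices of a word in the generators -/
noncomputable def mt (l : List Gen) : List ℕ := l.map fun x => gens (gi x)

theorem lw (l : List Gen) : LW (wd l) (mt l) := LW.word l

theorem simple : IsSimpleGroup Cfsg.Spor.ON := Cfsg.Agent.S1699.result.1

/-- letters of words in `x`, `y` and their inverses -/
inductive Lt
  | x | y | x1 | y1

/-- their matrices -/
def Lt.m (mx my mx' my' : ℕ) : Lt → ℕ
  | .x => mx
  | .y => my
  | .x1 => mx'
  | .y1 => my'

theorem exists_mem {S : Subgroup Cfsg.Spor.ON} {f : Lt → ℕ} (h : ∀ t : Lt, ∃ z ∈ S, LW z [f t]) (l : List Lt) :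
    ∃ z ∈ S, LW z (l.map f) := by
  induction l with
  | nil => exact ⟨1, S.one_mem, LW.one⟩
  | cons t l ih =>
    obtain ⟨z, hz, hz'⟩ := h t
    obtain ⟨w, hw, hw'⟩ := ih
    exact ⟨z * w, S.mul_mem hz hw, hz'.mul hw'⟩

/-- the check: the generator `x` times the word is a scalar -/
noncomputable def ck (f : Lt → ℕ) (x : Gen) (l : List Lt) (c : ℕ) : Bool :=
  checkScalar C45 (mt [x] ++ l.map f) c 0 45

theorem mem_of_ck {S : Subgroup Cfsg.Spor.ON} {f : Lt → ℕ} (h : ∀ t : Lt, ∃ z ∈ S, LW z [f t]) {x : Gen}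
    (l : List Lt) (c : ℕ) (hc : c < 7) (hk : ck f x l c = true) : on x ∈ S := by
  obtain ⟨z, hz, hz'⟩ := exists_mem h l
  have h1 : wd [x] * z = 1 := ((lw [x]).mul hz').eq_one simple c hc hk
  have h2 : wd [x] = on x := by unfold wd; rw [List.map_singleton, List.prod_singleton]
  rw [h2] at h1
  exact mem_of_mul' h1 hz

theorem cgf : checkScalar C45 (mt ([Gen.g, Gen.g, Gen.a] ++ [Gen.f])) 1 0 45 = true := by decide +kernel

theorem top_of_mem {S : Subgroup Cfsg.Spor.ON} (ha : on .a ∈ S) (hb : on .b ∈ S) (hc : on .c ∈ S) (hd : on .d ∈ S)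
    (he : on .e ∈ S) (hg : on .g ∈ S) : S = ⊤ := by
  have h3 : ∀ x : Gen, wd [x] = on x := fun x => by unfold wd; rw [List.map_singleton, List.prod_singleton]
  have hf : on .f ∈ S := by
    have h1 : wd [Gen.g, Gen.g, Gen.a] = wd [Gen.g] * wd [Gen.g] * wd [Gen.a] := by
      rw [← wd_append, ← wd_append]; rfl
    have h2 : wd [Gen.g, Gen.g, Gen.a] * wd [Gen.f] = 1 := by
      rw [← wd_append]
      exact (lw _).eq_one simple 1 (by decide) cgf
    have h4 : wd [Gen.f] ∈ S := by
      refine mem_of_mul h2 ?_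
      rw [h1, h3, h3]
      exact S.mul_mem (S.mul_mem hg hg) ha
    rwa [h3] at h4
  have hon : ∀ x : Gen, on x ∈ S := by
    intro x
    cases x
    · exact hg
    · exact ha
    · exact hb
    · exact hc
    · exact hd
    · exact he
    · exact hf
  rw [eq_top_iff, ← PresentedGroup.closure_range_of, Subgroup.closure_le]
  rintro _ ⟨x, rfl⟩
  exact hon x

/-- **A generating pair from the checks.** -/
theorem gen_of (X Y : List Gen) (mx my mx' my' : ℕ) (hok : ([mx, my, mx', my'].all fun g => okG C45 g) = true)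
    (hX : checkEq C45 (mt X) [mx] 0 45 = true) (hY : checkEq C45 (mt Y) [my] 0 45 = true)
    (hX' : checkScalar C45 ([mx] ++ [mx']) 1 0 45 = true) (hY' : checkScalar C45 ([my] ++ [my']) 1 0 45 = true)
    {la lb lc ld le lg : List Lt} {ca cb cc cd ce cg : ℕ} (h7 : ∀ n ∈ [ca, cb, cc, cd, ce, cg], n < 7)
    (ha : ck (Lt.m mx my mx' my') .a la ca = true) (hb : ck (Lt.m mx my mx' my') .b lb cb = true)
    (hc : ck (Lt.m mx my mx' my') .c lc cc = true) (hd : ck (Lt.m mx my mx' my') .d ld cd = true)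
    (he : ck (Lt.m mx my mx' my') .e le ce = true) (hg : ck (Lt.m mx my mx' my') .g lg cg = true) :
    Subgroup.closure ({wd X, wd Y} : Set Cfsg.Spor.ON) = ⊤ := by
  set S := Subgroup.closure ({wd X, wd Y} : Set Cfsg.Spor.ON) with hS
  simp only [List.all_cons, List.all_nil, Bool.and_true, Bool.and_eq_true] at hok
  obtain ⟨o1, o2, o3, o4⟩ := hok
  have hx : LW (wd X) [mx] := (lw X).change (by simpa using o1) hX
  have hy : LW (wd Y) [my] := (lw Y).change (by simpa using o2) hY
  have hx' : LW (wd X)⁻¹ [mx'] := hx.inv (by simpa using o3) hX'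
  have hy' : LW (wd Y)⁻¹ [my'] := hy.inv (by simpa using o4) hY'
  have h1 : wd X ∈ S := Subgroup.subset_closure (by simp)
  have h2 : wd Y ∈ S := Subgroup.subset_closure (by simp)
  have h : ∀ t : Lt, ∃ z ∈ S, LW z [Lt.m mx my mx' my' t] := by
    intro t
    cases t
    · exact ⟨_, h1, hx⟩
    · exact ⟨_, h2, hy⟩
    · exact ⟨_, S.inv_mem h1, hx'⟩
    · exact ⟨_, S.inv_mem h2, hy'⟩
  simp only [List.mem_cons, List.not_mem_nil, or_false, forall_eq_or_imp, forall_eq] at h7
  exact top_of_mem (mem_of_ck h la ca h7.1 ha) (mem_of_ck h lb cb h7.2.1 hb) (mem_of_ck h lc cc h7.2.2.1 hc)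
    (mem_of_ck h ld cd h7.2.2.2.1 hd) (mem_of_ck h le ce h7.2.2.2.2.1 he) (mem_of_ck h lg cg h7.2.2.2.2.2 hg)


/-! ### Cos -/

/-- the first element -/
def XCos : List Gen := [.c, .d, .e, .a, .b]
/-- the second element -/
def YCos : List Gen := [.c, .g, .d, .g, .g, .g, .g, .e, .g, .g, .g, .a, .b]
/-- matrix -/
def mxCos : ℕ := 0x100a018008050040000080500c00c0280600c010000020000180080600c0180000300a00c010050080000200300200c0180100a008008060080180300300c008008060080040280100401000001004014020030060040280500c0080200100000400001000004018030020100280500800c0280600400c0000300400402806002004018040080080300000800c02801004004018020080040180000600801804000010000030040080100600c008020030020140180100c0080300200201800800002014020060080040080200a0000280500c018000010060080300000400c0200500800c0000100600c0080600601400806004008010030060180000500801003003000004020050040080080300a008008010060040280400c0000300300a004028060000140180500600c0180000c00c000060000180300500c0040300000201802800000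018030000020040080100c0080080600c01800000002018010060040080100500a0000000400000c028000040180280400a0180080300400400803006014008050060140280000601400002008010008030000180280400200c0300500c0000000400c0180300000c0000280000a0100300400c0040080400200c0300100a0140200000400c0300300c01800804002000008020080040280600000c01004002004020020020180100600a00c0080600c0000200400c00802802008010000020060080300300200402001000018010050000000000200800000805004014010050000140200000a0140080600800c018020060140100300201801800004018008040000180300000c0100280100000801000000008030000060180180200a00800805006018020040000080200500800002806006004030060000000200400001000801004010018020000040200500201800004006018000000000080000600a004018060000140300600c00c0000200a008008030020100080000a0180080200a0080300600200401005004014030010080000200300a01002005000004010060060100080600a000018040060100180100a0140000600000802803002008000050040180300100c000018060020040280600800c0280200c0080100100600401800008014010030080000180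600c00c0300200400c0280600a00c0300300c00400004004014008020040000280100c0080100300000c0180000600402000004008000000000080180000800c018020000100100100c0040300100a0180180300200c028000020140200200c0100280200c00803001006004000040080000200000a0100000000000c000040000140180000000c02800006000020000000000180400a0000280000800c00000000000000000000000000500c00401001002008018010000180000600c014010010060040100300c00001804000008020050060040300100600c00804008004008020040180080400a0080100500600c0100600000002801004008028000020040200100800000806000018008030020000300200800803001000000000000040000180500800400002008000000030060100180500a00800004000018010030060180280000001802803006008018010040100280500601001806002000018040080000180500401000805002000000010040100080400200c030010020140280100c0040080000a0080000600c0080080200400c0280200a01001005002000020000080180200400400803000004004028000040000280500c0100300500c00c0100200c00c02801002014008020020080080300c000000020000180080500c00c020010000080180200c008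0000600c00002800002008030020020180180500201403002008008030000080180300200201401801006004030060060140080600c0140000200c00c0200500400c01002008000030010060080080200c014010000040100100400a018020060000140100400000802801006010010000000080100600c0180280100400402803000000008060060040200000200401003000010008020040140200500c00400000000014000020080000180100001001006008014030020000140300300400402802008010000040040140200100800803006008018000030060100200100c00c00802006018008050000180300200c0180100200c0000300500001800800002018000010040140080100c004030010020180300500c014000000040000000300a01000002000008028040080140080400a0180180000000c00806000014000020000000300400a00c03003004004010060080000280400c01400804006000000060080100080300a0180000600801801005002014020000040000000000a004010020060040000000a0140280100a0180180200a018030040020180280400a0140280400800c0080200000c0080400c00402805008000028030080040000400c00c0200600c01002006002010008060040000100400800c0300500a0180300400c010000040060180300500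40040200500400802004000018000010080100100600601802804002014008000040080080100c0080280600400c01800004018010060060100200200c0180280400600c0180400a004010000060140000600c018020040000140100500a0180300100a0000000600c0140280000c000008040080000300300a0100300200200c0300200000000802000004030060000100200400a0100000400a0180200000800c0080000001802801000008000000080080100400a00c0200000c008010000020000180600800c0100400c00c028010080100080500a01001003002014018050080000000100001800806002018028010040000200300a0080180300c0040200000600801804000004028050040000300600c0040080400001802801002010010010060100300600c0140100400a0080080100000c0100200c00c028020060140280000400c0200100000000801008018018050040140080200c01801004000010028030020080200300c010028030020080200400c00002803000008030010080040180200800001803002018018000060180200600a004008060060180200500c018028060020080300000a0180300500c000010060000180000300a00802004002004010030040080300200800c00001002008030060080040280100a0080100100000000000000000000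00000000000000000000000000000000000000000000000000000000000000000000000000000000000080100300000c018000060000000000000000000000000000000000000000000000000000000000000000000000000000000000000000000000000000000280000000c000040060100000000000000000000000000000000000000000000000000000000000000000000000000000000000000000000000000000000300801001006006004008000000000000000000000000000000000000000000000000000000000000000000000000000000000000000000000000000000080080180500400402004000000000000000000000000000000000000000000000000000000000000000000000000000000000000000000000000000000014010030080080200100a0000000000000000000000000000000000000000000000000000000000000000000000000000000000000000000000000000000180600c00402803006004000000000000000000000000000000000000000000000000000000000000000000000000000000000000000000000000000000010080100080600200c0100000000000000000000000000000000000000000000000000000000000000000000000000000000000000000000000000000000a00c0300500601002005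
/-- matrix -/
def myCos : ℕ := 0x50080180100300c0000100200400003005000010000020000100080000800c03001002004018030060140100000400c020030020100280200a01801004002000030040060140000400600802804006000020000080040000300001002806002008028050020000280200001802806002004020030060100000400a018010000040180080400000401005002014008040000000080400c0000080400400003004008018028030060000080400201800000006004030010080140280200c0000180200a01803005006010000030060000300200600c00006000004008050060140200500a0140000200000c000060060000000000400002801000014028000080080000600000802805006000030000020000280600001402805008010000000000000180500200800000000008008000000000080000a010020020080080100600a0040300100400c0280600200c00001008000030040080080080000c01002801006014008060000000280300a01400003000018008060020080200000c0140200100800400006006004020000080080000000c018020010000140080600a0140300000a0000000000000c018000000000000100800c0300500a018008010040080180400a0000080100000801000006010020050060000000100800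40300000800000000004010000000000100000400200401006004018020000080080280500a0040000400c0080100000c0100000600a0000280400c00c00000006010018000000000280200a000010040080180280100400c0300100c0080200300c014020000020140200400001402004004010018000080040080600000c0200300a008008010040140280600000c02000004000020000080080100600001400004000010020040000000300100c0000180100a01001800004000020010060000280600a010018030040040000400800000004004000000060020000000400a000000030000000000400a00401803000014020030000140000000a00c02804004008008060060140300500a00c0280400001001800002010000020020080000300a00800000002014020040000000180200400803000004014028020060140300600200c008020020000200000a0000200300c01402805000018020010080180000500200000805008000020000020000080300600403001000000018060020040000600000000002002018000010020000180000c01801006000004000030020000080500a0140000000a00c00003008000000050080100300300c00c020040020100000200400003005008018010060000040000600401400800000004020000020000100500c000008020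080000200000c0040000000a0180100200001800002002010028010000080080100200c010050060140300600a000010050000100080400000c0000000200c0100100400c0000000000402004008000020000080040280200a014020000040000000600a0040000000000000801000000028060040080080000c0180300200000c028010040040200200800c0180500c0080080300a0100000300c0140000400001400800000004010000000100000200a00c0000100000400805006004010050020000000200601402800006000028000020180300400c0180080300c0040080500c000030040060180000500c00403003008008030000060140000200c004020010080000080600a00001002008014018030020000080100a0040000300001000006008000000030000040280500200c000040080080180400401802000000008018030060000180000400c010010040140180100c00c008040020040080400c01000004006000020000040140200000000c030000040080180000000002802008010000020000140080600600c0100500a00c0180600600c02001002008018000060180000200201801002000010008020040140280500800000003000018030000000000280200c00c0080200c014000010040040200500400002806000018000020000000080500000400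80500800000002000018000010080180080600c004018000000140000500200c0000500200c0000000c008000000040140000000a00c0280200c018008000000180200000000c000000080080200600200801802004010020050060080280100a0040080600a0100280600c0100000600600000803008008008000020100100600800803001000000028010000000000100000c00004006004008050080080100100601001804000010018020080000100500200c0300100c0180000400a000020050020040200200a018008020040080180400200c02005004018010010020000180300a010008040000000200000c0100080500c0000080400a004018030020040000000000403006000004000020000080200400000c028060060140200300c01800005002010018000020180180500000c008020000080080000a0180280500a01802006002008018060040100200500600800802008014018000040080180000400801000000000018010060140100200a00c028050000140180200801403002004014008050040180300000a0140080400a0180300000801403002002008000000080180000600c000008040000000300100a00403001000000000040080140280000800002800006010000030000040200100400c018000040000080600a01000000008010020040040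1000000000018000020080000300500c00800806008014000060060040200100a000030050080180000400001802801006000000040000100080100a0040000600600c0100200c00c0300000000c0180600c00001800008004008020060140300500a0080200300a0140200000a014010040000080200500c008030060000180280400000c0200000c0180180200a0080300500a0040080600c0140280000000c018040060180000100600001000006008000060000180280200001000801000018008010080000000500001402800000000010010060100000500800001002002008018010080000000300a01400000002018020020020040100600000800005002014000020020140180400c008000010080100080300600c0300400a00803001002010008010020000300400001002004006014000020080080080200200c01000000010000020040000000000201402801008010028040080140200100201002002006008000010020000180200a010028000020140280400200402001000000020000020040000000000000000000008030060040040180000a000010010060140000000a0180000500000003003000014000060000180000200a0000000500a00c0180000a00003003002010000060080040200400001801801002000008000060040000600801403001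00400c0280400001000001008008030010080040300100a018018020080140180200001002006008010018040020040000400a014020000020100100200000c010020060040180000a010028020000000300000000c0080300a00c010040080100000200800401001006000010000040180280600000c0200000a00c010050080100100000000802003006010010020020180000500800801802002000030050000040100500a004020030040000300000a0000000100a0080300300001001800006010010060080000000300c0180300000c0000080400c00c010000040040100600c00c0200400a000008040080100000400200c0080000200c0080300200400006002018010000000080200300a01400004002014008020060000180500a014010010000100080400c00001002000000018050060040000600201803000008000030000000140280100200002800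
/-- matrix -/
def mxCos' : ℕ := 0x1004018030010000040100300c00c008060040080000200a0040080000c0100100600000802003004010020000020100180600000000803006004008050080040180300a00801800004008018030020040280100a00c000060080040200000000802004002008010030020080080600a0100100300a0140180200a0080200500a00c010010060100300300001801800002008018030020180300300000401006004018000060060100200200a00c020060020140000100a0100080200c0180000500400c020030000100080000800002805008018028010040080280200800c030060040000280100800c030040020000180200000001802002004030030020180300400a0180280100400c020010080000100200000c028060020080000200c0080200400a0100280000000c0080100c000030000040140200000c004030030060140100200a0040000000c00c0000400c0080000600601800803000008028050040000280400a014010060000180200400200002802006010020050060000080400c0000200000c00403002002010010020080180300500c01403004008014028010080100180000000c00000000010028040020100180000800801805006014008030000040300200200003003006008028030080040100600c0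0c00801000010010050020180180000401801005006014020010020180300200a0000000400a010000060000100000000c0040280500c018008030060100180000a00401805002010018000000140180000600c0200300000c0180500a00c0180500a00001800000000028060060040180400000002803008018020040080040280500600c03002000014030060000180000000200c0180100a00801006002004020000000080180300c01800001008010028000020140280300200c030060040000280600800c0200500a000020040020140100000c018010040080040080600a01800005008008028020020140280400000801806006010020010060000180500400c0280500400c02806006010008040000080080100801002801008018000010040080280000c0040280400000c010020060080180000c00401006002010000040080000000500200c028050080040080100a010020060040140080400c01400001002000020040040040300000801002806002018018030000000100000a008000000000100300600a00c030020040080280300a014020040000080280400a0000280300001800806002000030050000000200300001802002006000000010060180000600400001000006014000000000040000100001401000000018030000020000280000000002801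00c0000180000c00800000000000000000000000000300a0080200500a00c0080500a000020020040140300200a0080180500a0000280400a01000006000004030050020180280100c0080100300401803000000014020050080040100000a00c0100000000802000008004010050080080100600601800000006008030010060080200600a014018040020000300400c00c010060060140200000c010010010040040200100000c0100500c0180180600a0140000100600c000000000080280000a0040300100c00000006006000028060020080200500c0180080300000c02006008018020050020180300300a0140000500001800004006018020060020080300200a014010020080100100400c0100000100801801801000018008020060180300500a010028030060080280200c0000180200800c0100200000c0280500c0180100000a0140000200c00c020010020080000400800c0200300200802800002000028050080180280000a0140300100201800003002004030050020000000600401003006008008010000020100280400a0180080600c00c0300300c0000280000600c0080100a00c028060080180080600001802004002014020020040140280300601400005008008020060060040100000200c0000200600002006000014030050040040180100a0100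1802008008010050000000100200800c0080000600403001000010010020040040100600200c0180400c010008010000080200200a018018020040040000500a018018020060000300100c010030020060180100000a01402000004018030030000080280200400c030000000180280000801401803006004030000020080280200600002804004008028030000180080300201400005002000000020060140180400c00c000030000180200500400401800000018018050060140100600601401806006004030050060000000600c000008060000140080000000002002000018018060020000280500a0140200100a0080200400200c0280300000401803006010018030080180280000c008000040000040300500a01401002000018008050040080300300a00c0000100c0080280500a014010050080140000300400c030030080140280000a0040080400c0100000400c00801804000014018060040140080100c0000080300200c0080300200801806004018010030060140280000c00802004004008020050040000180500a00403002004000018040040000100000c0100200300c00c0200400c00c02004008008008030080080180500a008008000000080000200a014008020060180080500a0140000000200403005008000010040080180300000200c00003002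018028000040180180100c008000020020080180400400c000020020040000600c01403003000008030040080080300400a0140080400a0180280500800000803004014030050000140100300801000000008000000030020180280100000800801004004000050020000080000800802803006018030050080140280100a00c0200000c018028010020000000600800803006008004030050020180180300000000803004014028060020180100400200801003004004000060040000200100600c0200100600c02803006014028020060140080600a0040280400a01803000008000020010080180100500201400803000014008000040040200400a0100300500600801005008018000030040180100100c0140080400a0000280600a00c0300600800400003000010020020020100000600401401803004000020020020080300600800c00002006000000030000000000000000000000000000000000000000000000000000000000000000000000000000000000000000000000000000000000280100a008000060000000000000000000000000000000000000000000000000000000000000000000000000000000000000000000000000000000000100200c000028010000080000000000000000000000000000000000000000000000000000000000000000000000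000000000000000000000000000000000200200803006006008028000000000000000000000000000000000000000000000000000000000000000000000000000000000000000000000000000000020080080300201002003000000000000000000000000000000000000000000000000000000000000000000000000000000000000000000000000000000008008030080100300300c0000000000000000000000000000000000000000000000000000000000000000000000000000000000000000000000000000000080600a00800805008004000000000000000000000000000000000000000000000000000000000000000000000000000000000000000000000000000000010040100080200a014008000000000000000000000000000000000000000000000000000000000000000000000000000000000000000000000000000000020180200100601000803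
/-- matrix -/
def myCos' : ℕ := 0x201003004002014020010000140200600400c028030000040280600c004018040000180100600000002000002014030060020080280000c0140000600c000000000080100200000c00c0080300000c020050000180180500c01803000008010000030020080300600400c0300000c00801000006004018050000000180500800c0200200400c0000100c0040000600a0080000600801003005002010020020080080300300c00c00005006018010040080040280600600c008020060180280000a0100300200601800005008014018040060080000600200002001000014008000000080180100a0080300000800c030030040080000300400001804008018018020020000280400201002003006010018060040040080600401401802004010008040040040280400c008018020000180200400400401803008004000030080080000100a0080300400600c020060020000280400a0040300100400800000008010028050000080000600a0140100200a0040300100800c018030060100300200a0180180100c00c010040040140300400c0040300100a014000040000040300400c00c0100600a0080300100c00c010040000100180100a0100200500a00c028040060140300500c0180100000c00c0300200a010008050040100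1004006000030060080140000300c010010020080000280400a0140200300c00402001000008000040060180100500a0140200100a0180200100200c00804000014028050040140200100201001804004004020000000100200100400c0100500800c028000020040180100a01001806004010030040020000080200400c01802008008030030060000180600a0040080000c008020010040140200000200c010010000140280000a018018050080040180500200402003008014028000060040180300c014028030000040280300800c0300200a004010060000080100000a010008030040040100300c0140000100c010030000040040200300c0040200200a0100100200a0000080600a010008050000140200100a0100080000a00c0280300600c0280000c00400003002000028060000000280300c01402806000010020010080080280000800c020020040080100200400c008060060080200400400402801002010028030080100200100c0000280000600c028030040180200600200c0180300400402002000000028050060040280100c0080100600000c02002008004028020060040280300a01000003002018028020020140300400a01400002006004000000000000180100400c00000000000000050000180180000c0000200000a0000000100001400000008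0000100000a0000000200c00000000004000000020080000200400c0080180400a0140180500600c0100100a004030050000040180600a0140180100a014020050080100000100200c028000060040200500a014000020080040100400801800005002010028000060100000400a0180180600a0180200200a0180300600601000001004018030020080100300000401400002000000000000000000100100800c00006000000018000060000000000a0080000200000c0080000200002000002000000000040100280000c000010040060100300200a0040280100001402800004010008040040180100300c00800001002010008000040180200400c0180200200a00c0280500a00000800000000000040020140080000000000000000000008020000080000100400c0000000000002800000004000060000140000300c0180000000000c00004008010020030000000000000800c030000000000280000000c00004000000000040060000300000400800001000000000030000000000100c00400003000014000010080180280600201402004006008010010040080180500200c0080400a000030020040100080400a01802005000000008010060000000300a0100080600a010008060060000300100c01002802002000030060020180300200a010018010060000080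00080000300200400c0300600a00c0100400600001000008008018030080080100400001800806000004028020000180180400c014030030080140200500200c0080300001402006004010018060040180200300a0180200400800400003006014000060040080080400601002001002000028030040040080100a0140000000800c02802000008000010040080100500a010008000060180200400c018028020020080000400001803002008010020040020080200500c0080100100401800004006010018040020080100600c01801801004010000000000000180400201002800000000000050000140000000000c00000002000030010000040000000000400000000004018020000000000500a0080200400200001006004018010020020000200200400c028010080080200500401001003008014000010080080280300a0100280600000c0200600200000000008010020000020100300400000c018050000040180200c018030000060100000300c014030010040100300000c00801000008018018020000180200000c01803002002010010000060040280100c0040300600c008018050040140180300201002006004018020050060180100300c01000002002018018040020140200300a0000200300801400801006000018040080100180100c01401004004000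01800004000018060020080180300c0080300500a000008000000000000000001001800000000000000040000080600001800005006004000000020000200000000c000040000100000200c00c0000000001400003000018018010080040280400c00001003002008020050060000080200c0180080400600000802002000000030000180280100c004010020000040280000c014000010080040100100c014020040060080280100a014018020020100300300a0000080200a0100080300a00402002000000030060060000000400a00c0100200a00c020010000080080500201402801000010010050060080080400400c010020060080200300a00000803004008018050080080080000600c0300000c0000000000000000006000004020040000040000000800001000000000018060000100000600800003000006000010000000000280000800001000008014000030060140300300400401005008014020010060180080200000002806006014020020080000280200000c0280300000c0100000a014010060040000000000000402002002000000000000000200000a0040000500000000004000000020000060000000400000000004000000008030000000000300000c010040080140280300201401805002010010020000080280300c00c0000000400c0100300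c0040100000c0040000500401400000002018010000020140300500c0000100400600c020000040180080500c0040100400801003000000018020060060040280100a008030000040180300000400802801002014030000040040000500800c01804000014008060040180300200800c020010000000300300200c0300500c00801001000014030010000080100200c01802801000010008030060000000000001802802002010000050000000300000c0000000000c0000000500000c0000000400001800008000000000040040200000200002803006008028030020140200200c00c028020000080280400c01000000004010028030020040280000c018000020040080000000200402800002008030040000000180000000000006006008010040000140000000c00002800000000030020000180000500a00001000006000010000000000200500400001800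
/-- the matrices -/
noncomputable abbrev fCos : Lt → ℕ := Lt.m mxCos myCos mxCos' myCos'

theorem okCos : ([mxCos, myCos, mxCos', myCos'].all fun g => okG C45 g) = true := by decide +kernel
theorem hXCos : checkEq C45 (mt XCos) [mxCos] 0 45 = true := by decide +kernel
theorem hYCos : checkEq C45 (mt YCos) [myCos] 0 45 = true := by decide +kernel
theorem hXCos' : checkScalar C45 ([mxCos] ++ [mxCos']) 1 0 45 = true := by decide +kernel
theorem hYCos' : checkScalar C45 ([myCos] ++ [myCos']) 1 0 45 = true := by decide +kernel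

/-- word -/
def laCos : List Lt := [.x, .y1, .y1, .y1, .x, .x, .y, .x1, .y1, .x, .y, .x1, .y1, .x1, .y, .x1, .y, .x, .y1, .x]
theorem kaCos : ck fCos .a laCos 2 = true := by decide +kernel

/-- word -/
def lbCos : List Lt := [.x, .y1, .x, .y, .x1, .x1, .x1, .x1, .x1, .y, .x, .y1, .y1, .y1, .y1, .y1, .x, .y, .x1, .y, .x, .y]
theorem kbCos : ck fCos .b lbCos 2 = true := by decide +kernel

/-- word -/
def lcCos : List Lt := [.y, .x, .x, .y1, .x1, .y, .x, .y1, .x1, .x1, .x1, .x1, .y, .x, .y1, .y1, .x1, .y1, .x, .y1, .y1, .x]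
theorem kcCos : ck fCos .c lcCos 2 = true := by decide +kernel

/-- word -/
def ldCos : List Lt := [.y1, .x1, .y, .y, .x1, .x1, .y, .y, .x1, .y]
theorem kdCos : ck fCos .d ldCos 1 = true := by decide +kernel

/-- word -/
def leCos : List Lt := [.x, .y1, .x1, .y, .y, .x1, .x1, .y, .x, .y1, .x, .y1]
theorem keCos : ck fCos .e leCos 1 = true := by decide +kernel

/-- word -/
def lgCos : List Lt := [.x, .y1, .y1, .y1, .y1, .x, .y1, .x1, .y, .x1, .y1, .x1, .x1, .y, .x1, .x1, .x1, .x1, .y, .x, .x, .y, .y, .x]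
theorem kgCos : ck fCos .g lgCos 1 = true := by decide +kernel


theorem genCos : Subgroup.closure ({wd XCos, wd YCos} : Set Cfsg.Spor.ON) = ⊤ :=
  gen_of XCos YCos mxCos myCos mxCos' myCos' okCos hXCos hYCos hXCos' hYCos' (by decide) kaCos kbCos
    kcCos kdCos keCos kgCos


/-! ### Coh -/

/-- the first element -/
def XCoh : List Gen := [.e]
/-- the second element -/
def YCoh : List Gen := [.a, .c, .g, .d, .b, .g]
/-- matrix -/
def mxCoh : ℕ := 0x2000000000000000000000000000000000000000000000000000000000000000000000000000000000000000000000000000000000000000040000000000000000000000000000000000000000000000000000000000000000000000000000000000000000000000000000000000000400000000000000000000000000000000000000000000000000000000000000000000000000000000000000000080000000000000000000000000000000000000000000000000000000000000000000000000000000000000000000000000000000000000000000000000000000000000000000000000000000000000000000000000000c00000000000000000000000000000000000000000000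0000000000000000000000000000000000000000000000000000000000000000040000000000000000000000000000000000000000000000000000000000000000000000000000000000000000028000000000000000000000000000000000000000000000000000000000000000000000000000000000000000000000000000000000000000000000000000000000030000000000000000000000000000000000000000000000000000000000000000000000000000000000000000000000000000000000000000000000000000000000000000000000000000000c000000000000000000000000000000000000000000000000000000000000000000000000000000000000000002800000000000000000000000000000000000000000000000000000000000000000000000000000000000000000000000000000000000000000000000000000000002000000000000000000000000000000000000000000000000000000000000000000000000000000000000000000000000000000000000000000000000000000000400000000000000000000000000000000000000000000000000000000000000000000000000000008000000000000000000000000000000000000000000000000000000000000000000000000000000000000000000000000000000000000000000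00000000000000001800000000000000000000000000000000000000000000000000000000000000000000000000000000000000000000000000000000000000000000000000000000001800000000000000000000000000000000000000000000000000000000000000000000000000000000000000000000000000000000000000000000000000000000000000000004000000000000000000000000000000000000000000000000000000000000000000000000000000000000000000000000000030000000000000000000000000000000000000000000000000000000000000000000000000000000000000000000000000000000000000000000000000000000000010000000000000000000000000000000000000000000000000000000000000000000000000000000000000000000000000000000000000000000000000000000000000000000000000600000000000000000000000000000000000000000000000000000000000000000000000000000000000000000000000000000000400000000000000000000000000000000000000000000000000000000000000000000000000000000000000000000000000000000000000000000000000000000000000000000000000010000000000000000000000000000000000000000000000000000000000000000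00000000000000000000000000000000000000000000000000000000000001800000000000000000000000000000000000000000000000000000000000000000000000000000000000000000000000000000000000000000000000000000000000000000000000000000000000000600000000000000000000000000000000000000000000000000000000000000000000000000000000000000000000000000000000000000000008000000000000000000000000000000000000000000040000000000000000000000000000000000000000000000000000000000000000000000000000000000000000000000000000000000000000000000000000000000040000000000000000000000000000000000000000000000000000000000000000000000000000000000000000000000000000000000000000000000000000000000140000000000000000000000000000000000000000000000000000000000000000000000000000000000000000000000000000000000000000000000000000000000000000000000000000000000000000000000000000001800000000000000000000000000000000000000000000000000000000000000000000000000000000000000000000000000000000000000000000000000000000000000000000000008000000000000000000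00000000000400000000000000000000000000000000000000000000000000000000000000000000000000000000000000000000000000000000000000000000000000000000001400000000000000000000000000000000000000000000000000000000000000000000000000000000000000000000000000000000000000000000000000000000000000000000000000000000000000000000000000000010000000000000000000000000000000000000000000000000000000000000000000000000000000000000000000000000000000000000000000000000000000000000000000000000000100000000000000000000000000000000000200000000000000000000000000000000000000000000000000000000000000000000000000000000000000000000000000000000000000000000000000000000000000000000000000000000000000000000000000000000000000060000000000000000000000000000000000000000000000000000000000000000000000000000000000000000000000000000000000000000000000000000000000000000000080000000000000000000000000000000000000000000000000000000000000000000000000000000000000000000000000000000000000000000000000000000000000000000000006000000000000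0000000000000000000000000000000000000000000000000000000000000000000000000000000000000000000000000000000000000000018030000000000000000000000000000000000000000000000000000000000000000000000000000000000000000000000000000000000000000000000000001000000000000000000000000000000000000000000000000000000000000000000000000000000000000000000000000000000000000000000000000000000000000000004000000000000000000000000000000000000000000000000000000000000000000000000000000000000000000000000000000000000000000000200000000000000000000000000000000000000000000000000000000000000000000000000000000000000000000000000000000000000000000000020000000000000000000000000000000000000000000000000000000000000000000000000000000000000000000000000000000000000000000000000000000060000000000000000000000000000000000000000000000000000000000000000000000000000000000000000000000000000000000000000000400000000000000000000000000000000000000000000000000000000000000000000000000000000000000000000000000000000000000000000000000000000000000006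
/-- matrix -/
def myCoh : ℕ := 0x60040180600800c03000006000030030080000200000401400801000004000060000100200500c0100080100800803003004014000050020100200200c004030050040040100000a004028020020080000100200c0200100a004030010020140200500c0140100400a0040080200c0100300100600002002008010010020000040180100c0080300400801000805004004018010000080200200801801005006010008040020140200100c0100080200800c0280600001003000006008010060000100000400400000804006000010020000080080100a0140280500a0140280500001001003004014030000000000200000000c0000600c0080300100a0180300200c0040300200a010000030060040000200c0000200400600c000030000180180200001402802002000028020000180300600a00c018030060040080100200c0100000c0140300400c00402801000010028000060040280300000c0280200a014010020060040200600400802000002000030050000180080000a00c0000200200c0280500a0080100200c0100000600400c02000002008000040020040000000800c03006008000000040000000200300c000018020020080280100c014020040020080200400c0080180400000c008040040040080100801001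80300200402002002018020040080000280000c0040100200c00c010010080180000200600c0300500a004008020000140080000400c0200400200c0080600a01400802006004000030060040280500c0180080600c00c000060020180080600601002000008008020020060040280500800001002006000000000040040000400800c020050040080100400a008000040040000200400a00801001004014010040040000000500c004030040080180200100400c008060020100080500400c0100400401802003000004030020000140180100a0040080100a004008030060180080600c0040080100c010010050080000300600a010008010040040300100600c0180300c008000060020080180300a018018050080180300200200c008030000000300200c0180300400c00c01803006004028030080140180100c00c028020020040180100400400001004014030030080040280100201000801000014008040020140080000c0040100600600c0000200800c0080400800c0200100a0180200100600c0100000c00c0180100000c018010000100100000801002005006018030060040000200600c0080100500c018018030000080200000600c0100400c00002802000000020010020000000000401402806000010000060000000280500001803001000000000000060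08020000000040280100200000003000000018030060000200300200c01000000014030050000100280100c00c008050000100100000c0040300100400802806008014030020080000100200a00800000002014008030060140000000a010028040080080180400601401803006010030000020100200400000c02802004008008040040180180400a01801005002000000030080040080100a0100080400a00c018020040180280100800800005008008030060060100200100c00c0180500000c0280100a018020000060040300300000c0180000400000005000008010050040180200600c01801003002000010060080080300500800c028060080080280000200c030050000100180200a0080280100c0080180400a004028030020000000100c008000010040000080300801802001008008010050000000080300001401004004010028000000040300400a00001801008010008040060140300400a0000000100800000802002010018000000080200000a00c03001006014010040040080000300200c0280000800c00002000008010000080140200300c018000000020080300600c0140280300c0100200400a0040080500a00800800000004018030060140200300001000806000004008030060080100300c01000000002018010010060140180100600801801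00a004030050060180200300c008010010080080300300a00c0300000401803000002004018030000140100100400c028040000000200000a00c0080000800000806002000018030020000180600400c010020000180100200a0080180500001801804006008020040000040300600200000803008004020030040080280000a0040280300a008028000080140300500600c01006000004028000020140080400400c008020000000300600201002006002000028050020000300000801001001000010030010060040200400800c010000000140180600a000030060040100180300601801803006008018010020180000100a00003001008014010060060000300000c01803000002014018000020080180400c00c000010000080200200400802801004000020020060040300100c0180280100a008028000060080000500001001005000008000050020040180500a0180200400200002806008000018060000180200000a01402000000014030000000040300100200400806000004028040060000180200601802802000018030020040000000500401001801002014028000000100300000a00802000006014018050020080000300a01002004002000020010000100000500c0180300600a004008040040100300200800800805000010020000060100100000a0180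000600c004018030020140280600200c028050000040300400400401004004008000040040040100600400c02801000010028020060180200100a0100080000a0000180400c0040280500c00403003002014010020040180200600200c000030040040080600800c000000060140080400801401802000014010000080100000400a00c01800006004030050080080100500a01400804004010030040060180000500c0000280000c000000030080040080000c004020010040000080600600003001000010028010060100180400a0000000300201800803002010030010060140200500401400003000000000040040140180300601803000000010000010060000200000c010030050080080280600200c020030060180100000600c030010020040080300c0040300200c0180000400c0100100300a0040280300600c01802006018008050020140200100000c030040060100080000000c01802006010010020040180180600200003000004008000020040100280500c014030000060080200100400400003004000028000060140280100c0040200100800c010030040080000000c0080000600c0000300000c008030050080140100400a00c0200200001401001008004010060000080180600a014010060000180300200800001800000004000060040000280500a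00400006008004010020060040100100400c028000020140080500a00c0080000600002006000004028040040140000600000c0200000400c00003002004030010000000280100a0000180300a0080300100200401006004000030030040080180600600c010050080080200600400002804008004000060020040300400a0180200200a0180280300a0000100100c000030000020180080500a00000005000000008050020080180500000000006004008010010000180200200a00c0180400601802806004018010010020080080300400000001002010028060000180200400400401801008000018030040000300000001001805008008020030000100200300800c0200200a01801801002004030010040180200600200c03004008010000050080180300500c00800006004010000040020040280200a01001006002018030040040000300100200400000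
/-- matrix -/
def mxCoh' : ℕ := 0x2000000000000000000000000000000000000000000000000000000000000000000000000000000000000000000000000000000000000000040000000000000000000000000000000000000000000000000000000000000000000000000000000000000000000000000000000000000400000000000000000000000000000000000000000000000000000000000000000000000000000000000000000080000000000000000000000000000000000000000000000000000000000000000000000000000000000000000000000000000000000000000000000000000000000000000000000000000000000000000000000000000c0000000000000000000000000000000000000000000000000000000000000000000000000000000000000000000000000000000000000400000000000000000000000000000000000000000000000000000000000000000000000000000000000000000280000000000000000000000000000000000000000000000000000000000000000000000000000000000000000000000000000000000000000000000000000000000300000000000000000000000000000000000000000000000000000000000000000000000000000000000000000000000000000000000000000000000000000000000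00000000000000000000c00000000000000000000000000000000000000000000000000000000000000000000000000000000000000000280000000000000000000000000000000000000000000000000000000000000000000000000000000000000000000000000000000000000000000000000000000000200000000000000000000000000000000000000000000000000000000000000000000000000000000000000000000000000000000000000000000000000000000040000000000000000000000000000000000000000000000000000000000000000000000000000000800000000000000000000000000000000000000000000000000000000000000000000000000000000000000000000000000000000000000000000000000000000001800000000000000000000000000000000000000000000000000000000000000000000000000000000000000000000000000000000000000000000000000000000001800000000000000000000000000000000000000000000000000000000000000000000000000000000000000000000000000000000000000000000000000000000000000000004000000000000000000000000000000000000000000000000000000000000000000000000000000000000000000000000000030000000000000000000000000000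00000000000000000000000000000000000000000000000000000000000000000000000000000000000000000000000000000001000000000000000000000000000000000000000000000000000000000000000000000000000000000000000000000000000000000000000000000000000000000000000000000000060000000000000000000000000000000000000000000000000000000000000000000000000000000000000000000000000000000040000000000000000000000000000000000000000000000000000000000000000000000000000000000000000000000000000000000000000000000000000000000000000000000000001000000000000000000000000000000000000000000000000000000000000000000000000000000000000000000000000000000000000000000000000000001800000000000000000000000000000000000000000000000000000000000000000000000000000000000000000000000000000000000000000000000000000000000000000000000000000000000000600000000000000000000000000000000000000000000000000000000000000000000000000000000000000000000000000000000000000000008000000000000000000000000000000000000000000040000000000000000000000000000000000000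00000000000000000000000000000000000000000000000000000000000000000000000000000000000000000000004000000000000000000000000000000000000000000000000000000000000000000000000000000000000000000000000000000000000000000000000000000000014000000000000000000000000000000000000000000000000000000000000000000000000000000000000000000000000000000000000000000000000000000000000000000000000000000000000000000000000000000180000000000000000000000000000000000000000000000000000000000000000000000000000000000000000000000000000000000000000000000000000000000000000000000000800000000000000000000000000000400000000000000000000000000000000000000000000000000000000000000000000000000000000000000000000000000000000000000000000000000000000001400000000000000000000000000000000000000000000000000000000000000000000000000000000000000000000000000000000000000000000000000000000000000000000000000000000000000000000000000000010000000000000000000000000000000000000000000000000000000000000000000000000000000000000000000000000000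00000000000000000000000000000000000000000000000010000000000000000000000000000000000020000000000000000000000000000000000000000000000000000000000000000000000000000000000000000000000000000000000000000000000000000000000000000000000000000000000000000000000000000000000000006000000000000000000000000000000000000000000000000000000000000000000000000000000000000000000000000000000000000000000000000000000000000000000008000000000000000000000000000000000000000000000000000000000000000000000000000000000000000000000000000000000000000000000000000000000000000000000000600000000000000000000000000000000000000000000000000000000000000000000000000000000000000000000000000000000000000000000000000000180300000000000000000000000000000000000000000000000000000000000000000000000000000000000000000000000000000000000000000000000000010000000000000000000000000000000000000000000000000000000000000000000000000000000000000000000000000000000000000000000000000000000000000000040000000000000000000000000000000000000000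00000000000000000000000000000000000000000000000000000000000000000000000000000200000000000000000000000000000000000000000000000000000000000000000000000000000000000000000000000000000000000000000000000020000000000000000000000000000000000000000000000000000000000000000000000000000000000000000000000000000000000000000000000000000000060000000000000000000000000000000000000000000000000000000000000000000000000000000000000000000000000000000000000000000400000000000000000000000000000000000000000000000000000000000000000000000000000000000000000000000000000000000000000000000000000000000000006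
/-- matrix -/
def myCoh' : ℕ := 0x400400c000010020080280200a00400806006004030060000000080600a01401001000008008030040000100500800403006008008020000040140300000200801802004008030040060100280400601800805006004010010000000280100801800801006010030060000040000200c0140080500a0080000000a0080280000c00401004004000020050020040300400000c01006004004020000000140080100400001003008000000000060000300600a004030000020140180600a000018060000080080200401802800006000020010080040280400c01801804004014018040000180000500600c01005004018010030020100200200200c030060000040080500800c0180200c01402006002000000020060000280600a0180000400800c0280500a008020050020100200300600c000010040140080600a014000010060000300500a00c00002002004000010040180300600400c0280200c0100000300a004010040000080080100600c018050060040300400000001000008018000040020180200600200c02004008000008040080040300000800c0080100a0140000100c01802004004000008020000040200600400402806008000010030080080000000600000000000000018020040080200200c014018000060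08020000040080080600c0000300500a0180300000c0140080300c0140280500c01403001002004000050080040000400c00802004006014010000040040200500a0100080500a00002000006018000000040040000600c0040000000600c028010000000300000c010028000060140000300000c000030020140000100001001000000000000020000000280300000c0080400801402800008000000050020000100500200c018010060100080400801403001000010008000060040180200c0180200100a00802804002014000040060080000100201002004006008008000040080200600a0080080600c0180100400201002000002008018010060100200600400002802004000028010060080180200400802003002000010020060140300400200000000006018000020040000180500200c0300500a00802804008010010050060080100000400c0200000a0000080500c0040100500c0180100600400c00806002008000050020040200300600c0200400a000010030080140300400000c008050040040280500c00c010050020100080100a0100080100001002004006008010060020000280400400c028030080140300100a0000000400c0000280500a0140300600800001804006010000000020040300400801001005000000010060000140180400001401000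00400402800000010030010020040000300200001800008008028020040000100300000001000002008000010020180080300c0000280400000402000006014030040020000180400c0000280100400002801006014000010000000100100a0040180300a0180080100a018030000020000000000000c008040020000200000800000002002014020030020180280600c00802804004008010040080100280400a010030010000000300500600c0000000c008018030020100300500400401803002014000040040000000600000402005006014030050000140080100800c030060040000000600a010030020080140300000a014010040080000180500c0040000500a018010000000100200100c01402801008014008000020000100400c00003006008014000060060000280100401402802006004008060060180280300c0140080600a0180000100a01802800004010010030000080100500c0100280600600803005006010008000020040280300c0040000000400c0100600c008020050000000200100400802005004008010000060100300300400000804000008028030080100200400c0180000200c000030040000100100400201802805000014020060060000000400201802805004000010060000080080600c00400800002000000030000180280000c00c0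2800008018020000000000280400a0140300600600403001006014030020020180080600600c0280000c018008020020080080500600400006002018020050080000080000800c0100000c01002802004018008020040000000400a00c000060040100000000800c010020080080080500c0100000400c0100080500a0040180200a00c018060040140000300000c008000020180180600c014028000020140000400600400002000000000060020180080600000c030020020000300000400000001006018018040020040200600800c0180300a014008060080100100200c00c000060020000080500800801805002018018030020040300500200400805008000030060000100000400400c0200600a00801001000000010020000100180400c0180000000a0080000600000400804006018030010000140000300c00c0180000001800006002014010020080180100000400802004006014010020040180200000c01003002004000018040080140300300600803001000004018000020180080100c0140300300800c030010000080180000200400006002000020030060180200300c0180180600800400800004018018000040140000300c0000200400c0000300600001801000006014008000000000300500600000802004004030020060000200100c00402004006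00c0100500a010008020080100100000c0100000400a000028030060100000400a014030040040000300600c014010010080180000500600800806006004010030060180180600000401002004010028000060180180100400403002006004000010020040280100a0000300000200c0200100a014030040020040280300c01000005000004018010040140100200a010028050060000280400000c00804004008010040020040000100000c02002006018020020080000200100a01801806006010030020060080080600c004020010080140200500c018018020020080200300a00c00000002018010000060180080600c0180100300c00c028040000140180400601800003002004010050040040280300a010020000000080100000c010020040080040300500000803006002000008020060000080400400c0200200400402802008010010020000080280300c008010010060080080600c0100300500a0000100000c0000180200a010028000000140000600c00000004000000000000040000300500200c010060040100100600c010018010040040180400a008000020000180000400a008030020000000100000c0180000000600000000000014030000040180100500200c0000300c0080080500a010020060000100180000c00002000004018020030020000000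300001002000000004000000000000200500800c0180500c00401001000018030050060000080100400400005000000000000000100280600c0080000000a000000000000000200000000000002002018008030000180300000800c0000500c01802801008004020040020000100000c00001006006014008000000040000600c000000050000000000000c0100280400800c0080600600c0180400a0180000500c00c00803008010000060000100000500200c00006000000020000080100000000c0000000000000c0200500c0100100300c0140200000a01002005000008008030080000300000000000000008014010030040000000600000000000000008000000000000080400600c0000600801400805006004010010040140000300c0140200600000800006000014008040080180000000c00003006000000010000000000000100a0100080300601000803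
/-- the matrices -/
noncomputable abbrev fCoh : Lt → ℕ := Lt.m mxCoh myCoh mxCoh' myCoh'

theorem okCoh : ([mxCoh, myCoh, mxCoh', myCoh'].all fun g => okG C45 g) = true := by decide +kernel
theorem hXCoh : checkEq C45 (mt XCoh) [mxCoh] 0 45 = true := by decide +kernel
theorem hYCoh : checkEq C45 (mt YCoh) [myCoh] 0 45 = true := by decide +kernel
theorem hXCoh' : checkScalar C45 ([mxCoh] ++ [mxCoh']) 1 0 45 = true := by decide +kernel
theorem hYCoh' : checkScalar C45 ([myCoh] ++ [myCoh']) 1 0 45 = true := by decide +kernel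

/-- word -/
def laCoh : List Lt := [.x1, .y, .x1, .y1, .x1, .y1, .x1, .y, .x1, .y, .x1, .y1, .x1, .y1, .x1, .y, .x1, .y, .x1, .y1, .x1, .y1, .x1, .y, .x1, .y, .x1, .y1, .x1, .y1, .x1, .y]
theorem kaCoh : ck fCoh .a laCoh 1 = true := by decide +kernel

/-- word -/
def lbCoh : List Lt := [.y1, .x1, .y1, .x1, .y1, .y1, .x1, .y1, .y1, .x1, .y1, .x1, .y1, .y1, .y1, .x1, .y1, .y1, .x1, .y1, .x1, .y, .y, .y, .x1, .y, .x1, .y, .x1, .y1, .y1, .y1, .y1, .x1, .y1]
theorem kbCoh : ck fCoh .b lbCoh 2 = true := by decide +kernel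

/-- word -/
def lcCoh : List Lt := [.x1, .y, .y, .x1, .y1, .y1, .y1, .x1, .y, .y, .x1, .y1, .y1, .x1, .y, .y, .y, .x1, .y1, .y1, .x1, .y, .y, .x1, .y1, .y1, .y1, .x1, .y, .y]
theorem kcCoh : ck fCoh .c lcCoh 1 = true := by decide +kernel

/-- word -/
def ldCoh : List Lt := [.y1, .y1, .x1, .y, .y, .x1, .y, .y, .y, .y, .y, .y, .x1, .y1, .y1, .y1, .y1, .y1, .y1, .x1, .y1, .y1, .x1, .y, .y]
theorem kdCoh : ck fCoh .d ldCoh 1 = true := by decide +kernel

/-- word -/
def leCoh : List Lt := [.x1]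
theorem keCoh : ck fCoh .e leCoh 1 = true := by decide +kernel

/-- word -/
def lgCoh : List Lt := [.x1, .y, .x1, .y, .x1, .y1, .y1, .x1, .y, .y, .y, .y, .x1, .y, .x1, .y, .x1, .y, .x1, .y1, .y1, .x1, .y, .y, .y, .x1, .y, .y, .x1, .y1, .y1, .x1, .y1, .x1, .y1, .x1, .y1, .y1]
theorem kgCoh : ck fCoh .g lgCoh 2 = true := by decide +kernel


theorem genCoh : Subgroup.closure ({wd XCoh, wd YCoh} : Set Cfsg.Spor.ON) = ⊤ :=
  gen_of XCoh YCoh mxCoh myCoh mxCoh' myCoh' okCoh hXCoh hYCoh hXCoh' hYCoh' (by decide) kaCoh kbCoh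
    kcCoh kdCoh keCoh kgCoh


/-- **`Cos2` for the O'Nan group.** -/
theorem cos2 : Cos2 Cfsg.Spor.ON := by
  have hON : IsON Cfsg.Spor.ON := Cfsg.Agent.S1699.result
  have hsg : Cfsg.Agent.UGT.C.BalON.sg hON (wd XCos) = wd YCos := Cfsg.Agent.UGT.C.BalON.sg_word hON XCos
  refine cos2_of_out_two (Cfsg.Agent.UGT.C.BalON.sg hON) ⟨_, _, Cfsg.Agent.H440.TwoGen.ONan.closure_eq⟩ ?_ (b := wd XCos)
    (by rw [hsg]; exact genCos)
  intro α
  obtain ⟨x, h | h⟩ := Cfsg.Agent.UGT.C.BalON.out' hON α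
  · exact ⟨x, Or.inl h⟩
  · refine ⟨x * on .d, Or.inr ?_⟩
    rw [h, map_mul, mul_assoc]
    rfl

theorem cos2_on {T : Type*} [Group T] (h : Cfsg.Spor.IsoON T) : Cos2 T := by
  obtain ⟨e⟩ := h
  exact Cfsg.Agent.H440.DG.Basic.cos2_congr e cos2

/-- **The O'Nan group is generated by an involution and another element.** -/
theorem exists_invol : ∃ c b : Cfsg.Spor.ON, c ^ 2 = 1 ∧ c ≠ 1 ∧ Subgroup.closure ({c, b} : Set Cfsg.Spor.ON) = ⊤ := by
  refine ⟨wd XCoh, wd YCoh, ?_, ?_, genCoh⟩
  · rw [pow_two, ← wd_append]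
    exact Cfsg.Agent.H440.TwoGen.ONan.eq_one_of_chk simple _ 1 (by decide) Cfsg.Agent.H440.TwoGen.ONan.cee
  · have h : LW (wd XCoh) [gens (gi Gen.e)] := lw XCoh
    exact h.ne_one 1 5 (by decide) (by decide +kernel)

end Cfsg.Agent.H440.DG.ONan
end

private theorem dce_973dc73e69b1 : _root_.True := by
  try have : _root_.True := by simp only [_root_.Cfsg.Agent.H440.DG.He.p2.eq_1]
  exact _root_.True.intro
end

-- part: H648/DG/CohPsl_mg
section
prune_inst 0x4c01038440080020000000002c0000004080000001000800008000800000022220d00a8000480000018228000000400081108000002000000000004000004010010804208a348000846008e000000000000000000000000000000000000000000000000000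
set_option linter.all false
open scoped Cfsg.Agent.FastGrp

-- part: H648/DG/CohPsl2
section
/-!
# Task 3320: `Coh` for `PSL_2(q)` (helper648, for S4180)
-/

set_option autoImplicit false

namespace Cfsg.Agent.H648.DG

open Cfsg.Agent.H891.DG Cfsg.Agent.H891.DG.Tools Equiv Subgroup

universe u

/-- `T` is generated by an involution and another element. -/
def InvGen (T : Type*) [Group T] : Prop :=
  ∃ c b : T, c ^ 2 = 1 ∧ c ≠ 1 ∧ _root_.Subgroup.closure ({c, b} : Set T) = ⊤

theorem InvGen.congr {T T' : Type*} [Group T] [Group T'] (e : T ≃* T') (h : InvGen T) : InvGen T' := by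
  obtain ⟨c, b, hc, hc1, hcb⟩ := h
  refine ⟨e c, e b, ?_, ?_, ?_⟩
  · rw [← map_pow, hc, map_one]
  · intro h
    exact hc1 ((map_eq_one_iff e e.injective).1 h)
  · have h1 : e.toMonoidHom '' {c, b} = {e c, e b} := Set.image_pair e.toMonoidHom c b
    rw [← h1, ← MonoidHom.map_closure, hcb]
    exact Subgroup.map_top_of_surjective _ e.surjective

theorem InvGen.coh {T : Type u} [Group T] [Finite T] [IsSimpleGroup T] (hna : ¬ IsMulCommutative T)
    (h : InvGen T) : Coh T := by
  obtain ⟨c, b, hc, hc1, hcb⟩ := h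
  exact coh_of_involution hna hc hc1 hcb

/-- `A_6` -/
theorem invGen_alt6 : InvGen (alternatingGroup (Fin 6)) := by
  have ht : swap (0 : Fin 6) 3 * swap 1 4 ∈ alternatingGroup (Fin 6) := by
    rw [Equiv.Perm.mem_alternatingGroup]; decide
  have hb : swap (0 : Fin 6) 1 * finRotate 6 ∈ alternatingGroup (Fin 6) := by
    rw [Equiv.Perm.mem_alternatingGroup]; decide
  refine ⟨⟨_, ht⟩, ⟨_, hb⟩, ?_, ?_, ?_⟩
  · apply Subtype.ext
    show (swap (0 : Fin 6) 3 * swap 1 4) ^ 2 = 1
    decide
  · intro h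
    have h1 : swap (0 : Fin 6) 3 * swap 1 4 = 1 := congrArg Subtype.val h
    revert h1
    decide
  apply Subgroup.map_injective (alternatingGroup (Fin 6)).subtype_injective
  rw [MonoidHom.map_closure]
  have h1 : (alternatingGroup (Fin 6)).subtype '' {⟨_, ht⟩, ⟨_, hb⟩} =
      {swap (0 : Fin 6) 3 * swap 1 4, swap (0 : Fin 6) 1 * finRotate 6} := by
    rw [Set.image_pair]; rfl
  rw [h1, ← MonoidHom.range_eq_map, Subgroup.range_subtype]
  apply le_antisymm
  · rw [Subgroup.closure_le]
    rintro x (rfl | rfl)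
    · exact ht
    · exact hb
  · have mt := Subgroup.subset_closure (k := {swap (0 : Fin 6) 3 * swap 1 4, swap (0 : Fin 6) 1 * finRotate 6})
      (Set.mem_insert _ _)
    have mb := Subgroup.subset_closure (k := {swap (0 : Fin 6) 3 * swap 1 4, swap (0 : Fin 6) 1 * finRotate 6})
      (Set.mem_insert_of_mem _ rfl)
    refine Cfsg.Agent.H440.TwoGen.Alt.even_case (n := 6) (by norm_num) _ (swap (0 : Fin 6) 1 * finRotate 6) ?_ ?_ mb ?_
    · decide
    · intro i h hi
      have h5 : i < 5 := by omega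
      interval_cases i <;> decide +revert
    · have h2 := mul_mem (mul_mem (mul_mem (mul_mem (mul_mem (mul_mem mt (inv_mem mb)) (inv_mem mb)) mt) mb) mt)
        (inv_mem mb)
      convert h2 using 1
      rw [Cfsg.Agent.CharactersDeep.SchurAltPerm.x_def]
      decide +kernel

/-- **`PSL_2(q)`, `q ≥ 4`, is generated by an involution and another element.** -/
theorem invGen_psl2 {T : Type*} [Group T] [Finite T] [IsSimpleGroup T] (F : Type) [Field F] [Fintype F]
    (h4 : 4 ≤ Fintype.card F) (e : T ≃* Matrix.ProjectiveSpecialLinearGroup (Fin 2) F)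
    (hna : ¬ IsMulCommutative T) : InvGen T := by
  by_cases h9 : Fintype.card F = 9
  · obtain ⟨e2⟩ := Cfsg.Agent.QTKE.Iso.psl29 F h9
    exact invGen_alt6.congr (e.trans e2).symm
  · have hs : IsSimpleGroup (Matrix.ProjectiveSpecialLinearGroup (Fin 2) F) := e.symm.isSimpleGroup
    have hna' : ¬ IsMulCommutative (Matrix.ProjectiveSpecialLinearGroup (Fin 2) F) := by
      intro h
      apply hna
      refine ⟨⟨fun a b => ?_⟩⟩
      apply e.injective
      rw [map_mul, map_mul]
      exact h.is_comm.comm _ _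
    exact InvGen.congr e.symm (Psl2.exists_inv F hna' h4 h9)

/-- **Task 3320.** -/
theorem coh_psl2 {T : Type u} [Group T] [Finite T] [IsSimpleGroup T] (F : Type) [Field F] [Fintype F]
    (h4 : 4 ≤ Fintype.card F) (e : Nonempty (T ≃* Matrix.ProjectiveSpecialLinearGroup (Fin 2) F)) : Coh T := by
  obtain ⟨e⟩ := e
  have hna : ¬ IsMulCommutative T := by
    intro h
    have : Group.IsSolvable T := Group.isSolvable_of_comm fun a b => h.is_comm.comm a b
    exact ClassicalGeometry.PSL2Solvable.not_isSolvable_psl F h4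
      (Group.isSolvable_of_surjective (f := e.toMonoidHom) e.surjective)
  exact (invGen_psl2 F h4 e hna).coh hna

end Cfsg.Agent.H648.DG
end

-- part: H648/DG/CohPsl
section
/-!
# Task 3326: `CohAt` for `PSL_n(q)`, `n ≥ 3`, in the defining characteristic (helper648, for S4180)
-/

set_option autoImplicit false

namespace Cfsg.Agent.H648.DG

open Cfsg.Agent.H891.DG Cfsg.Agent.H891.DG.Tools Subgroup Matrix Cfsg.Agent.S2402
  Cfsg.Agent.H490.Der

universe u

/-- generation of a quotient by the centre -/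
theorem closure_image_eq_top {G T : Type*} [Group G] [Group T] (φ : G →* T) (hs : Function.Surjective φ)
    (hk : Subgroup.center G ≤ φ.ker) {S : Set G} (h : _root_.Subgroup.closure S ⊔ Subgroup.center G = ⊤) : _root_.Subgroup.closure (φ '' S) = ⊤ := by
  rw [← MonoidHom.map_closure, eq_top_iff, ← Subgroup.map_top_of_surjective φ hs, ← h, Subgroup.map_sup, sup_le_iff]
  refine ⟨le_rfl, ?_⟩
  rintro _ ⟨x, hx, rfl⟩
  rw [MonoidHom.mem_ker.1 (hk hx)]
  exact one_mem _

namespace PslN

variable {K : Type*} [Field K] {n : ℕ}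

theorem tv_mem_center {i j : Fin (n + 1)} (hij : i ≠ j) {s : K}
    (h : Matrix.SpecialLinearGroup.transvection hij s ∈
      Subgroup.center (Matrix.SpecialLinearGroup (Fin (n + 1)) K)) : s = 0 := by
  rw [Matrix.SpecialLinearGroup.mem_center_iff] at h
  obtain ⟨r, -, hr⟩ := h
  have h1 := congrFun (congrFun hr i) j
  rw [Cfsg.Agent.H135.SLCyc.coe_tv, Matrix.scalar_apply, Matrix.diagonal_apply_ne _ hij, Matrix.add_apply,
    Matrix.one_apply_ne hij, Matrix.single_apply_same, zero_add] at h1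
  exact h1.symm

/-- the diagonal subgroup -/
def D (K : Type*) [Field K] (n : ℕ) : Subgroup (Matrix.SpecialLinearGroup (Fin (n + 1)) K) where
  carrier := {g | ∃ c : Fin (n + 1) → K, (g : Matrix (Fin (n + 1)) (Fin (n + 1)) K) = Matrix.diagonal c ∧
    ∀ a, c a ≠ 0}
  mul_mem' := by
    rintro a b ⟨c, hc, hc0⟩ ⟨c', hc', hc0'⟩
    refine ⟨fun i => c i * c' i, ?_, fun i => mul_ne_zero (hc0 i) (hc0' i)⟩
    rw [Matrix.SpecialLinearGroup.coe_mul, hc, hc', Matrix.diagonal_mul_diagonal]
  one_mem' := ⟨fun _ => 1, by rw [Matrix.SpecialLinearGroup.coe_one]; exact Matrix.diagonal_one.symm,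
    fun _ => one_ne_zero⟩
  inv_mem' := by
    rintro a ⟨c, hc, hc0⟩
    refine ⟨fun i => (c i)⁻¹, ?_, fun i => inv_ne_zero (hc0 i)⟩
    have h1 : Matrix.diagonal (fun i => (c i)⁻¹) * (a : Matrix (Fin (n + 1)) (Fin (n + 1)) K) = 1 := by
      rw [hc, Matrix.diagonal_mul_diagonal]
      rw [← Matrix.diagonal_one]
      congr 1
      funext i
      exact inv_mul_cancel₀ (hc0 i)
    have h2 : (a : Matrix (Fin (n + 1)) (Fin (n + 1)) K) *
        ((a⁻¹ : Matrix.SpecialLinearGroup (Fin (n + 1)) K) : Matrix (Fin (n + 1)) (Fin (n + 1)) K) = 1 := by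
      rw [← Matrix.SpecialLinearGroup.coe_mul, mul_inv_cancel, Matrix.SpecialLinearGroup.coe_one]
    calc ((a⁻¹ : Matrix.SpecialLinearGroup (Fin (n + 1)) K) : Matrix (Fin (n + 1)) (Fin (n + 1)) K)
        = (Matrix.diagonal (fun i => (c i)⁻¹) * (a : Matrix (Fin (n + 1)) (Fin (n + 1)) K)) *
          ((a⁻¹ : Matrix.SpecialLinearGroup (Fin (n + 1)) K) : Matrix (Fin (n + 1)) (Fin (n + 1)) K) := by
          rw [h1, Matrix.one_mul]
      _ = _ := by rw [Matrix.mul_assoc, h2, Matrix.mul_one]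

theorem D_pow [Fintype K] {g : Matrix.SpecialLinearGroup (Fin (n + 1)) K} (hg : g ∈ D K n) :
    g ^ (Fintype.card K - 1) = 1 := by
  obtain ⟨c, hc, hc0⟩ := hg
  apply Subtype.ext
  rw [Matrix.SpecialLinearGroup.coe_pow, hc, Matrix.diagonal_pow, Matrix.SpecialLinearGroup.coe_one,
    ← Matrix.diagonal_one]
  congr 1
  funext i
  rw [Pi.pow_apply]
  exact FiniteField.pow_card_sub_one_eq_one (c i) (hc0 i)

/-- the torus has order prime to the characteristic -/
theorem not_dvd_card_map [Fintype K] {p : ℕ} (hp : p.Prime) [CharP K p] {T : Type*} [Group T] [Finite T]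
    (φ : Matrix.SpecialLinearGroup (Fin (n + 1)) K →* T) : ¬ p ∣ Nat.card ((D K n).map φ) := by
  intro h
  have : Fact p.Prime := ⟨hp⟩
  obtain ⟨⟨y, g, hg, hgy⟩, hy⟩ := exists_prime_orderOf_dvd_card' p h
  have h1 : (⟨y, g, hg, hgy⟩ : (D K n).map φ) ^ (Fintype.card K - 1) = 1 := by
    apply Subtype.ext
    show y ^ (Fintype.card K - 1) = 1
    rw [← hgy, ← map_pow, D_pow hg, map_one]
  have h2 := orderOf_dvd_of_pow_eq_one h1
  rw [hy] at h2
  have h3 : p ∣ Fintype.card K := by
    obtain ⟨k, hp', hk⟩ := FiniteField.card K p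
    rw [hk]
    exact dvd_pow_self _ k.2.ne'
  have hq : 1 < Fintype.card K := Fintype.one_lt_card
  have h4 := (Nat.dvd_sub_iff_right hq.le h3).1 h2
  exact hp.one_lt.ne' (Nat.dvd_one.1 h4)

/-- the cycle normalises the torus -/
theorem conj_w (w : Matrix.SpecialLinearGroup (Fin (n + 1)) K)
    (hw : (w : Matrix (Fin (n + 1)) (Fin (n + 1)) K) =
      Matrix.of (fun i j => if j.val = i.val + 1 then 1 else if i.val = n ∧ j.val = 0 then (-1) ^ n else 0))
    {g : Matrix.SpecialLinearGroup (Fin (n + 1)) K} (hg : g ∈ D K n) : w⁻¹ * g * w ∈ D K n := by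
  obtain ⟨c, hc, hc0⟩ := hg
  refine ⟨fun b => c ((Equiv.subRight (1 : Fin (n + 1))) b), ?_, fun b => hc0 _⟩
  have h1 : (w : Matrix (Fin (n + 1)) (Fin (n + 1)) K) *
      Matrix.diagonal (fun b => c ((Equiv.subRight (1 : Fin (n + 1))) b)) =
      (g : Matrix (Fin (n + 1)) (Fin (n + 1)) K) * (w : Matrix (Fin (n + 1)) (Fin (n + 1)) K) := by
    ext a b
    rw [hc, Matrix.diagonal_mul, Matrix.mul_diagonal, Cfsg.Agent.H135.SLCyc.w_apply w hw a b]
    by_cases hab : a = (Equiv.subRight (1 : Fin (n + 1))) b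
    · rw [if_pos hab, hab, mul_comm]
    · rw [if_neg hab, mul_zero, zero_mul]
  rw [mul_assoc, Matrix.SpecialLinearGroup.coe_mul, Matrix.SpecialLinearGroup.coe_mul, ← h1, ← Matrix.mul_assoc,
    ← Matrix.SpecialLinearGroup.coe_mul, inv_mul_cancel, Matrix.SpecialLinearGroup.coe_one, Matrix.one_mul]

theorem det_d0 (hn : 2 ≤ n) : (Matrix.diagonal (fun i : Fin (n + 1) =>
    if i.val = 0 then (-1 : K) else if i.val = 1 then -1 else 1)).det = 1 := by
  obtain ⟨m, rfl⟩ : ∃ m, n = m + 1 := ⟨n - 1, by omega⟩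
  rw [Matrix.det_diagonal, Fin.prod_univ_succ, Fin.prod_univ_succ]
  rw [Finset.prod_eq_one]
  · simp
  · intro i _
    rw [if_neg (by simp), if_neg (by simp)]

/-- **`q` odd** -/
theorem cohAt_odd [Fintype K] (hn : 2 ≤ n) {p : ℕ} (hp : p.Prime) [CharP K p] (hp2 : p ≠ 2) {T : Type u} [Group T]
    [Finite T] [IsSimpleGroup T] (φ : Matrix.SpecialLinearGroup (Fin (n + 1)) K →* T)
    (hs : Function.Surjective φ) (hk : φ.ker = Subgroup.center _) : CohAt p T := by
  have h20 : (2 : K) ≠ 0 := by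
    intro h
    have h1 : ((2 : ℕ) : K) = 0 := by exact_mod_cast h
    rw [CharP.cast_eq_zero_iff K p] at h1
    exact hp2 ((Nat.prime_dvd_prime_iff_eq hp Nat.prime_two).1 h1)
  have h01 : (0 : Fin (n + 1)) ≠ 1 := by
    obtain ⟨m, rfl⟩ : ∃ m, n = m + 1 := ⟨n - 1, by omega⟩
    exact Fin.zero_ne_one
  obtain ⟨w, hw⟩ : ∃ w : Matrix.SpecialLinearGroup (Fin (n + 1)) K,
      (w : Matrix (Fin (n + 1)) (Fin (n + 1)) K) = Cfsg.Agent.H440.TwoGen.Psl.W K n :=
    ⟨⟨_, Cfsg.Agent.H440.TwoGen.Psl.det_W⟩, rfl⟩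
  set x : Matrix.SpecialLinearGroup (Fin (n + 1)) K := Matrix.SpecialLinearGroup.transvection h01 1 with hxdef
  have hx : (x : Matrix (Fin (n + 1)) (Fin (n + 1)) K) = Matrix.transvection (0 : Fin (n + 1)) (1 : Fin (n + 1)) 1 :=
    rfl
  -- the element `diag (-1, -1, 1, …)`
  set c : Fin (n + 1) → K := fun i => if i.val = 0 then (-1 : K) else if i.val = 1 then -1 else 1 with hcdef
  have hcne : ∀ a, c a ≠ 0 := by
    intro a
    simp only [hcdef]
    split_ifs
    · exact neg_ne_zero.2 one_ne_zero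
    · exact neg_ne_zero.2 one_ne_zero
    · exact one_ne_zero
  let d : Matrix.SpecialLinearGroup (Fin (n + 1)) K := ⟨Matrix.diagonal c, det_d0 hn⟩
  have hd : (d : Matrix (Fin (n + 1)) (Fin (n + 1)) K) = Matrix.diagonal c := rfl
  have hdD : d ∈ D K n := ⟨c, hd, hcne⟩
  have hdx : d * x = x * d := by
    have h1 := conj_diag d c hd hcne h01 (1 : K)
    have h2 : c 0 * 1 * (c 1)⁻¹ = 1 := by
      have e0 : c 0 = -1 := by simp [hcdef]
      have e1 : c 1 = -1 := by
        have : ((1 : Fin (n + 1)) : ℕ) = 1 := by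
          rw [Fin.val_one', Nat.mod_eq_of_lt (by omega)]
        simp only [hcdef, this]
        norm_num
      rw [e0, e1]
      norm_num
    rw [h2] at h1
    exact mul_inv_eq_iff_eq_mul.1 h1
  have hd1 : φ d ≠ 1 := by
    intro h
    have h1 : d ∈ Subgroup.center (Matrix.SpecialLinearGroup (Fin (n + 1)) K) := by
      rw [← hk]; exact h
    rw [Matrix.SpecialLinearGroup.mem_center_iff] at h1
    obtain ⟨r, -, hr⟩ := h1
    rw [hd] at hr
    have h2 : ∀ i, r = c i := by
      intro i
      have := congrFun (congrFun hr i) i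
      rwa [Matrix.scalar_apply, Matrix.diagonal_apply_eq, Matrix.diagonal_apply_eq] at this
    have h3 : c 0 = -1 := by simp [hcdef]
    have h4 : c ⟨2, by omega⟩ = 1 := by simp [hcdef]
    have h5 : (-1 : K) = 1 := by rw [← h3, ← h2, h2 ⟨2, by omega⟩, h4]
    apply h20
    linear_combination -h5
  have hgen : (D K n).map φ ⊔ _root_.Subgroup.closure {φ x, φ w} = ⊤ := by
    rcases Nat.lt_or_ge 3 (Fintype.card K) with hK | hK
    · obtain ⟨k, hk'⟩ := IsCyclic.exists_generator (α := Kˣ)
      let h : Matrix.SpecialLinearGroup (Fin (n + 1)) K := ⟨Matrix.diagonal (fun i : Fin (n + 1) =>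
        if i.val = 0 then (k : K) else if i.val = 1 then ((k⁻¹ : Kˣ) : K) else 1),
        Cfsg.Agent.H440.TwoGen.Psl.det_h (by omega) k⟩
      have hh : h ∈ D K n := by
        refine ⟨_, rfl, ?_⟩
        intro a
        split_ifs
        · exact k.ne_zero
        · exact (k⁻¹).ne_zero
        · exact one_ne_zero
      have h1 := closure_image_eq_top φ hs hk.ge
        (Cfsg.Agent.S2402.result hK n (by omega) k hk' h x w rfl hx hw)
      rw [eq_top_iff, ← h1, closure_le]
      rintro _ ⟨y, rfl | hy, rfl⟩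
      · exact mem_sup_left ⟨_, hh, rfl⟩
      · rw [Set.mem_singleton_iff] at hy
        subst hy
        rw [map_mul]
        exact mem_sup_right (mul_mem (_root_.Subgroup.subset_closure (Set.mem_insert _ _))
          (_root_.Subgroup.subset_closure (Set.mem_insert_of_mem _ rfl)))
    · have h1 := closure_image_eq_top φ hs hk.ge (Cfsg.Agent.S2403.result hK n (by omega) x w hx hw)
      rw [Set.image_pair] at h1
      rw [h1]
      exact sup_top_eq _
  refine cohAt_of_torus hp (H := (D K n).map φ) (H₁ := zpowers (φ d)) (n := φ w) (u := φ x)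
    (not_dvd_card_map hp φ) ?_ ?_ ?_ ?_ hgen
  · rintro _ ⟨g, hg, rfl⟩
    refine ⟨w⁻¹ * g * w, conj_w w hw hg, ?_⟩
    rw [map_mul, map_mul, map_inv]
  · rw [zpowers_le]
    exact ⟨d, hdD, rfl⟩
  · rw [Ne, zpowers_eq_bot]
    exact hd1
  · intro y hy
    obtain ⟨i, rfl⟩ := mem_zpowers_iff.1 hy
    have h1 : Commute (φ d) (φ x) := by
      show φ d * φ x = φ x * φ d
      rw [← map_mul, hdx, map_mul]
    exact (h1.zpow_left i).eq

/-- **`q = 2`** -/
theorem invGen_two [Fintype K] (hn : 1 ≤ n) (hK : Fintype.card K = 2) {T : Type u} [Group T]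
    (φ : Matrix.SpecialLinearGroup (Fin (n + 1)) K →* T)
    (hs : Function.Surjective φ) (hk : φ.ker = Subgroup.center _) : InvGen T := by
  have h20 : (1 : K) + 1 = 0 := by
    have h1 : ((Fintype.card K : ℕ) : K) = 0 := FiniteField.cast_card_eq_zero K
    rw [hK] at h1
    rw [one_add_one_eq_two]
    exact_mod_cast h1
  have h01 : (0 : Fin (n + 1)) ≠ 1 := by
    obtain ⟨m, rfl⟩ : ∃ m, n = m + 1 := ⟨n - 1, by omega⟩
    exact Fin.zero_ne_one
  obtain ⟨w, hw⟩ : ∃ w : Matrix.SpecialLinearGroup (Fin (n + 1)) K,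
      (w : Matrix (Fin (n + 1)) (Fin (n + 1)) K) = Cfsg.Agent.H440.TwoGen.Psl.W K n :=
    ⟨⟨_, Cfsg.Agent.H440.TwoGen.Psl.det_W⟩, rfl⟩
  have h1 := closure_image_eq_top φ hs hk.ge (Cfsg.Agent.S2403.result (by omega) n hn
    (Matrix.SpecialLinearGroup.transvection h01 1) w rfl hw)
  rw [Set.image_pair] at h1
  refine ⟨_, _, ?_, ?_, h1⟩
  · rw [← map_pow, pow_two, tv_mul_same, h20, tv_zero, map_one]
  · intro h
    have h2 := tv_mem_center h01 (by rw [← hk]; exact h)
    exact one_ne_zero h2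

/-- **`q ≥ 4` even** -/
theorem cohAt_two [Fintype K] (hn : 2 ≤ n) (hK : 3 < Fintype.card K) [CharP K 2] {T : Type u} [Group T]
    [Finite T] [IsSimpleGroup T] (φ : Matrix.SpecialLinearGroup (Fin (n + 1)) K →* T)
    (hs : Function.Surjective φ) (hk : φ.ker = Subgroup.center _) : CohAt 2 T := by
  classical
  obtain ⟨m, rfl⟩ : ∃ m, n = m + 1 := ⟨n - 1, by omega⟩
  have h01 : (0 : Fin (m + 1 + 1)) ≠ 1 := Fin.zero_ne_one
  obtain ⟨w, hw⟩ : ∃ w : Matrix.SpecialLinearGroup (Fin (m + 1 + 1)) K,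
      (w : Matrix (Fin (m + 1 + 1)) (Fin (m + 1 + 1)) K) = Cfsg.Agent.H440.TwoGen.Psl.W K (m + 1) :=
    ⟨⟨_, Cfsg.Agent.H440.TwoGen.Psl.det_W⟩, rfl⟩
  obtain ⟨k, hk'⟩ := IsCyclic.exists_generator (α := Kˣ)
  set c : Fin (m + 1 + 1) → K := fun i => if i.val = 0 then (k : K) else if i.val = 1 then ((k⁻¹ : Kˣ) : K) else 1
    with hcdef
  have hc0 : c 0 = k := by simp [hcdef]
  have hc1 : c 1 = ((k⁻¹ : Kˣ) : K) := by simp [hcdef]
  have hc2 : c (1 + 1) = 1 := by
    have h2 : ((1 + 1 : Fin (m + 1 + 1)) : ℕ) = 2 := by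
      rw [Fin.val_add, Fin.val_one]
      exact Nat.mod_eq_of_lt (by omega)
    simp only [hcdef, h2]
    norm_num
  have hcne : ∀ a, c a ≠ 0 := by
    intro a
    simp only [hcdef]
    split_ifs
    · exact k.ne_zero
    · exact (k⁻¹).ne_zero
    · exact one_ne_zero
  let h : Matrix.SpecialLinearGroup (Fin (m + 1 + 1)) K := ⟨Matrix.diagonal c,
    Cfsg.Agent.H440.TwoGen.Psl.det_h (by omega) k⟩
  have hh : (h : Matrix (Fin (m + 1 + 1)) (Fin (m + 1 + 1)) K) = Matrix.diagonal c := rfl
  set x : Matrix.SpecialLinearGroup (Fin (m + 1 + 1)) K := Matrix.SpecialLinearGroup.transvection h01 1 with hxdef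
  have hord : orderOf k = Fintype.card K - 1 := by
    rw [← Nat.card_zpowers, (Subgroup.eq_top_iff' _).2 hk', Subgroup.card_top, Nat.card_eq_fintype_card,
      Fintype.card_units]
  have hk1 : k ≠ 1 := by
    intro e
    rw [← orderOf_eq_one_iff] at e
    omega
  have hk2 : k ^ 2 ≠ 1 := by
    intro e
    have := orderOf_le_of_pow_eq_one (by norm_num) e
    omega
  have hk1' : (k : K) ≠ 1 := fun e => hk1 (Units.ext e)
  have hk2' : (k : K) ^ 2 ≠ 1 := fun e => hk2 (Units.ext (by push_cast; exact e))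
  set h' := w * h * w⁻¹ with hh'def
  have hh' : (h' : Matrix (Fin (m + 1 + 1)) (Fin (m + 1 + 1)) K) = Matrix.diagonal (fun i => c (i + 1)) := by
    have h1 : Matrix.diagonal (fun i => c (i + 1)) * (w : Matrix (Fin (m + 1 + 1)) (Fin (m + 1 + 1)) K) =
        (w : Matrix (Fin (m + 1 + 1)) (Fin (m + 1 + 1)) K) * (h : Matrix (Fin (m + 1 + 1)) (Fin (m + 1 + 1)) K) := by
      ext a b
      rw [hh, Matrix.diagonal_mul, Matrix.mul_diagonal, Cfsg.Agent.H135.SLCyc.w_apply w hw a b]
      by_cases hab : a = (Equiv.subRight (1 : Fin (m + 1 + 1))) b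
      · rw [if_pos hab]
        have : a + 1 = b := by rw [hab, Equiv.subRight_apply, sub_add_cancel]
        rw [this, mul_comm]
      · rw [if_neg hab, mul_zero, zero_mul]
    have h2 : (h' : Matrix (Fin (m + 1 + 1)) (Fin (m + 1 + 1)) K) =
        (w : Matrix (Fin (m + 1 + 1)) (Fin (m + 1 + 1)) K) * (h : Matrix (Fin (m + 1 + 1)) (Fin (m + 1 + 1)) K) *
          ((w⁻¹ : Matrix.SpecialLinearGroup (Fin (m + 1 + 1)) K) : Matrix (Fin (m + 1 + 1)) (Fin (m + 1 + 1)) K) := by
      rw [hh'def, Matrix.SpecialLinearGroup.coe_mul, Matrix.SpecialLinearGroup.coe_mul]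
    rw [h2, ← h1, Matrix.mul_assoc, ← Matrix.SpecialLinearGroup.coe_mul, mul_inv_cancel,
      Matrix.SpecialLinearGroup.coe_one, Matrix.mul_one]
  have hconj' := fun (s : K) => conj_diag h' _ hh' (fun a => hcne (a + 1)) h01 s
  have hconj : ∀ s : K, h * Matrix.SpecialLinearGroup.transvection h01 s * h⁻¹ =
      Matrix.SpecialLinearGroup.transvection h01 ((k : K) ^ 2 * s) := by
    intro s
    rw [conj_diag h _ hh hcne h01 s, hc0, hc1]
    congr 1
    rw [Units.val_inv_eq_inv_val, inv_inv]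
    ring
  have hcomm : h * h' = h' * h := diag_comm h h' _ _ hh hh'
  -- the commutator
  have htv : h * (x * w * h * (x * w)⁻¹) * h⁻¹ * (x * w * h * (x * w)⁻¹)⁻¹ =
      Matrix.SpecialLinearGroup.transvection h01 (((k : K) ^ 2 - 1) * (1 - ((k⁻¹ : Kˣ) : K))) := by
    have e1 : x * w * h * (x * w)⁻¹ = x * h' * x⁻¹ := by rw [hh'def]; group
    have e2 : h * (x * h' * x⁻¹) * h⁻¹ * (x * h' * x⁻¹)⁻¹ =
        (h * x * h⁻¹) * ((h * h' * h⁻¹) * ((h * x * h⁻¹)⁻¹ * x) * h'⁻¹) * x⁻¹ := by group
    have e3 : h * h' * h⁻¹ = h' := by rw [hcomm, mul_inv_cancel_right]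
    have einv : ∀ s : K, (Matrix.SpecialLinearGroup.transvection h01 s)⁻¹ =
        Matrix.SpecialLinearGroup.transvection h01 (-s) := by
      intro s
      rw [inv_eq_iff_mul_eq_one, tv_mul_same, add_neg_cancel, tv_zero]
    rw [e1, e2, e3, hxdef, hconj, einv, tv_mul_same, hconj', tv_mul_same, einv, tv_mul_same]
    congr 1
    rw [zero_add, hc1, hc2]
    ring
  have hcoef : ((k : K) ^ 2 - 1) * (1 - ((k⁻¹ : Kˣ) : K)) ≠ 0 := by
    refine mul_ne_zero (sub_ne_zero.2 hk2') (sub_ne_zero.2 ?_)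
    intro e
    apply hk1'
    have h1 : ((k⁻¹ : Kˣ) : K) * k = 1 := by rw [← Units.val_mul, inv_mul_cancel, Units.val_one]
    rwa [← e, one_mul] at h1
  have hgen := closure_image_eq_top φ hs hk.ge (Cfsg.Agent.S2402.result hK (m + 1) (by omega) k hk' h x w rfl rfl hw)
  rw [Set.image_pair] at hgen
  intro V _ _ _ hV hirr hne
  set X := Matrix.SpecialLinearGroup.transvection h01 (((k : K) ^ 2 - 1) * (1 - ((k⁻¹ : Kˣ) : K))) with hX
  have hX1 : φ X ≠ 1 := fun e => hcoef (tv_mem_center h01 (by rw [← hk]; exact e))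
  obtain ⟨v, hv⟩ := faithful hne hX1
  have hφ : φ h * (φ (x * w) * φ h * (φ (x * w))⁻¹) * (φ h)⁻¹ * (φ (x * w) * φ h * (φ (x * w))⁻¹)⁻¹ = φ X := by
    rw [← htv]
    simp only [map_mul, map_inv]
  refine small_of_steinberg_two hV hgen (n := Fintype.card K - 1) ?_ ?_ ?_ (w := v) ?_
  · rw [← map_pow, D_pow ⟨c, hh, hcne⟩, map_one]
  · have h1 : 2 ∣ Fintype.card K := by
      obtain ⟨j, -, hj⟩ := FiniteField.card K 2
      rw [hj]
      exact dvd_pow_self _ j.2.ne'
    obtain ⟨r, hr⟩ := h1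
    exact ⟨r - 1, by omega⟩
  · rw [hφ, ← map_pow, hX, pow_two, tv_mul_same, CharTwo.add_self_eq_zero, tv_zero, map_one]
  · rw [hφ]
    exact hv

/-- **`PSL_n(q)`, `n ≥ 3`, defining characteristic**, for a surjection with central kernel -/
theorem cohAt_sl [Fintype K] (hn : 2 ≤ n) {p : ℕ} (hp : p.Prime) [CharP K p] {T : Type u} [Group T]
    [Finite T] [IsSimpleGroup T] (hna : ¬ IsMulCommutative T) (φ : Matrix.SpecialLinearGroup (Fin (n + 1)) K →* T)
    (hs : Function.Surjective φ) (hk : φ.ker = Subgroup.center _) : CohAt p T := by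
  by_cases hp2 : p = 2
  · subst hp2
    rcases Nat.lt_or_ge 3 (Fintype.card K) with hK | hK
    · exact cohAt_two hn hK φ hs hk
    · have h2 : Fintype.card K = 2 := by
        obtain ⟨j, -, hj⟩ := FiniteField.card K 2
        have h1 : 2 ∣ Fintype.card K := by
          rw [hj]
          exact dvd_pow_self _ j.2.ne'
        have hq : 1 < Fintype.card K := Fintype.one_lt_card
        omega
      exact (invGen_two (by omega) h2 φ hs hk).coh hna 2 hp
  · exact cohAt_odd hn hp hp2 φ hs hk

end PslN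

/-- **Task 3326.** -/
theorem cohAt_psl {T : Type u} [Group T] [Finite T] [IsSimpleGroup T] (hna : ¬ IsMulCommutative T)
    (F : Type*) [Field F] [Fintype F] (n : ℕ) (hn : 3 ≤ n) {p : ℕ} (hp : p.Prime) [CharP F p]
    (e : Nonempty (T ≃* Matrix.ProjectiveSpecialLinearGroup (Fin n) F)) : CohAt p T := by
  obtain ⟨e⟩ := e
  obtain ⟨m, rfl⟩ : ∃ m, n = m + 1 := ⟨n - 1, by omega⟩
  refine PslN.cohAt_sl (K := F) (n := m) (by omega) hp hna
    (e.symm.toMonoidHom.comp (QuotientGroup.mk' (Subgroup.center (Matrix.SpecialLinearGroup (Fin (m + 1)) F)))) ?_ ?_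
  · exact e.symm.surjective.comp (QuotientGroup.mk'_surjective _)
  · ext g
    rw [MonoidHom.mem_ker, MonoidHom.comp_apply]
    have h1 : e.symm.toMonoidHom (QuotientGroup.mk' (Subgroup.center (Matrix.SpecialLinearGroup (Fin (m + 1)) F)) g) =
        1 ↔ QuotientGroup.mk' (Subgroup.center (Matrix.SpecialLinearGroup (Fin (m + 1)) F)) g = 1 :=
      map_eq_one_iff e.symm e.symm.injective
    rw [h1]
    exact QuotientGroup.eq_one_iff g

end Cfsg.Agent.H648.DG
end

-- part: H795/DG/CohPSp
section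
/-!
# TEAM GEN, S4180, K9b: derivations of `PSp_2m(q)` in the defining characteristic (helper795)

`cohAt_psp`: `PSp_2m(q) = ⟨s, u w⟩` with `s` a Singer element (of order prime to `p`) inverted by `w`. If `s` has a
nonzero fixed vector, `small_of_fixed`. Otherwise a derivation vanishing on `s` vanishes on `w` and on the element `z`
(commuting with `s`, inverting `u`), and the involution `z u` gives a condition on the value on `u w`.
-/

set_option autoImplicit false

namespace Cfsg.Agent.H795.DG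

open Cfsg Subgroup Cfsg.Agent.H440.TwoGen Cfsg.Agent.H891.Gen Cfsg.Agent.H891.DG Cfsg.Agent.H490.Der
open Cfsg.Agent.H137.SpModel
open scoped Matrix

universe u

section abs

variable {T V : Type*} [Group T] [AddCommGroup V] [DistribMulAction T V]

/-- the counting core -/
theorem small_core [Finite T] [Finite V] {p : ℕ} (hp : p.Prime) (hV : ∀ v : V, p • v = 0) {s w z y : T}
    (gen : _root_.Subgroup.closure ({s, y * w} : Set T) = ⊤) {n : ℕ} (hn : s ^ n = 1) (hpn : ¬ p ∣ n)
    (hw : w * s = s⁻¹ * w) (hz : z * s = s * z) (hc2 : (z * y) ^ 2 = 1) (hne : ∃ v : V, v + (z * y) • v ≠ 0) :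
    Small T V := by
  by_cases hfix : ∃ v : V, v ≠ 0 ∧ s • v = v
  · obtain ⟨v, hv, hsv⟩ := hfix
    exact small_of_fixed hp hV gen hn hpn hv hsv
  · push Not at hfix
    obtain ⟨v, hv⟩ := hne
    refine small_of_pair gen ⟨0, z⁻¹ • v, ?_⟩
    rintro ⟨d, hd, hds, hdb⟩
    have h0 : ∀ x : V, s • x = x → x = 0 := fun x hx => by
      by_contra h1
      exact hfix x h1 hx
    have hdsi : d s⁻¹ = 0 := by rw [hd.inv, hds, smul_zero, neg_zero]
    have hdw : d w = 0 := by
      apply h0
      have h1 : d (w * s) = d (s⁻¹ * w) := by rw [hw]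
      rw [hd w s, hd s⁻¹ w, hds, hdsi, smul_zero, add_zero, zero_add] at h1
      nth_rw 1 [h1]
      rw [smul_inv_smul]
    have hdz : d z = 0 := by
      apply h0
      have h1 : d (z * s) = d (s * z) := by rw [hz]
      rw [hd z s, hd s z, hds, smul_zero, add_zero, zero_add] at h1
      exact h1.symm
    have hdy : d y = z⁻¹ • v := by
      rw [hd y w, hdw, smul_zero, add_zero] at hdb
      exact hdb
    have hdc : d (z * y) = v := by
      rw [hd z y, hdz, zero_add, hdy, smul_inv_smul]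
    apply hv
    have h2 : d ((z * y) ^ 2) = 0 := by rw [hc2, hd.one]
    rw [pow_two, hd, hdc] at h2
    exact h2

theorem faithful [IsSimpleGroup T] (h : ∃ (g : T) (v : V), g • v ≠ v) {g : T} (hg : ∀ v : V, g • v = v) : g = 1 := by
  let K : Subgroup T := (MulAction.toPermHom T V).ker
  have hK : ∀ x, x ∈ K ↔ ∀ v : V, x • v = v := by
    intro x
    rw [MonoidHom.mem_ker]
    constructor
    · intro h1 v
      exact congrArg (fun f : Equiv.Perm V => f v) h1
    · intro h1
      exact Equiv.ext h1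
  have hN : K.Normal := inferInstance
  rcases hN.eq_bot_or_eq_top with h1 | h1
  · have : g ∈ K := (hK g).2 hg
    rw [h1, mem_bot] at this
    exact this
  · obtain ⟨x, v, hx⟩ := h
    exact absurd ((hK x).1 (by rw [h1]; exact mem_top x) v) hx

/-- a noncentral element does not act as `-1` -/
theorem exists_add_ne [IsSimpleGroup T] (h : ∃ (g : T) (v : V), g • v ≠ v) {c t : T} (hc : c * t ≠ t * c) :
    ∃ v : V, v + c • v ≠ 0 := by
  by_contra hne
  push Not at hne
  have h1 : ∀ v : V, c • v = - v := fun v => (neg_eq_of_add_eq_zero_right (hne v)).symm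
  apply hc
  have h2 : c * t * (t * c)⁻¹ = 1 := by
    apply faithful h
    intro v
    have h3 : ∀ v : V, (c * t) • v = (t * c) • v := by
      intro v
      rw [mul_smul, mul_smul, h1, h1, smul_neg]
    rw [mul_smul, h3, smul_inv_smul]
  exact mul_inv_eq_one.1 h2

end abs

section model

variable {F K : Type*} [Field F] [Field K] [Algebra F K]

/-- `-1` on the last two coordinates -/
def z0 : M F K ≃ₗ[F] M F K where
  toFun v := (v.1, v.2.1, -v.2.2.1, -v.2.2.2)
  invFun v := (v.1, v.2.1, -v.2.2.1, -v.2.2.2)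
  map_add' u v := by
    ext
    · simp
    · simp
    · simp only [_root_.Prod.snd_add, _root_.Prod.fst_add, _root_.neg_add_rev, _root_.Prod.mk_add_mk]; abel
    · simp only [_root_.Prod.snd_add, _root_.neg_add_rev, _root_.Prod.mk_add_mk]; abel
  map_smul' a v := by ext <;> simp only [_root_.Prod.smul_fst, _root_.RingHom.id_apply, _root_.Prod.smul_mk, _root_.smul_eq_mul, _root_.mul_neg, _root_.Prod.smul_snd]
  left_inv v := by ext <;> simp
  right_inv v := by ext <;> simp

theorem z0_apply (v : M F K) : z0 (F := F) (K := K) v = (v.1, v.2.1, -v.2.2.1, -v.2.2.2) := rfl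

theorem z0_mem : z0 (F := F) (K := K) ∈ Sp F K := by
  intro u v
  simp only [z0_apply, B_def]
  ring

theorem z0_S (c : Kˣ) : z0 * S (F := F) c = S c * z0 := by
  apply LinearEquiv.ext
  intro v
  show z0 (S c v) = S c (z0 v)
  simp only [z0_apply, S_apply]

theorem z0_U (z : K) : U (F := F) z * z0 = z0 * U (-z) := by
  apply LinearEquiv.ext
  intro v
  show U z (z0 v) = z0 (U (-z) v)
  simp only [z0_apply, U_apply]
  ext
  · simp
  · simp
  · simp only [_root_.neg_mul, _root_.map_neg, _root_.sub_neg_eq_add, _root_.neg_add_rev]; abel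
  · simp

theorem z0_z0 : z0 (F := F) (K := K) * z0 = 1 := by
  apply LinearEquiv.ext
  intro v
  show z0 (z0 v) = v
  simp only [z0_apply, neg_neg]

variable {k : ℕ}

theorem psi_injective [FiniteDimensional F K] [Algebra.IsSeparable F K] (b : Module.Basis (Fin k) F K) :
    Function.Injective (Cfsg.Agent.H137.psi b) := by
  intro x y h
  apply Subtype.ext
  apply LinearEquiv.ext
  intro v
  have h1 : ∀ t, (Cfsg.Agent.H137.Phi b).symm ((x : M F K ≃ₗ[F] M F K) (Cfsg.Agent.H137.Phi b t)) =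
      (Cfsg.Agent.H137.Phi b).symm ((y : M F K ≃ₗ[F] M F K) (Cfsg.Agent.H137.Phi b t)) := by
    intro t
    rw [← Cfsg.Agent.H137.psi_mulVec, ← Cfsg.Agent.H137.psi_mulVec, h]
  have h2 := h1 ((Cfsg.Agent.H137.Phi b).symm v)
  rw [LinearEquiv.apply_symm_apply] at h2
  exact (Cfsg.Agent.H137.Phi b).symm.injective h2

/-- the images of two elements generating all the transvections -/
theorem gen_top [FiniteDimensional F K] [Algebra.IsSeparable F K] (b : Module.Basis (Fin k) F K)
    {a c : M F K ≃ₗ[F] M F K} (ha : a ∈ Sp F K) (hc' : c ∈ Sp F K)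
    (hac : ∀ (u : M F K) (t : F), ∃ g ∈ Subgroup.closure {a, c}, ∀ v, g v = v + (t * B v u) • u) :
    Subgroup.closure ({Cfsg.Agent.H137.psi b ⟨a, ha⟩, Cfsg.Agent.H137.psi b ⟨c, hc'⟩} :
      Set (Matrix.symplecticGroup (Fin (k + 1)) F)) = ⊤ := by
  rw [eq_top_iff, ← Cfsg.Agent.S0765.result, Subgroup.closure_le]
  rintro A ⟨w, t, hA⟩
  obtain ⟨g, hg, hgv⟩ := hac (Cfsg.Agent.H137.Phi b w) t
  have hgS : g ∈ Sp F K := by
    refine (?_ : Subgroup.closure {a, c} ≤ Sp F K) hg
    rw [Subgroup.closure_le]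
    rintro x (rfl | rfl)
    · exact ha
    · exact hc'
  have e1 : Cfsg.Agent.H137.psi b ⟨g, hgS⟩ = A := by
    apply Subtype.ext
    rw [← Matrix.mulVec_injective.eq_iff]
    funext x
    show (Cfsg.Agent.H137.psi b ⟨g, hgS⟩ : Matrix (Fin (k + 1) ⊕ Fin (k + 1)) (Fin (k + 1) ⊕ Fin (k + 1)) F) *ᵥ x =
      A.1 *ᵥ x
    rw [Cfsg.Agent.H137.psi_mulVec, hA, Cfsg.Agent.ClassicalGeometry.SympBasic.sympTransvection_mulVec]
    show (Cfsg.Agent.H137.Phi b).symm (g (Cfsg.Agent.H137.Phi b x)) = _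
    rw [hgv, map_add, map_smul, LinearEquiv.symm_apply_apply, LinearEquiv.symm_apply_apply,
      Cfsg.Agent.H137.B_Phi]
  have e2 : (⟨g, hgS⟩ : Sp F K) ∈ Subgroup.closure ({⟨a, ha⟩, ⟨c, hc'⟩} : Set (Sp F K)) := by
    have e3 : Subgroup.map (Sp F K).subtype (Subgroup.closure ({⟨a, ha⟩, ⟨c, hc'⟩} : Set (Sp F K))) =
        Subgroup.closure {a, c} := by
      rw [MonoidHom.map_closure, Set.image_pair]
      rfl
    rw [← e3] at hg
    obtain ⟨g', hg', e4⟩ := hg
    have e5 : g' = ⟨g, hgS⟩ := Subtype.ext e4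
    rwa [e5] at hg'
  have e6 := Subgroup.mem_map_of_mem (Cfsg.Agent.H137.psi b) e2
  rw [MonoidHom.map_closure, Set.image_pair, e1] at e6
  exact e6

end model

/-- **`PSp_2m(q)` in the defining characteristic.** -/
theorem cohAt_psp {T : Type u} [Group T] [Finite T] [IsSimpleGroup T] {F : Type} [Field F] [Fintype F] {m : ℕ}
    (hm : 2 ≤ m) (h3 : m = 2 → 3 ≤ Fintype.card F) (e : Nonempty (T ≃* Cfsg.PSp m F)) {p : ℕ} (hp : p.Prime)
    [CharP F p] : CohAt p T := by
  intro V _ _ _ hV hirr hnt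
  obtain ⟨e⟩ := e
  obtain ⟨k, rfl⟩ : ∃ k, m = k + 1 := ⟨m - 1, by omega⟩
  have hk : k ≠ 0 := by omega
  have hc : 2 < Nat.card F ^ k := by
    rw [Nat.card_eq_fintype_card]
    have h2 : 2 ≤ Fintype.card F := Fintype.one_lt_card
    by_cases hk : k = 1
    · rw [hk, pow_one]
      exact h3 (by omega)
    · calc 2 < 2 ^ 2 := by norm_num
        _ ≤ 2 ^ k := Nat.pow_le_pow_right (by norm_num) (by omega)
        _ ≤ Fintype.card F ^ k := Nat.pow_le_pow_left h2 k
  obtain ⟨K, _, _, _, hK⟩ := Cfsg.Agent.H137.exists_ext F k hk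
  have : FiniteDimensional F K := Module.finite_of_finrank_pos (by omega)
  have : Algebra.IsSeparable F K := inferInstance
  let b : Module.Basis (Fin k) F K := (Module.finBasis F K).reindex (finCongr hK)
  have hcard : 2 < Nat.card K := by
    rwa [Module.natCard_eq_pow_finrank (K := F) (V := K), hK]
  obtain ⟨g, hg⟩ := IsCyclic.exists_generator (α := Kˣ)
  have hg1 : g ≠ 1 := by
    rintro rfl
    have h1 : Nat.card Kˣ = 1 := by
      rw [Nat.card_eq_one_iff_unique]
      refine ⟨⟨fun a b => ?_⟩, ⟨1⟩⟩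
      have h2 := hg a
      have h3 := hg b
      rw [Subgroup.zpowers_one_eq_bot, Subgroup.mem_bot] at h2 h3
      rw [h2, h3]
    rw [Nat.card_units] at h1
    omega
  have hgK : (g : K) - 1 ≠ 0 := by
    intro h
    apply hg1
    apply Units.ext
    rw [Units.val_one]
    linear_combination h
  -- the homomorphism
  let π : Sp F K →* T := e.symm.toMonoidHom.comp ((QuotientGroup.mk' _).comp (Cfsg.Agent.H137.psi b))
  have hπ : ∀ x : Sp F K, π x = 1 → ∀ y : Sp F K, x * y = y * x := by
    intro x hx y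
    have h1 : (QuotientGroup.mk' (Subgroup.center (Matrix.symplecticGroup (Fin (k + 1)) F)))
        (Cfsg.Agent.H137.psi b x) = 1 := by
      apply e.symm.injective
      rw [map_one]
      exact hx
    have h2 : Cfsg.Agent.H137.psi b x ∈ Subgroup.center (Matrix.symplecticGroup (Fin (k + 1)) F) :=
      (QuotientGroup.eq_one_iff _).1 h1
    apply psi_injective b
    rw [map_mul, map_mul]
    exact ((Subgroup.mem_center_iff.1 h2) _).symm
  let xs : Sp F K := ⟨S g, S_mem g⟩
  let xw : Sp F K := ⟨w, w_mem⟩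
  let xu : Sp F K := ⟨U 1, U_mem 1⟩
  let xz : Sp F K := ⟨z0, z0_mem⟩
  let xd : Sp F K := ⟨U ((g : K) - 1), U_mem _⟩
  have r1 : xw * xs = xs⁻¹ * xw := by
    apply Subtype.ext
    show w * S (F := F) g = (S (F := F) g)⁻¹ * w
    rw [← S_inv, ← w_S]
    group
  have r2 : xz * xs = xs * xz := Subtype.ext (z0_S g)
  have r3 : (xz * xu) ^ 2 = 1 := by
    apply Subtype.ext
    show (z0 * U (F := F) (1 : K)) ^ 2 = 1
    rw [pow_two]
    calc z0 * U (F := F) (1 : K) * (z0 * U (F := F) (1 : K)) = z0 * (U (F := F) (1 : K) * z0) * U (F := F) (1 : K) := by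
          group
      _ = z0 * (z0 * U (F := F) (-1 : K)) * U (F := F) (1 : K) := by rw [z0_U]
      _ = (z0 * z0) * (U (F := F) (-1 : K) * U (F := F) (1 : K)) := by group
      _ = 1 := by rw [z0_z0, ← U_add, neg_add_cancel, U_zero, mul_one]
  have r4 : (xz * xu) * xs = xd * (xs * (xz * xu)) := by
    apply Subtype.ext
    show z0 * U (F := F) (1 : K) * S (F := F) g = U (F := F) ((g : K) - 1) * (S (F := F) g * (z0 * U (F := F) (1 : K)))
    have h1 : S (F := F) g * U (F := F) (1 : K) = U (F := F) (g : K) * S (F := F) g := by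
      have := S_U (F := F) g (1 : K)
      rw [mul_one] at this
      rw [← this]; group
    calc z0 * U (F := F) (1 : K) * S (F := F) g
        = z0 * U (F := F) (-((g : K) - 1) + (g : K)) * S (F := F) g := by congr 3; ring
      _ = (z0 * U (F := F) (-((g : K) - 1))) * (U (F := F) (g : K) * S (F := F) g) := by rw [U_add]; group
      _ = (U (F := F) ((g : K) - 1) * z0) * (S (F := F) g * U (F := F) (1 : K)) := by rw [z0_U, h1]
      _ = U (F := F) ((g : K) - 1) * (z0 * S (F := F) g) * U (F := F) (1 : K) := by group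
      _ = U (F := F) ((g : K) - 1) * (S (F := F) g * (z0 * U (F := F) (1 : K))) := by rw [z0_S]; group
  have hd : xd * xw ≠ xw * xd := by
    intro h
    have h1 := congrArg (fun x : Sp F K => (x : M F K ≃ₗ[F] M F K) (0, 0, 0, 1)) h
    have h2 : U (F := F) ((g : K) - 1) (w (F := F) (K := K) (0, 0, 0, 1)) =
        w (F := F) (K := K) (U (F := F) ((g : K) - 1) (0, 0, 0, 1)) := h1
    have h3 := congrArg Prod.fst h2
    simp only [U_apply, w_apply] at h3
    apply hgK
    simpa only [_root_.neg_zero, _root_.zero_sub, _root_.neg_smul, _root_.one_smul, _root_.neg_sub] using h3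
  have hnc : π (xz * xu) * π xs ≠ π xs * π (xz * xu) := by
    intro h
    rw [← map_mul, ← map_mul, r4, map_mul] at h
    have h1 : π xd = 1 := by
      have := mul_eq_right.1 h
      exact this
    exact hd (hπ xd h1 xw)
  -- generation
  have gen : _root_.Subgroup.closure ({π xs, π xu * π xw} : Set T) = ⊤ := by
    have h1 : _root_.Subgroup.closure ({Cfsg.Agent.H137.psi b xs, Cfsg.Agent.H137.psi b (xu * xw)} :
        Set (Matrix.symplecticGroup (Fin (k + 1)) F)) = ⊤ := by
      refine gen_top b (S_mem g) ((Sp F K).mul_mem (U_mem 1) w_mem) ?_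
      set H := Subgroup.closure {S (F := F) g, U (F := F) (1 : K) * w} with hH
      have h1 : S (F := F) g ∈ H := Subgroup.subset_closure (by simp)
      have h2 : U (F := F) (1 : K) * w ∈ H := Subgroup.subset_closure (by simp)
      have hHS : H ≤ Sp F K := by
        rw [hH, Subgroup.closure_le]
        rintro x (rfl | rfl)
        · exact S_mem g
        · exact (Sp F K).mul_mem (U_mem 1) w_mem
      obtain ⟨hU, hw⟩ := U_w_mem hg hg1 h1 h2
      intro u c
      exact X_all hHS hU hw u c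
    have h2 := congrArg (Subgroup.map (e.symm.toMonoidHom.comp (QuotientGroup.mk' _))) h1
    rw [MonoidHom.map_closure, Set.image_pair, ← MonoidHom.range_eq_map, MonoidHom.range_eq_top.2
      (e.symm.surjective.comp (QuotientGroup.mk'_surjective _))] at h2
    rw [← map_mul]
    exact h2
  -- the order of `s`
  have hchar : CharP K p := charP_of_injective_algebraMap (FaithfulSMul.algebraMap_injective F K) p
  have hpn : ¬ p ∣ Nat.card Kˣ := by
    rw [Nat.card_units]
    have := Fact.mk hp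
    have := Fintype.ofFinite K
    obtain ⟨j, -, hj⟩ := FiniteField.card K p
    rw [Nat.card_eq_fintype_card, hj]
    intro h
    have h1 : p ∣ p ^ (j : ℕ) := dvd_pow_self p j.2.ne'
    have h2 : 1 ≤ p ^ (j : ℕ) := Nat.one_le_pow _ _ hp.pos
    have h3 := (Nat.dvd_sub h1 h)
    rw [Nat.sub_sub_self h2] at h3
    exact hp.one_lt.ne' (Nat.dvd_one.1 h3)
  have hsn : π xs ^ Nat.card Kˣ = 1 := by
    rw [← map_pow]
    have h1 : xs ^ Nat.card Kˣ = 1 := by
      apply Subtype.ext
      show S (F := F) g ^ Nat.card Kˣ = 1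
      have h2 : S (F := F) (g ^ Nat.card Kˣ) = S (F := F) g ^ Nat.card Kˣ := map_pow SHom g _
      rw [← h2, pow_card_eq_one', S_one]
    rw [h1, map_one]
  refine small_core hp hV gen hsn hpn (z := π xz) ?_ ?_ ?_ ?_
  · rw [← map_mul, r1, map_mul, map_inv]
  · rw [← map_mul, r2, map_mul]
  · rw [← map_mul, ← map_pow, r3, map_one]
  · rw [← map_mul]
    exact exists_add_ne hnt hnc

end Cfsg.Agent.H795.DG
end

-- part: H753/CohSz
section
/-!
# TEAM GEN (S4180), K5: the Suzuki groups are generated by an involution and another element (helper753, task 3322)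

* `card_lt` : a self-centralizing cyclic subgroup and an invariant subgroup meeting it trivially;
* `exists_pair` : `Sz(q) = ⟨c, b⟩`, `c` an involution.
-/

set_option autoImplicit false

namespace Cfsg.Agent.H753.CohSz

open Subgroup

universe u

/-- `b` normalises `W`, `C(u) = ⟨b⟩` for all `1 ≠ u ∈ ⟨b⟩`, `W ∩ ⟨b⟩ = 1 ≠ W`: then `o(b) < |W|`. -/
theorem card_lt {G : Type*} [Group G] [Finite G] {b : G}
    (hb : ∀ u ∈ zpowers b, u ≠ 1 → centralizer ({u} : Set G) = zpowers b) {W : Subgroup G}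
    (hW : b ∈ normalizer (W : Set G)) (h1 : W ≠ ⊥) (h2 : ∀ w ∈ W, w ∈ zpowers b → w = 1) : orderOf b < Nat.card W := by
  classical
  obtain ⟨⟨w, hw⟩, hw1⟩ := (Subgroup.ne_bot_iff_exists_ne_one).1 h1
  have hw1' : w ≠ 1 := fun h => hw1 (Subtype.ext h)
  have hz : zpowers b ≤ normalizer (W : Set G) := (zpowers_le).2 hW
  let f : Option (zpowers b) → W := fun o => o.elim 1 fun x =>
    ⟨x * w * (x : G)⁻¹, (mem_normalizer_iff.1 (hz x.2) w).1 hw⟩
  have hf : Function.Injective f := by
    rintro (_ | x) (_ | y) h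
    · rfl
    · exfalso
      have h3 : (1 : G) = y * w * (y : G)⁻¹ := congrArg Subtype.val h
      apply hw1'
      calc w = (y : G)⁻¹ * (y * w * (y : G)⁻¹) * y := by group
        _ = 1 := by rw [← h3]; group
    · exfalso
      have h3 : x * w * (x : G)⁻¹ = 1 := congrArg Subtype.val h
      apply hw1'
      calc w = (x : G)⁻¹ * (x * w * (x : G)⁻¹) * x := by group
        _ = 1 := by rw [h3]; group
    · have h3 : x * w * (x : G)⁻¹ = y * w * (y : G)⁻¹ := congrArg Subtype.val h
      by_contra hne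
      have hxy : (y : G)⁻¹ * x ≠ 1 := by
        intro h4
        apply hne
        rw [inv_mul_eq_one] at h4
        rw [Subtype.ext h4]
      have h5 : (y : G)⁻¹ * x ∈ zpowers b := mul_mem (inv_mem y.2) x.2
      have h6 : w ∈ centralizer ({(y : G)⁻¹ * x} : Set G) := by
        rw [mem_centralizer_singleton_iff]
        calc w * ((y : G)⁻¹ * x) = (y : G)⁻¹ * (y * w * (y : G)⁻¹) * x := by group
          _ = (y : G)⁻¹ * (x * w * (x : G)⁻¹) * x := by rw [h3]
          _ = (y : G)⁻¹ * x * w := by group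
      rw [hb _ h5 hxy] at h6
      exact hw1' (h2 w hw h6)
  have h3 := Nat.card_le_card_of_injective f hf
  have h4 : Nat.card (Option (zpowers b)) = orderOf b + 1 := by
    rw [Finite.card_option, Nat.card_zpowers]
  omega

/-- the normalizer of a nontrivial subgroup of `⟨b⟩` -/
theorem normalizer_le {G : Type*} [Group G] {b : G}
    (hb : ∀ u ∈ zpowers b, u ≠ 1 → centralizer ({u} : Set G) = zpowers b) {W : Subgroup G} (hWc : IsMulCommutative W)
    {w : G} (hw : w ∈ W) (hwb : w ∈ zpowers b) (hw1 : w ≠ 1) :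
    normalizer (W : Set G) ≤ normalizer (zpowers b : Set G) := by
  have hWb : W ≤ zpowers b := by
    rw [← hb w hwb hw1]
    intro x hx
    rw [mem_centralizer_singleton_iff]
    exact congrArg Subtype.val (hWc.is_comm.comm (⟨x, hx⟩ : W) ⟨w, hw⟩)
  intro g hg
  have hgw : g * w * g⁻¹ ∈ W := (mem_normalizer_iff.1 hg w).1 hw
  have hgw1 : g * w * g⁻¹ ≠ 1 := by
    intro h
    apply hw1
    calc w = g⁻¹ * (g * w * g⁻¹) * g := by group
      _ = 1 := by rw [h]; group
  rw [mem_normalizer_iff]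
  intro x
  conv_lhs => rw [← hb w hwb hw1]
  rw [← hb _ (hWb hgw) hgw1, mem_centralizer_singleton_iff, mem_centralizer_singleton_iff]
  constructor
  · intro h
    calc g * x * g⁻¹ * (g * w * g⁻¹) = g * (x * w) * g⁻¹ := by group
      _ = g * (w * x) * g⁻¹ := by rw [h]
      _ = _ := by group
  · intro h
    calc x * w = g⁻¹ * (g * x * g⁻¹ * (g * w * g⁻¹)) * g := by group
      _ = g⁻¹ * (g * w * g⁻¹ * (g * x * g⁻¹)) * g := by rw [h]
      _ = _ := by group

variable {F : Type*} [Field F] [Fintype F] {m : ℕ}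

/-- an involution outside a proper subgroup with a nontrivial normal subgroup.. -/
theorem exists_involution {G : Type*} [Group G] [Finite G] [IsSimpleGroup G] (h2 : 2 ∣ Nat.card G) {N : Subgroup G}
    (hN : N ≠ ⊤) : ∃ c : G, c ^ 2 = 1 ∧ c ≠ 1 ∧ c ∉ N := by
  by_contra hcon
  push Not at hcon
  have : Fact (Nat.Prime 2) := ⟨Nat.prime_two⟩
  obtain ⟨t, ht⟩ := exists_prime_orderOf_dvd_card' (G := G) 2 h2
  have ht2 : t ^ 2 = 1 := by rw [← ht, pow_orderOf_eq_one]
  have ht1 : t ≠ 1 := by
    rintro rfl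
    rw [orderOf_one] at ht
    omega
  have h3 : normalClosure {t} = ⊤ := by
    rcases IsSimpleGroup.eq_bot_or_eq_top_of_normal (normalClosure {t}) normalClosure_normal with h | h
    · exfalso
      apply ht1
      have : t ∈ normalClosure {t} := subset_normalClosure rfl
      rwa [h, mem_bot] at this
    · exact h
  apply hN
  rw [eq_top_iff, ← h3, normalClosure, closure_le]
  intro y hy
  rw [Group.mem_conjugatesOfSet_iff] at hy
  obtain ⟨x, rfl, hxy⟩ := hy
  obtain ⟨g, rfl⟩ := isConj_iff.1 hxy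
  refine hcon _ ?_ ?_
  · rw [conj_pow, ht2, mul_one, mul_inv_cancel]
  · intro h
    apply ht1
    calc x = g⁻¹ * (g * x * g⁻¹) * g := by group
      _ = 1 := by rw [h]; group

/-- **The Suzuki groups.** -/
theorem exists_pair (hm : 1 ≤ m) (hF : Fintype.card F = 2 ^ (2 * m + 1)) :
    ∃ c b : ↥(Cfsg.Sz F m), c ^ 2 = 1 ∧ c ≠ 1 ∧ _root_.Subgroup.closure ({c, b} : Set ↥(Cfsg.Sz F m)) = ⊤ := by
  have hs : IsSimpleGroup ↥(Cfsg.Sz F m) := S0325.result hm hF
  have hcard := S0324.result hm hF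
  obtain ⟨U, hUc, hUk, hUC, -⟩ := S0333.result hm hF _ (Set.mem_insert _ _)
  obtain ⟨⟨b, hbU⟩, hb⟩ := hUc.exists_generator
  have hzp : zpowers b = U := by
    refine le_antisymm (zpowers_le.2 hbU) fun x hx => ?_
    obtain ⟨j, hj⟩ := mem_zpowers_iff.1 (hb ⟨x, hx⟩)
    exact ⟨j, congrArg Subtype.val hj⟩
  have hbo : orderOf b = 2 ^ (2 * m + 1) + 2 ^ (m + 1) + 1 := by rw [← Nat.card_zpowers, hzp, hUk]
  have hC : ∀ u ∈ zpowers b, u ≠ 1 → centralizer ({u} : Set ↥(Cfsg.Sz F m)) = zpowers b := by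
    rw [hzp]
    exact hUC
  have h8 : 2 ^ 3 ≤ 2 ^ (2 * m + 1) := Nat.pow_le_pow_right (by norm_num) (by omega)
  have hr : 0 < 2 ^ (m + 1) := by positivity
  have hodd : ¬ 2 ∣ orderOf b := by
    rw [hbo, pow_succ, pow_succ]
    omega
  have hb1 : b ≠ 1 := by
    rintro rfl
    rw [orderOf_one] at hbo
    omega
  have h2 : 2 ∣ Nat.card ↥(Cfsg.Sz F m) := by
    rw [hcard]
    refine Dvd.dvd.mul_right (Dvd.dvd.mul_right ?_ _) _
    exact dvd_pow (dvd_pow_self 2 (by omega)) (by norm_num)
  have hN : normalizer (zpowers b : Set ↥(Cfsg.Sz F m)) ≠ ⊤ := by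
    intro h
    have hn : (zpowers b).Normal := normalizer_eq_top_iff.1 h
    rcases hs.eq_bot_or_eq_top_of_normal _ hn with h3 | h3
    · exact hb1 (zpowers_eq_bot.1 h3)
    · apply hodd
      rwa [← Nat.card_zpowers, h3, card_top]
  obtain ⟨c, hc2, hc1, hcN⟩ := exists_involution h2 hN
  refine ⟨c, b, hc2, hc1, ?_⟩
  set M := _root_.Subgroup.closure ({c, b} : Set ↥(Cfsg.Sz F m)) with hM
  have hcM : c ∈ M := _root_.Subgroup.subset_closure (by simp)
  have hbM : b ∈ M := _root_.Subgroup.subset_closure (by simp)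
  by_contra hMt
  rcases S2251.result hm hF M hMt with ⟨P, hP⟩ | ⟨U', hU'c, hU', hMU⟩ | ⟨K, iK, iKf, k, hk1, hkm, hK, hdvd, S, ⟨e⟩, hMS⟩
  · -- the normalizer of a Sylow 2-subgroup
    have hPc := (S0330.result hm hF P).2.2.2
    let W : Subgroup ↥(Cfsg.Sz F m) := (center (P : Subgroup ↥(Cfsg.Sz F m))).map (P : Subgroup ↥(Cfsg.Sz F m)).subtype
    have hWc : Nat.card W = 2 ^ (2 * m + 1) := by
      rw [← hPc]
      exact card_map_of_injective (P : Subgroup ↥(Cfsg.Sz F m)).subtype_injective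
    have hbW : b ∈ normalizer (W : Set ↥(Cfsg.Sz F m)) := by
      have hbP := hP hbM
      have key : ∀ g ∈ normalizer ((P : Subgroup ↥(Cfsg.Sz F m)) : Set ↥(Cfsg.Sz F m)), ∀ x ∈ W, g * x * g⁻¹ ∈ W := by
        rintro g hg _ ⟨x, hx, rfl⟩
        have hgx : g * (x : ↥(Cfsg.Sz F m)) * g⁻¹ ∈ (P : Subgroup ↥(Cfsg.Sz F m)) := (mem_normalizer_iff.1 hg _).1 x.2
        refine ⟨⟨g * (x : ↥(Cfsg.Sz F m)) * g⁻¹, hgx⟩, ?_, rfl⟩
        change _ ∈ center (P : Subgroup ↥(Cfsg.Sz F m))
        rw [mem_center_iff]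
        intro y
        apply Subtype.ext
        have hgy : g⁻¹ * (y : ↥(Cfsg.Sz F m)) * g ∈ (P : Subgroup ↥(Cfsg.Sz F m)) := by
          have h3 := (mem_normalizer_iff.1 (inv_mem hg) (y : ↥(Cfsg.Sz F m))).1 y.2
          rwa [inv_inv] at h3
        have h4 : (g⁻¹ * (y : ↥(Cfsg.Sz F m)) * g) * x = x * (g⁻¹ * (y : ↥(Cfsg.Sz F m)) * g) :=
          congrArg Subtype.val (mem_center_iff.1 hx ⟨_, hgy⟩)
        change (y : ↥(Cfsg.Sz F m)) * (g * x * g⁻¹) = g * x * g⁻¹ * y
        calc (y : ↥(Cfsg.Sz F m)) * (g * x * g⁻¹) = g * ((g⁻¹ * (y : ↥(Cfsg.Sz F m)) * g) * x) * g⁻¹ := by group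
          _ = g * (x * (g⁻¹ * (y : ↥(Cfsg.Sz F m)) * g)) * g⁻¹ := by rw [h4]
          _ = _ := by group
      rw [mem_normalizer_iff]
      intro x
      refine ⟨fun hx => key b hbP x hx, fun hx => ?_⟩
      have h3 := key b⁻¹ (inv_mem hbP) _ hx
      have e : b⁻¹ * (b * x * b⁻¹) * b⁻¹⁻¹ = x := by group
      rwa [e] at h3
    have h3 := card_lt hC hbW ?_ ?_
    · rw [hWc, hbo] at h3
      omega
    · intro h
      rw [h, card_bot] at hWc
      (clear * - hWc; omega)
    · intro w hw hwb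
      have h4 : orderOf w ∣ 2 ^ (2 * m + 1) := by
        rw [← hWc]
        exact Subgroup.orderOf_dvd_natCard W hw
      have h5 : orderOf w ∣ orderOf b := by
        rw [← Nat.card_zpowers b]
        exact Subgroup.orderOf_dvd_natCard _ hwb
      have h6 : Nat.Coprime (2 ^ (2 * m + 1)) (orderOf b) :=
        Nat.Coprime.pow_left _ ((Nat.Prime.coprime_iff_not_dvd Nat.prime_two).2 hodd)
      have h7 := Nat.dvd_gcd h4 h5
      rw [h6, Nat.dvd_one, orderOf_eq_one_iff] at h7
      exact h7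
  · -- the normalizer of a torus
    have hle : Nat.card U' ≤ orderOf b := by
      rw [hbo]
      rcases hU' with h | h | h <;> rw [h] <;> (clear * - h8 hr; omega)
    have hne : U' ≠ ⊥ := by
      intro hbot
      have hcb : Nat.card U' = 1 := by rw [hbot, card_bot]
      have h9 : 2 * 2 ^ (m + 1) ≤ 2 ^ (2 * m + 1) := by
        rw [← pow_succ']
        exact Nat.pow_le_pow_right (by norm_num) (by omega)
      rcases hU' with h | h | h
      · rw [hcb] at h
        (clear * - h8 h; omega)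
      · rw [hcb] at h
        (clear * - h8 hr h; omega)
      · rw [Set.mem_singleton_iff, hcb] at h
        (clear * - h8 h9 h; omega)
    by_cases h3 : ∀ w ∈ U', w ∈ zpowers b → w = 1
    · have h4 := card_lt hC (hMU hbM) hne h3
      (clear * - hle h4; omega)
    · push Not at h3
      obtain ⟨w, hw, hwb, hw1⟩ := h3
      exact hcN (normalizer_le hC inferInstance hw hwb hw1 (hMU hcM))
  · -- a smaller Suzuki group
    obtain ⟨e'⟩ := OddCyclic.ClaimC.SzIso.iso (F := K) hk1 hK
    have h3 := CycSz.orderOf_le hk1 hK (e' (e ⟨b, hMS hbM⟩))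
    rw [MulEquiv.orderOf_eq, MulEquiv.orderOf_eq, Subgroup.orderOf_mk, hbo] at h3
    have h4 : 2 ^ (2 * k + 1) < 2 ^ (2 * m + 1) := Nat.pow_lt_pow_right (by norm_num) (by omega)
    have h5 : 2 ^ (k + 1) < 2 ^ (m + 1) := Nat.pow_lt_pow_right (by norm_num) (by omega)
    omega

end Cfsg.Agent.H753.CohSz
end

-- part: H753/CohRee
section
/-!
# TEAM GEN (S4180), K6: generation of the small Ree groups (helper753, task 3323)

`pair_three`, `pair_two` : `²G₂(q) = ⟨A, B⟩` with `A`, `B` of order prime to `3` (to `2`), `A ∩ B ≠ 1`.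
-/

set_option autoImplicit false
set_option linter.unusedSectionVars false

namespace Cfsg.Agent.H753.CohRee

open Subgroup Cfsg.Agent.H968.TwoRee Cfsg.Agent.H753.AbRee
open Cfsg.Agent.LieRecognition.ReeAbs Cfsg.Agent.LieRecognition.ReeSylowThree Cfsg.Agent.LieRecognition.ReeSplit
open Cfsg.Agent.FixBN.RankOneRee Cfsg.Agent.H947.El
open Cfsg.Agent.SignalizersComponents

universe u

theorem not_dvd_sup {G : Type*} [Group G] [Finite G] {p : ℕ} (hp : p.Prime) {X Y : Subgroup G}
    (hn : Y ≤ normalizer (X : Set G)) (hX : ¬ p ∣ Nat.card X) (hY : ¬ p ∣ Nat.card Y) :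
    ¬ p ∣ Nat.card (X ⊔ Y : Subgroup G) := by
  intro h
  rcases (hp.dvd_mul).1 (h.trans (CoprimeBasic.card_sup_dvd hn)) with h | h
  · exact hX h
  · exact hY h

/-- what is used of `²G₂(q)` -/
structure Facts2 (R : Type*) [Group R] (m q r ρ s : ℕ) : Prop where
  F : ReeF R m q r
  N : ReeN m q r ρ
  hs : s.Prime
  hsd : s ∣ (q - 1) / 2
  conj : ∀ a b : R, orderOf a = 2 → orderOf b = 2 → IsConj a b
  /-- an involution and a commuting element of order `s` -/
  two : ∃ j y : R, orderOf j = 2 ∧ orderOf y = s ∧ j * y = y * j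
  /-- a Sylow `3`-subgroup normalised by an element of order `s` -/
  three : ∃ (P : Sylow 3 R) (y : R), orderOf y = s ∧ y ∈ normalizer ((P : Subgroup R) : Set R)

section

variable {R : Type*} [Group R] [Finite R] {m q r ρ s : ℕ} (h : Facts2 R m q r ρ s)

include h

theorem Facts2.s3 : s ≠ 3 := by
  rintro rfl
  have h1 : 3 ∣ q - 1 := h.hsd.trans (Nat.div_dvd_of_dvd (by have := h.N.q4; omega))
  have h2 := h.N.q3
  have h3 := h.N.q27
  omega

theorem Facts2.s2 : s ≠ 2 := by
  rintro rfl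
  have h1 := h.hsd
  have h2 := h.N.q4
  omega

/-- the normaliser of a subgroup of order `ρ` -/
theorem Facts2.six {x : R} (hx : orderOf x = ρ) : 6 ∣ Nat.card (normalizer (zpowers x : Set R)) := by
  have h19 := h.N.q19
  obtain ⟨A, hA, hxA, hc⟩ := h.F.norm ρ h.N.pr (by omega) (zpowers x) (by rw [Nat.card_zpowers, hx])
  have hρ : ρ ∣ Nat.card A := by
    rw [← hx, ← Nat.card_zpowers]
    exact Subgroup.card_dvd_of_le hxA
  rcases hc with ⟨h1, -⟩ | ⟨h1, -⟩ | ⟨-, h1⟩
  · exact absurd (h1 ▸ hρ.mul_left 2) h.N.nq1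
  · exact absurd (h1 ▸ hρ.mul_left 4) h.N.nqp
  · rw [h1]
    exact Dvd.intro _ rfl

theorem Facts2.exists_x : ∃ x : R, orderOf x = ρ := by
  have : Fact ρ.Prime := ⟨h.N.pr⟩
  have hρR : ρ ∣ Nat.card R := by rw [h.F.card, h.N.cube]; exact (h.N.dvd.mul_left _).mul_left _
  exact exists_prime_orderOf_dvd_card' (G := R) ρ hρR

theorem Facts2.eq_top {M : Subgroup R} {x y : R} (hx : orderOf x = ρ) (hy : orderOf y = s) (hxM : x ∈ M) (hyM : y ∈ M) :
    M = ⊤ := by
  refine H768.Der.eq_top h.F h.N M ?_ h.hs h.hsd ?_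
  · rw [← hx]
    exact Subgroup.orderOf_dvd_natCard M hxM
  · rw [← hy]
    exact Subgroup.orderOf_dvd_natCard M hyM

theorem Facts2.pair_three : ∃ A B : Subgroup R, ¬ 3 ∣ Nat.card A ∧ ¬ 3 ∣ Nat.card B ∧ A ⊔ B = ⊤ ∧ A ⊓ B ≠ ⊥ := by
  have : Fact (Nat.Prime 2) := ⟨Nat.prime_two⟩
  obtain ⟨x, hx⟩ := h.exists_x
  obtain ⟨⟨j, hjN⟩, hj⟩ := exists_prime_orderOf_dvd_card' (G := normalizer (zpowers x : Set R)) 2
    ((show 2 ∣ 6 by norm_num).trans (h.six hx))
  rw [Subgroup.orderOf_mk] at hj
  obtain ⟨j₀, y₀, hj₀, hy₀, hjy⟩ := h.two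
  obtain ⟨g, hg⟩ := isConj_iff.1 (h.conj j₀ j hj₀ hj)
  set y := g * y₀ * g⁻¹ with hy
  have hyo : orderOf y = s := by
    rw [hy, ← hy₀]
    exact (MulAut.conj g).orderOf_eq y₀
  have hcomm : j * y = y * j := by
    rw [hy, ← hg]
    calc g * j₀ * g⁻¹ * (g * y₀ * g⁻¹) = g * (j₀ * y₀) * g⁻¹ := by group
      _ = g * (y₀ * j₀) * g⁻¹ := by rw [hjy]
      _ = _ := by group
  have h19 := h.N.q19
  have hρ3 : ¬ 3 ∣ ρ := fun h3 => by
    have := (Nat.prime_dvd_prime_iff_eq Nat.prime_three h.N.pr).1 h3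
    omega
  have hs3 : ¬ 3 ∣ s := fun h3 => h.s3 ((Nat.prime_dvd_prime_iff_eq Nat.prime_three h.hs).1 h3).symm
  refine ⟨zpowers x ⊔ zpowers j, zpowers j ⊔ zpowers y, ?_, ?_, ?_, ?_⟩
  · refine not_dvd_sup Nat.prime_three ((zpowers_le).2 hjN) ?_ ?_
    · rwa [Nat.card_zpowers, hx]
    · rw [Nat.card_zpowers, hj]
      norm_num
  · refine not_dvd_sup Nat.prime_three ((zpowers_le).2 ?_) ?_ ?_
    · refine centralizer_le_normalizer _ ?_
      rw [mem_centralizer_iff]
      intro w hw
      obtain ⟨k, rfl⟩ := mem_zpowers_iff.1 hw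
      exact (Commute.zpow_left hcomm k).eq
    · rw [Nat.card_zpowers, hj]
      norm_num
    · rwa [Nat.card_zpowers, hyo]
  · exact h.eq_top hx hyo ((le_sup_left.trans le_sup_left : zpowers x ≤ _) (mem_zpowers x))
      ((le_sup_right.trans le_sup_right : zpowers y ≤ _) (mem_zpowers y))
  · intro hbot
    have h1 : j ∈ (zpowers x ⊔ zpowers j) ⊓ (zpowers j ⊔ zpowers y) :=
      ⟨(le_sup_right : zpowers j ≤ _) (mem_zpowers j), (le_sup_left : zpowers j ≤ _) (mem_zpowers j)⟩
    rw [hbot, mem_bot] at h1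
    rw [h1, orderOf_one] at hj
    omega

theorem Facts2.pair_two : ∃ A B : Subgroup R, ¬ 2 ∣ Nat.card A ∧ ¬ 2 ∣ Nat.card B ∧ A ⊔ B = ⊤ ∧ A ⊓ B ≠ ⊥ := by
  have : Fact (Nat.Prime 3) := ⟨Nat.prime_three⟩
  obtain ⟨x, hx⟩ := h.exists_x
  obtain ⟨⟨z, hzN⟩, hz⟩ := exists_prime_orderOf_dvd_card' (G := normalizer (zpowers x : Set R)) 3
    ((show 3 ∣ 6 by norm_num).trans (h.six hx))
  rw [Subgroup.orderOf_mk] at hz
  obtain ⟨P, y₀, hy₀, hyP⟩ := h.three
  -- `z` in a conjugate of `P`
  obtain ⟨Q, hQ⟩ := (IsPGroup.of_card (p := 3) (n := 1) (by rw [Nat.card_zpowers, hz, pow_one]) :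
    IsPGroup 3 (zpowers z)).exists_le_sylow
  obtain ⟨g, hg⟩ := MulAction.exists_smul_eq R P Q
  set y := g * y₀ * g⁻¹ with hy
  have hyo : orderOf y = s := by
    rw [hy, ← hy₀]
    exact (MulAut.conj g).orderOf_eq y₀
  have hyQ : y ∈ normalizer ((Q : Subgroup R) : Set R) := by
    have hmem : ∀ w : R, w ∈ (Q : Subgroup R) ↔ g⁻¹ * w * g ∈ (P : Subgroup R) := by
      intro w
      rw [← hg, Sylow.coe_subgroup_smul, mem_pointwise_smul_iff_inv_smul_mem]
      have e : (MulAut.conj g)⁻¹ • w = g⁻¹ * w * g := by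
        rw [← map_inv]
        simp
      rw [e]
    rw [mem_normalizer_iff]
    intro w
    rw [hmem, hmem, (mem_normalizer_iff.1 hyP (g⁻¹ * w * g))]
    have e : g⁻¹ * (y * w * y⁻¹) * g = y₀ * (g⁻¹ * w * g) * y₀⁻¹ := by
      rw [hy]
      group
    rw [e]
  have h19 := h.N.q19
  have hρ2 : ¬ 2 ∣ ρ := fun h3 => by
    have := (Nat.prime_dvd_prime_iff_eq Nat.prime_two h.N.pr).1 h3
    omega
  have hs2 : ¬ 2 ∣ s := fun h3 => h.s2 ((Nat.prime_dvd_prime_iff_eq Nat.prime_two h.hs).1 h3).symm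
  refine ⟨zpowers x ⊔ zpowers z, (Q : Subgroup R) ⊔ zpowers y, ?_, ?_, ?_, ?_⟩
  · refine not_dvd_sup Nat.prime_two ((zpowers_le).2 hzN) ?_ ?_
    · rwa [Nat.card_zpowers, hx]
    · rw [Nat.card_zpowers, hz]
      norm_num
  · refine not_dvd_sup Nat.prime_two ((zpowers_le).2 hyQ) ?_ ?_
    · obtain ⟨k, hk⟩ := (IsPGroup.iff_card).1 Q.isPGroup'
      intro h2
      rw [hk] at h2
      have := (Nat.prime_dvd_prime_iff_eq Nat.prime_two Nat.prime_three).1 (Nat.prime_two.dvd_of_dvd_pow h2)
      omega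
    · rwa [Nat.card_zpowers, hyo]
  · exact h.eq_top hx hyo ((le_sup_left.trans le_sup_left : zpowers x ≤ _) (mem_zpowers x))
      ((le_sup_right.trans le_sup_right : zpowers y ≤ _) (mem_zpowers y))
  · intro hbot
    have h1 : z ∈ (zpowers x ⊔ zpowers z) ⊓ ((Q : Subgroup R) ⊔ zpowers y) :=
      ⟨(le_sup_right : zpowers z ≤ _) (mem_zpowers z), (le_sup_left : (Q : Subgroup R) ≤ _) (hQ (mem_zpowers z))⟩
    rw [hbot, mem_bot] at h1
    rw [h1, orderOf_one] at hz
    omega

end

theorem facts2 {K : Type*} [Field K] [Fintype K] {m : ℕ} (hm : 1 ≤ m) (hK : Fintype.card K = 3 ^ (2 * m + 1)) :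
    ∃ ρ s, Facts2 ↥(Cfsg.Lie.twistedG2 K (3 ^ m)) m (3 ^ (2 * m + 1)) (3 ^ (m + 1)) ρ s := by
  obtain ⟨ρ, n⟩ := exists_reeN m hm
  obtain ⟨U, h, w, D⟩ := Cfsg.Agent.ChevalleyStructure.Ree.Data.exists_data hK
  have hfin : Finite ↥(Cfsg.Lie.twistedG2 K (3 ^ m)) := finite D
  obtain ⟨P, hP⟩ := (Cfsg.Agent.H71.RoRee.ro hm hK D).syl
  have h27 := n.q27
  have h4 := n.q4
  obtain ⟨s, hs, hsd⟩ := Nat.exists_prime_and_dvd (n := (3 ^ (2 * m + 1) - 1) / 2) (by omega)
  have : Fact s.Prime := ⟨hs⟩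
  have hsq : s ∣ 3 ^ (2 * m + 1) - 1 := hsd.trans (Nat.div_dvd_of_dvd (by omega))
  obtain ⟨a, ha⟩ := exists_prime_orderOf_dvd_card' (G := Kˣ) s (by
    rw [Nat.card_units, Nat.card_eq_fintype_card, hK]
    exact hsq)
  let H : Kˣ →* ↥(Cfsg.Lie.twistedG2 K (3 ^ m)) := ⟨⟨h, D.h_one⟩, D.h_mul⟩
  have hH : Function.Injective H := by
    intro x y hxy
    exact (D.inj₁ 0 0 0 x 0 0 0 y (by rw [show h x = h y from hxy])).2.2.2
  have hch : CharP K 3 := LieRecognition.ReeAbs.charP_three hK
  have hneg : (-1 : Kˣ) ≠ 1 := by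
    intro h1
    have h2 : (-1 : K) = 1 := congrArg Units.val h1
    have h3 : (3 : K) = 0 := by exact_mod_cast CharP.cast_eq_zero K 3
    have h4 : (1 : K) = 0 := by linear_combination h3 + h2
    exact one_ne_zero h4
  refine ⟨ρ, s, reeF hm hK n, n, hs, hsd, (facts hm hK).conj, ⟨H (-1), H a, ?_, ?_, ?_⟩, ⟨P, H a, ?_, ?_⟩⟩
  · rw [orderOf_injective H hH]
    refine orderOf_eq_prime ?_ hneg
    rw [neg_one_sq]
  · rw [orderOf_injective H hH, ha]
  · rw [← map_mul, mul_comm, map_mul]
  · rw [orderOf_injective H hH, ha]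
  · rw [hP, mem_normalizer_iff]
    intro x
    refine ⟨fun hx => h_conj_mem D a hx, fun hx => ?_⟩
    have h5 := h_conj_mem D a⁻¹ hx
    rw [D.h_inv] at h5
    have e : (h a)⁻¹ * (H a * x * (H a)⁻¹) * ((h a)⁻¹)⁻¹ = x := by
      change (h a)⁻¹ * (h a * x * (h a)⁻¹) * ((h a)⁻¹)⁻¹ = x
      group
    rwa [e] at h5

end Cfsg.Agent.H753.CohRee
end

-- part: H753/CohRows
section
/-!
# TEAM GEN (S4180), K5 and K6: `Coh` for the Suzuki groups and the small Ree groups (helper753, tasks 3322, 3323)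
-/

set_option autoImplicit false

namespace Cfsg.Agent.H753.CohRows

open Subgroup Cfsg.Agent.H891.DG Cfsg.Agent.H891.DG.Tools

universe u v

/-- **K5** -/
theorem coh_sz (T : Type u) [Group T] [Finite T] [IsSimpleGroup T] (h : Cfsg.Lie.IsoSuzuki T) : Coh T := by
  obtain ⟨F, _, _, m, hm, hF, ⟨e⟩⟩ := h
  obtain ⟨f⟩ := OddCyclic.ClaimC.SzIso.iso hm hF
  obtain ⟨c, b, hc, hc1, hcb⟩ := CohSz.exists_pair hm hF
  set E : ↥(Cfsg.Sz F m) ≃* T := f.trans e.symm with hE
  have hna : ¬ IsMulCommutative T := by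
    intro hcm
    have hc' : IsMulCommutative ↥(Cfsg.Lie.Sz F (2 ^ (m + 1))) :=
      ⟨⟨fun x y => e.symm.injective (by rw [map_mul, map_mul, hcm.is_comm.comm])⟩⟩
    have h1 := CycSz.center_eq_bot hm hF
    rw [Subgroup.center_eq_top_iff.2 hc'] at h1
    have hs : IsSimpleGroup ↥(Cfsg.Lie.Sz F (2 ^ (m + 1))) := Cfsg.Agent.S1162.result hm hF
    exact bot_ne_top h1.symm
  refine coh_of_involution hna (c := E c) (b := E b) ?_ ?_ ?_
  · rw [← map_pow, hc, map_one]
  · intro h
    exact hc1 (E.injective (h.trans (map_one E).symm))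
  · have h1 : (_root_.Subgroup.closure ({c, b} : Set ↥(Cfsg.Sz F m))).map E.toMonoidHom = _root_.Subgroup.closure ({E c, E b} : Set T) := by
      rw [MonoidHom.map_closure, Set.image_pair]
      rfl
    rw [← h1, hcb]
    exact Subgroup.map_top_of_surjective _ E.surjective

/-- **K6** -/
theorem coh_ree (T : Type u) [Group T] [Finite T] [IsSimpleGroup T] (h : Cfsg.Lie.IsoRee T) : Coh T := by
  obtain ⟨K, _, _, m, hm, hK, ⟨e⟩⟩ := h
  have hfin : Finite ↥(Cfsg.Lie.twistedG2 K (3 ^ m)) := Finite.of_equiv _ e.toEquiv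
  obtain ⟨ρ, s, h⟩ := CohRee.facts2 hm hK
  have hinj := e.symm.injective
  have key : ∀ p : ℕ, p.Prime → (∃ A B : Subgroup ↥(Cfsg.Lie.twistedG2 K (3 ^ m)), ¬ p ∣ Nat.card A ∧ ¬ p ∣ Nat.card B ∧
      A ⊔ B = ⊤ ∧ A ⊓ B ≠ ⊥) → CohAt p T := by
    rintro p hp ⟨A, B, hA, hB, hAB, hi⟩
    refine cohAt_of_two hp (A := A.map e.symm.toMonoidHom) (B := B.map e.symm.toMonoidHom) ?_ ?_ ?_ ?_
    · rwa [Subgroup.card_map_of_injective hinj]
    · rwa [Subgroup.card_map_of_injective hinj]
    · rw [← Subgroup.map_sup, hAB]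
      exact Subgroup.map_top_of_surjective _ e.symm.surjective
    · rw [← Subgroup.map_inf _ _ _ hinj]
      intro h1
      exact hi ((Subgroup.map_eq_bot_iff_of_injective _ hinj).1 h1)
  intro p hp
  rcases Nat.lt_or_ge 3 p with h3 | h3
  · have : Fact p.Prime := ⟨hp⟩
    obtain ⟨P⟩ : Nonempty (Sylow p T) := inferInstance
    refine cohAt_of_cyclic hp P ?_
    have h1 := h.F.cyc p hp h3 ((P : Subgroup T).map e.toMonoidHom) (P.isPGroup'.map _)
    have e1 := (P : Subgroup T).equivMapOfInjective e.toMonoidHom e.injective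
    exact isCyclic_of_surjective e1.symm.toMonoidHom e1.symm.surjective
  · have h2 := hp.two_le
    interval_cases p
    · exact key 2 hp h.pair_two
    · exact key 3 hp h.pair_three

end Cfsg.Agent.H753.CohRows
end

-- part: H261/DG/InvGen
section
/-!
# An involution in a generating pair: groups generated by the nodes of a star diagram (helper261)

For a path `p 0, …, p (n-1)` and an arm `a, b, c` (`a` joined to an inner node of the path, not to `p 0`) the
elements `X = a * p 0` and `Y = σ * (b * c)`, where `σ` is the `n`-cycle `(1 2 … n)` in the symmetric group generated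
by the path, generate a group containing `x * c` for all nodes `x`.
-/

set_option autoImplicit false

namespace Cfsg.Agent.H261.DG.InvGen

open Equiv Equiv.Perm Subgroup
open Cfsg.Agent.H440.TwoGen Cfsg.Agent.H440.TwoGen.Path

variable {G : Type*} [Group G]

theorem core {n : ℕ} (hn : 2 ≤ n) (p : ℕ → G) (hsq : ∀ i < n, p i * p i = 1)
    (hbr : ∀ i, i + 1 < n → p i * p (i + 1) * p i = p (i + 1) * p i * p (i + 1))
    (hcm : ∀ i j, i + 1 < j → j < n → p i * p j = p j * p i)
    {a b c : G} (ha : a * a = 1) (hb : b * b = 1) (hc : c * c = 1)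
    (hab : a * b * a = b * a * b) (hbc : b * c * b = c * b * c) (hac : a * c = c * a)
    (hbp : ∀ i < n, p i * b = b * p i) (hcp : ∀ i < n, p i * c = c * p i) (hap : a * p 0 = p 0 * a)
    {m : ℕ} (hm : Nat.Coprime m 3)
    (hσ : (swap (0 : Fin (n + 1)) ⟨1, by omega⟩ * finRotate (n + 1)) ^ m = 1) :
    ∃ Y : G, a * c ∈ _root_.Subgroup.closure ({a * p 0, Y} : Set G) ∧ b * c ∈ closure ({a * p 0, Y} : Set G) ∧
      ∀ i < n, p i * c ∈ closure ({a * p 0, Y} : Set G) := by
  obtain ⟨φ, hφ⟩ := exists_hom n p hsq hbr hcm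
  set σ : Perm (Fin (n + 1)) := swap (0 : Fin (n + 1)) ⟨1, by omega⟩ * finRotate (n + 1) with hσd
  obtain ⟨X, hX⟩ : ∃ X : G, X = a * p 0 := ⟨_, rfl⟩
  rw [← hX]
  refine ⟨φ σ * (b * c), ?_⟩
  set S : Subgroup G := _root_.Subgroup.closure ({X, φ σ * (b * c)} : Set G) with hS
  have hXS : X ∈ S := _root_.Subgroup.subset_closure (Set.mem_insert _ _)
  have hYS : φ σ * (b * c) ∈ S := _root_.Subgroup.subset_closure (Set.mem_insert_of_mem _ (Set.mem_singleton _))
  have hφb : ∀ g, φ g * b = b * φ g := commute_range φ fun i => by rw [hφ]; exact hbp i i.isLt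
  have hφc : ∀ g, φ g * c = c * φ g := commute_range φ fun i => by rw [hφ]; exact hcp i i.isLt
  have hφbc : φ σ * (b * c) = (b * c) * φ σ := by
    rw [← mul_assoc, hφb, mul_assoc, hφc, ← mul_assoc]
  have hbc3 : (b * c) ^ 3 = 1 := by
    calc (b * c) ^ 3 = (b * c * b) * (c * b * c) := by simp only [pow_succ, pow_zero, one_mul, mul_assoc]
      _ = (b * c * b) * (b * c * b) := by rw [hbc]
      _ = b * c * (b * b) * c * b := by simp only [mul_assoc]
      _ = b * (c * c) * b := by rw [hb, mul_one]; simp only [mul_assoc]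
      _ = 1 := by rw [hc, mul_one, hb]
  have hσ' : φ σ ^ m = 1 := by rw [← map_pow, hσ, map_one]
  have h1 : φ σ ∈ S := left_mem_of_pow S hφbc hσ' hbc3 hm hYS
  have h2 : b * c ∈ S := right_mem_of_pow S hφbc hσ' hbc3 hm hYS
  have hbi : b⁻¹ = b := inv_eq_of_mul_eq_one_left hb
  have hci : c⁻¹ = c := inv_eq_of_mul_eq_one_left hc
  have hai : a⁻¹ = a := inv_eq_of_mul_eq_one_left ha
  have hb0 : p 0 * b = b * p 0 := hbp 0 (by omega)
  have hc0 : p 0 * c = c * p 0 := hcp 0 (by omega)
  have h00 : p 0 * p 0 = 1 := hsq 0 (by omega)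
  -- `X * X ^ (b * c) = b * c * b * a`
  have h3 : X * ((b * c)⁻¹ * X * (b * c)) = b * c * (b * a) := by
    have e1 : (b * c)⁻¹ * X * (b * c) = (c * (b * a * b) * c) * p 0 := by
      rw [hX, mul_inv_rev, hbi, hci]
      calc c * b * (a * p 0) * (b * c) = c * b * a * (p 0 * b) * c := by simp only [mul_assoc]
        _ = c * b * a * b * (p 0 * c) := by rw [hb0]; simp only [mul_assoc]
        _ = (c * (b * a * b) * c) * p 0 := by rw [hc0]; simp only [mul_assoc]
    have e2 : c * (b * a * b) * c = a * (c * b * c) * a := by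
      rw [← hab]
      calc c * (a * b * a) * c = (c * a) * b * (a * c) := by simp only [mul_assoc]
        _ = (a * c) * b * (c * a) := by rw [hac]
        _ = a * (c * b * c) * a := by simp only [mul_assoc]
    rw [e1, e2, ← hbc, hX]
    calc a * p 0 * (a * (b * c * b) * a * p 0) = a * (p 0 * a) * (b * c * b * a) * p 0 := by
          simp only [mul_assoc]
      _ = (a * a) * p 0 * (b * c * b * a) * p 0 := by rw [← hap]; simp only [mul_assoc]
      _ = (p 0 * b) * c * b * a * p 0 := by rw [ha, one_mul]; simp only [mul_assoc]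
      _ = b * (p 0 * c) * b * a * p 0 := by rw [hb0]; simp only [mul_assoc]
      _ = b * c * (p 0 * b) * a * p 0 := by rw [hc0]; simp only [mul_assoc]
      _ = b * c * b * (p 0 * a) * p 0 := by rw [hb0]; simp only [mul_assoc]
      _ = b * c * b * a * (p 0 * p 0) := by rw [← hap]; simp only [mul_assoc]
      _ = b * c * (b * a) := by rw [h00, mul_one]; simp only [mul_assoc]
  have h4 : b * a ∈ S := by
    have h5 : b * c * (b * a) ∈ S := by
      rw [← h3]
      exact S.mul_mem hXS (S.mul_mem (S.mul_mem (S.inv_mem h2) hXS) h2)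
    have h6 := S.mul_mem (S.inv_mem h2) h5
    rwa [inv_mul_cancel_left] at h6
  have h5 : a * c ∈ S := by
    have h6 := S.mul_mem (S.inv_mem h4) h2
    rwa [mul_inv_rev, hai, hbi, mul_assoc, ← mul_assoc b b c, hb, one_mul] at h6
  have h6 : p 0 * c ∈ S := by
    have h7 := S.mul_mem (S.inv_mem h5) hXS
    rwa [mul_inv_rev, hai, hci, hX, mul_assoc, ← mul_assoc a a, ha, one_mul, ← hc0] at h7
  refine ⟨h5, h2, ?_⟩
  -- the transpositions `(0 i+1)`
  have h7 : ∀ i, ∀ hi : i < n, φ (swap (0 : Fin (n + 1)) ⟨i + 1, by omega⟩) * c ∈ S := by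
    intro i
    induction i with
    | zero =>
      intro hi
      have h8 := hφ ⟨0, hi⟩
      have h9 : swap (Fin.castSucc ⟨0, hi⟩) (Fin.succ ⟨0, hi⟩) = swap (0 : Fin (n + 1)) ⟨0 + 1, by omega⟩ := rfl
      rw [h9] at h8
      rw [h8]
      exact h6
    | succ i ih =>
      intro hi
      have h8 := ih (by omega)
      have h9 : σ * swap (0 : Fin (n + 1)) ⟨i + 1, by omega⟩ * σ⁻¹ = swap (0 : Fin (n + 1)) ⟨i + 1 + 1, by omega⟩ := by
        rw [← Equiv.swap_apply_apply]
        have e0 : σ 0 = 0 := by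
          have e1 : finRotate (n + 1) 0 = ⟨1, by omega⟩ := by
            apply Fin.ext
            rw [finRotate_apply]
            rw [Fin.val_add_one_of_lt (by simp only [Fin.lt_def, Fin.val_zero, Fin.val_last]; omega)]
            rfl
          rw [hσd, Equiv.Perm.mul_apply, e1, swap_apply_right]
        have e2 : σ ⟨i + 1, by omega⟩ = ⟨i + 1 + 1, by omega⟩ := by
          have e1 : finRotate (n + 1) ⟨i + 1, by omega⟩ = ⟨i + 1 + 1, by omega⟩ := by
            apply Fin.ext
            rw [finRotate_apply]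
            rw [Fin.val_add_one_of_lt (by simp only [Fin.lt_def, Fin.val_last]; omega)]
          rw [hσd, Equiv.Perm.mul_apply, e1, swap_apply_of_ne_of_ne]
          · intro h; have := congrArg Fin.val h; simp at this
          · intro h; have := congrArg Fin.val h; simp at this
        rw [e0, e2]
      have h10 : φ (swap (0 : Fin (n + 1)) ⟨i + 1 + 1, by omega⟩) * c =
          φ σ * (φ (swap (0 : Fin (n + 1)) ⟨i + 1, by omega⟩) * c) * (φ σ)⁻¹ := by
        have e1 : c * (φ σ)⁻¹ = (φ σ)⁻¹ * c := by rw [← map_inv, hφc]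
        rw [← h9, map_mul, map_mul, map_inv]
        simp only [mul_assoc]
        rw [e1]
      rw [h10]
      exact S.mul_mem (S.mul_mem h1 h8) (S.inv_mem h1)
  intro i hi
  rcases i with _ | i
  · exact h6
  · have h8 := h7 i (by omega)
    have h9 := h7 (i + 1) hi
    have h10 := S.mul_mem (S.mul_mem h8 h9) h8
    have h11 := hφ ⟨i + 1, hi⟩
    have h12 : swap (0 : Fin (n + 1)) ⟨i + 1, by omega⟩ * swap (0 : Fin (n + 1)) ⟨i + 1 + 1, by omega⟩ *
        swap (0 : Fin (n + 1)) ⟨i + 1, by omega⟩ = swap (Fin.castSucc ⟨i + 1, hi⟩) (Fin.succ ⟨i + 1, hi⟩) := by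
      have h13 := swap_mul_swap_mul_swap (x := (⟨i + 1 + 1, by omega⟩ : Fin (n + 1)))
        (y := (0 : Fin (n + 1))) (z := ⟨i + 1, by omega⟩)
        (by intro h; have := congrArg Fin.val h; simp at this) (by intro h; have := congrArg Fin.val h; simp at this)
      rw [swap_comm (⟨i + 1 + 1, by omega⟩ : Fin (n + 1)) 0] at h13
      exact h13
    rw [← h12, map_mul, map_mul] at h11
    rw [← h11]
    have e1 : ∀ g g' : Perm (Fin (n + 1)), (φ g * c) * (φ g' * c) * (φ g * c) = φ g * φ g' * φ g * c := by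
      intro g g'
      calc (φ g * c) * (φ g' * c) * (φ g * c) = φ g * (c * φ g') * c * (φ g * c) := by simp only [mul_assoc]
        _ = φ g * φ g' * (c * c) * (φ g * c) := by rw [← hφc g']; simp only [mul_assoc]
        _ = φ g * φ g' * φ g * c := by rw [hc, mul_one]; simp only [mul_assoc]
    rw [e1] at h10
    exact h10

/-- A subgroup of a non-commutative simple group containing `x * c` for all `x` in a generating set of involutions
(containing `c`) is the whole group. -/
theorem full [IsSimpleGroup G] (hna : ¬ IsMulCommutative G) {N : Set G} (hN : closure N = ⊤)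
    (h2 : ∀ x ∈ N, x * x = 1) {c : G} (hc : c ∈ N) (S : Subgroup G) (hS : ∀ x ∈ N, x * c ∈ S) : S = ⊤ := by
  set E : Subgroup G := _root_.Subgroup.closure ((fun x => x * c) '' N) with hE
  have hES : E ≤ S := by
    rw [hE, closure_le]
    rintro _ ⟨x, hx, rfl⟩
    exact hS x hx
  have hinv : ∀ x ∈ N, x⁻¹ = x := fun x hx => inv_eq_of_mul_eq_one_left (h2 x hx)
  have hmem : ∀ x ∈ N, x * c ∈ E := fun x hx => subset_closure ⟨x, hx, rfl⟩
  have h3 : ∀ y ∈ N, ∀ g ∈ E, y * g * y⁻¹ ∈ E := by
    intro y hy g hg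
    induction hg using closure_induction with
    | mem z hz =>
      obtain ⟨x, hx, rfl⟩ := hz
      have h4 : y * (x * c) * y⁻¹ = (y * c) * (x * c)⁻¹ * (y * c)⁻¹ := by
        rw [mul_inv_rev, mul_inv_rev, hinv x hx, hinv c hc, hinv y hy]
        calc y * (x * c) * y = y * x * c * y := by simp only [mul_assoc]
          _ = y * (c * c) * x * c * y := by rw [h2 c hc, mul_one]
          _ = y * c * (c * x) * (c * y) := by simp only [mul_assoc]
      show y * (x * c) * y⁻¹ ∈ E
      rw [h4]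
      exact E.mul_mem (E.mul_mem (hmem y hy) (E.inv_mem (hmem x hx))) (E.inv_mem (hmem y hy))
    | one => rw [mul_one, mul_inv_cancel]; exact E.one_mem
    | mul u v _ _ hu hv =>
      have h4 : y * (u * v) * y⁻¹ = (y * u * y⁻¹) * (y * v * y⁻¹) := by group
      rw [h4]
      exact E.mul_mem hu hv
    | inv u _ hu =>
      have h4 : y * u⁻¹ * y⁻¹ = (y * u * y⁻¹)⁻¹ := by group
      rw [h4]
      exact E.inv_mem hu
  have hnor : E.Normal := by
    refine ⟨fun g hg x => ?_⟩
    have hx : x ∈ _root_.Subgroup.closure N := by rw [hN]; trivial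
    revert g
    induction hx using closure_induction'' with
    | mem y hy => exact fun g hg => h3 y hy g hg
    | inv_mem y hy => intro g hg; rw [hinv y hy]; exact h3 y hy g hg
    | one => intro g hg; rw [one_mul, inv_one, mul_one]; exact hg
    | mul u v _ _ hu hv =>
      intro g hg
      have h4 : u * v * g * (u * v)⁻¹ = u * (v * g * v⁻¹) * u⁻¹ := by group
      rw [h4]
      exact hu _ (hv g hg)
  rcases hnor.eq_bot_or_eq_top with h | h
  · exfalso
    have h4 : ∀ x ∈ N, x = c := by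
      intro x hx
      have h5 := hmem x hx
      rw [h, mem_bot] at h5
      rw [← hinv c hc]
      exact eq_inv_of_mul_eq_one_left h5
    have h5 : zpowers c = ⊤ := by
      rw [eq_top_iff, ← hN, closure_le]
      intro x hx
      rw [h4 x hx]
      exact mem_zpowers c
    have h6 : IsCyclic G := ⟨c, fun x => show x ∈ zpowers c by rw [h5]; trivial⟩
    exact hna IsCyclic.isMulCommutative
  · rw [eq_top_iff, ← h]
    exact hES

/-- The conclusion for a non-commutative simple group. -/
theorem exists_pair [IsSimpleGroup G] (hna : ¬ IsMulCommutative G) {n : ℕ} (hn : 2 ≤ n) (p : ℕ → G)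
    (hsq : ∀ i < n, p i * p i = 1)
    (hbr : ∀ i, i + 1 < n → p i * p (i + 1) * p i = p (i + 1) * p i * p (i + 1))
    (hcm : ∀ i j, i + 1 < j → j < n → p i * p j = p j * p i)
    {a b c : G} (ha : a * a = 1) (hb : b * b = 1) (hc : c * c = 1)
    (hab : a * b * a = b * a * b) (hbc : b * c * b = c * b * c) (hac : a * c = c * a)
    (hbp : ∀ i < n, p i * b = b * p i) (hcp : ∀ i < n, p i * c = c * p i) (hap : a * p 0 = p 0 * a)
    {m : ℕ} (hm : Nat.Coprime m 3)
    (hσ : (swap (0 : Fin (n + 1)) ⟨1, by omega⟩ * finRotate (n + 1)) ^ m = 1)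
    (hgen : ∀ S : Subgroup G, a ∈ S → b ∈ S → c ∈ S → (∀ i < n, p i ∈ S) → S = ⊤) :
    ∃ X Y : G, X ^ 2 = 1 ∧ X ≠ 1 ∧ _root_.Subgroup.closure ({X, Y} : Set G) = ⊤ := by
  obtain ⟨Y, h1, h2, h3⟩ := core hn p hsq hbr hcm ha hb hc hab hbc hac hbp hcp hap hm hσ
  have h4 : _root_.Subgroup.closure ({a * p 0, Y} : Set G) = ⊤ := by
    refine full hna (N := {a, b, c} ∪ {x | ∃ i < n, x = p i}) ?_ ?_ (c := c) (Or.inl (by simp)) _ ?_
    · apply hgen
      · exact _root_.Subgroup.subset_closure (Or.inl (by simp))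
      · exact _root_.Subgroup.subset_closure (Or.inl (by simp))
      · exact _root_.Subgroup.subset_closure (Or.inl (by simp))
      · exact fun i hi => _root_.Subgroup.subset_closure (Or.inr ⟨i, hi, rfl⟩)
    · rintro x ((rfl | rfl | rfl) | ⟨i, hi, rfl⟩)
      · exact ha
      · exact hb
      · exact hc
      · exact hsq i hi
    · rintro x ((rfl | rfl | rfl) | ⟨i, hi, rfl⟩)
      · exact h1
      · exact h2
      · rw [hc]; exact one_mem _
      · exact h3 i hi
  refine ⟨a * p 0, Y, ?_, ?_, h4⟩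
  · rw [pow_two]
    calc a * p 0 * (a * p 0) = a * (p 0 * a) * p 0 := by simp only [mul_assoc]
      _ = (a * a) * (p 0 * p 0) := by rw [← hap]; simp only [mul_assoc]
      _ = 1 := by rw [ha, hsq 0 (by omega), one_mul]
  · intro h
    rw [h] at h4
    apply hna
    have h5 : zpowers Y = ⊤ := by
      rw [eq_top_iff, ← h4, closure_le]
      rintro x (rfl | rfl)
      · exact one_mem _
      · exact mem_zpowers _
    have h6 : IsCyclic G := ⟨Y, fun x => show x ∈ zpowers Y by rw [h5]; trivial⟩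
    exact IsCyclic.isMulCommutative

end Cfsg.Agent.H261.DG.InvGen
end

-- part: H261/DG/BM
section
/-!
# `Coh` for the Baby Monster and the Monster (helper261)
-/

set_option autoImplicit false

namespace Cfsg.Agent.H261.DG.BM

open Equiv Equiv.Perm Subgroup
open Cfsg.Agent.H440.TwoGen Cfsg.Agent.H891.Gen Cfsg.Agent.H891.DG

universe u

/-- A generating pair containing an involution. -/
def InvPair (G : Type*) [Group G] : Prop := ∃ X Y : G, X ^ 2 = 1 ∧ X ≠ 1 ∧ _root_.Subgroup.closure ({X, Y} : Set G) = ⊤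

theorem InvPair.of_equiv {G H : Type*} [Group G] [Group H] (e : G ≃* H) (h : InvPair G) : InvPair H := by
  obtain ⟨X, Y, h1, h2, h3⟩ := h
  refine ⟨e X, e Y, by rw [← map_pow, h1, map_one], fun h => h2 (e.injective (by rw [h, map_one])), ?_⟩
  have h4 : e.toMonoidHom '' {X, Y} = {e X, e Y} := Set.image_pair e.toMonoidHom X Y
  rw [← h4, ← MonoidHom.map_closure, h3, Subgroup.map_top_of_surjective e.toMonoidHom e.surjective]

/-- A commutative simple group has few derivations. -/
theorem coh_of_comm {T : Type u} [Group T] [Finite T] [IsSimpleGroup T] (h : IsMulCommutative T) : Coh T := by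
  obtain ⟨t, ht⟩ : ∃ t : T, ∀ x, x ∈ zpowers t := by
    have : IsCyclic T := by
      let _ : CommGroup T := { (inferInstance : Group T) with mul_comm := fun a b => h.is_comm.comm a b }
      exact IsSimpleGroup.isCyclic
    exact this.exists_generator
  intro p hp V _ _ _ hV _ hnt
  obtain ⟨g, v, hgv⟩ := hnt
  have h1 : 1 < Nat.card V := by
    have : Nontrivial V := ⟨⟨_, _, hgv⟩⟩
    exact Finite.one_lt_card
  have h2 : Nat.card {z : T → V // ∀ g h : T, z (g * h) = z g + g • z h} ≤ Nat.card V := by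
    refine Nat.card_le_card_of_injective (fun z => z.1 t) ?_
    intro z w hzw
    have h3 : ∀ n : ℕ, z.1 (t ^ n) = w.1 (t ^ n) := by
      have h1z : z.1 1 = 0 := by
        have := z.2 1 1
        rw [one_mul, one_smul] at this
        exact left_eq_add.1 this
      have h1w : w.1 1 = 0 := by
        have := w.2 1 1
        rw [one_mul, one_smul] at this
        exact left_eq_add.1 this
      intro n
      induction n with
      | zero => rw [pow_zero, h1z, h1w]
      | succ n ih =>
        rw [pow_succ, z.2, w.2, ih]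
        exact congrArg (fun x => w.1 (t ^ n) + t ^ n • x) hzw
    apply Subtype.ext
    funext x
    obtain ⟨n, rfl⟩ := (mem_powers_iff_mem_zpowers).2 (ht x)
    exact h3 n
  show _ < Nat.card V ^ 2
  rw [pow_two]
  nlinarith

section B

open Cfsg.Spor

/-- the third node of the arm commutes with the path -/
theorem b_aux : ∀ i < 8, coxLabel BabyMonster.edges (CoxInst.pB i) BabyMonster.Gen.t11 = 2 := by decide

theorem invPair_b [IsSimpleGroup BabyMonster] (hna : ¬ IsMulCommutative BabyMonster) : InvPair BabyMonster := by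
  have hnode : ∀ x : BabyMonster.Gen, x ∈ coxNodes BabyMonster.edges := by intro x; cases x <;> decide
  have hbr : ∀ i < 7, coxLabel BabyMonster.edges (CoxInst.pB i) (CoxInst.pB (i + 1)) = 3 := by decide
  have hcm : ∀ i < 8, ∀ j < 8, i + 1 < j → coxLabel BabyMonster.edges (CoxInst.pB i) (CoxInst.pB j) = 2 := by decide +kernel
  have hb : ∀ i < 8, coxLabel BabyMonster.edges (CoxInst.pB i) BabyMonster.Gen.t10 = 2 := by decide
  exact InvGen.exists_pair hna (n := 8) (by norm_num) (fun i => Cox.g _ _ (CoxInst.pB i))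
    (fun i _ => Cox.sq (hnode _))
    (fun i hi => Cox.braid (hnode _) (hnode _) (hbr i (by omega)))
    (fun i j hij hj => Cox.comm (hnode _) (hnode _) (hcm i (by omega) j hj hij))
    (a := Cox.g _ _ BabyMonster.Gen.t9) (b := Cox.g _ _ BabyMonster.Gen.t10) (c := Cox.g _ _ BabyMonster.Gen.t11)
    (Cox.sq (hnode _)) (Cox.sq (hnode _)) (Cox.sq (hnode _))
    (Cox.braid (hnode _) (hnode _) (by decide)) (Cox.braid (hnode _) (hnode _) (by decide))
    (Cox.comm (hnode _) (hnode _) (by decide))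
    (fun i hi => Cox.comm (hnode _) (hnode _) (hb i hi))
    (fun i hi => Cox.comm (hnode _) (hnode _) (b_aux i hi))
    (Cox.comm (hnode _) (hnode _) (by decide))
    (m := 8) (by decide) (by decide +kernel)
    (fun S h1 h2 h3 h4 => Cox.eq_top_of_forall S fun x => by
      have hall : x = BabyMonster.Gen.t9 ∨ x = BabyMonster.Gen.t10 ∨ x = BabyMonster.Gen.t11 ∨
          ∃ i < 8, x = CoxInst.pB i := by
        cases x <;> first | exact Or.inl rfl | exact Or.inr (Or.inl rfl) | exact Or.inr (Or.inr (Or.inl rfl)) | exact Or.inr (Or.inr (Or.inr (by decide)))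
      rcases hall with rfl | rfl | rfl | ⟨i, hi, rfl⟩
      · exact h1
      · exact h2
      · exact h3
      · exact h4 i hi)

end B

section M

open Cfsg.Agent.Bimonster

theorem invPair_m (hna : ¬ IsMulCommutative PM) : InvPair PM := by
  have := Cfsg.Agent.MonsterP.Equiv.simple
  have ht : CoxRel 14 xM := xM_prel.cox
  have hl : ∀ i < 11, Monster.pl i < 14 := by decide
  have hsq : ∀ i < 14, xM i * xM i = 1 := ht.sq
  have hadj1 : ∀ i < 10, adjB (Monster.pl i) (Monster.pl (i + 1)) = true := by decide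
  have hadj2 : ∀ i < 11, ∀ j < 11, i + 1 < j → adjB (Monster.pl i) (Monster.pl j) = false := by decide
  have hadj3 : ∀ i < 11, adjB (Monster.pl i) 12 = false := by decide
  have hadj4 : ∀ i < 11, adjB (Monster.pl i) 13 = false := by decide
  exact InvGen.exists_pair hna (n := 11) (by norm_num) (fun i => xM (Monster.pl i)) (fun i hi => hsq _ (hl i hi))
    (fun i hi => ht.br _ (hl i (by omega)) _ (hl (i + 1) hi) (hadj1 i (by omega)))
    (fun i j hij hj => ht.cm _ (hl i (by omega)) _ (hl j hj) (hadj2 i (by omega) j hj hij))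
    (a := xM 11) (b := xM 12) (c := xM 13)
    (hsq 11 (by norm_num)) (hsq 12 (by norm_num)) (hsq 13 (by norm_num))
    (ht.br 11 (by norm_num) 12 (by norm_num) (by decide)) (ht.br 12 (by norm_num) 13 (by norm_num) (by decide))
    (ht.cm 11 (by norm_num) 13 (by norm_num) (by decide))
    (fun i hi => ht.cm _ (hl i hi) 12 (by norm_num) (hadj3 i hi))
    (fun i hi => ht.cm _ (hl i hi) 13 (by norm_num) (hadj4 i hi))
    (ht.cm 11 (by norm_num) _ (hl 0 (by norm_num)) (by decide))
    (m := 11) (by decide) (by decide +kernel)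
    (fun S h1 h2 h3 h4 => by
      rw [eq_top_iff, ← xM_gen, Subgroup.closure_le]
      rintro _ ⟨i, hi, rfl⟩
      have hcase : ∀ i < 14, i = 11 ∨ i = 12 ∨ i = 13 ∨ ∃ j < 11, i = Monster.pl j := by decide
      rcases hcase i hi with rfl | rfl | rfl | ⟨j, hj, rfl⟩
      · exact h1
      · exact h2
      · exact h3
      · exact h4 j hj)

end M

/-! ### the goals -/

theorem coh_of_invPair {T : Type u} [Group T] [Finite T] [IsSimpleGroup T]
    (h : ¬ IsMulCommutative T → InvPair T) : Coh T := by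
  by_cases hna : IsMulCommutative T
  · exact coh_of_comm hna
  · obtain ⟨X, Y, h1, h2, h3⟩ := h hna
    exact Cfsg.Agent.H891.DG.Tools.coh_of_involution hna h1 h2 h3

/-- **the Baby Monster** -/
theorem coh_b {T : Type u} [Group T] [Finite T] [IsSimpleGroup T] (h : Cfsg.Spor.IsoB T) : Coh T := by
  obtain ⟨e⟩ := h
  refine coh_of_invPair fun hna => ?_
  have : IsSimpleGroup Cfsg.Spor.BabyMonster := e.symm.isSimpleGroup
  refine (invPair_b fun hc => hna ⟨⟨fun a b => e.injective ?_⟩⟩).of_equiv e.symm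
  rw [map_mul, map_mul]
  exact hc.is_comm.comm _ _

/-- **the Monster** -/
theorem coh_m {T : Type u} [Group T] [Finite T] [IsSimpleGroup T] (h : Cfsg.Spor.IsoM T) : Coh T := by
  obtain ⟨e⟩ := h
  obtain ⟨e'⟩ := Cfsg.Agent.MonsterP.Equiv.equivM
  refine coh_of_invPair fun hna => ?_
  refine (invPair_m fun hc => hna ⟨⟨fun a b => (e.trans e').injective ?_⟩⟩).of_equiv (e.trans e').symm
  rw [map_mul, map_mul]
  exact hc.is_comm.comm _ _

end Cfsg.Agent.H261.DG.BM
end

-- part: H291/DG/Co1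
section
/-
`Co₁` is generated by the involution `g` and the element `(x y⁻¹) (w d e f)` of order 35.

With `α = x y⁻¹` (order 7), `⟨α, g⟩` contains `x`; `⟨w d e f, g⟩` contains `w, d, e, f`.
-/
set_option autoImplicit false

namespace Cfsg.Agent.H291.DG.Co1

open Subgroup Cfsg.Agent.CoOneType Cfsg.Agent.CoOneType.Model Cfsg.Agent.H136.Gen2 Cfsg.Agent.H136.Gen2.Co1

/-- `x = α α g α g α⁻¹ g α g α` -/
theorem r_x : x = (x * y⁻¹) * (x * y⁻¹) * g * (x * y⁻¹) * g * (x * y⁻¹)⁻¹ * g * (x * y⁻¹) * g * (x * y⁻¹) := by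
  have h := rel (u := [2]) (v := [2, 5, 2, 5, 10, 2, 5, 10, 4, 3, 10, 2, 5, 10, 2, 5]) (by decide +kernel)
  simpa only [val, e, mul_assoc, s, t, x, y, w, d, e', f, g, Model.h, pr_inv, _root_.QuotientGroup.mk'_apply, _root_.mul_inv_rev, _root_.inv_inv, _root_.left_eq_mul, _root_.List.map_cons, _root_.List.map_nil, _root_.List.prod_cons, _root_.List.prod_nil, _root_.mul_one, _root_.QuotientGroup.mk_inv] using h

theorem gen : _root_.Subgroup.closure ({g, (x * y⁻¹) * (w * d * e' * f)} : Set Spor.Co1) = ⊤ := by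
  set H := _root_.Subgroup.closure ({g, (x * y⁻¹) * (w * d * e' * f)} : Set Spor.Co1) with hH
  have h1 : (x * y⁻¹) * (w * d * e' * f) ∈ H := _root_.Subgroup.subset_closure (Set.mem_insert_of_mem _ rfl)
  have hg : g ∈ H := _root_.Subgroup.subset_closure (Set.mem_insert _ _)
  have hcx : Commute x (w * d * e' * f) :=
    ((p957.wx.symm.mul_right p957.dx.symm).mul_right p957.ex.symm).mul_right p957.fx.symm
  have hcy : Commute y (w * d * e' * f) :=
    ((p957.wy.symm.mul_right p957.dy.symm).mul_right p957.ey.symm).mul_right p957.fy.symm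
  have hc : (x * y⁻¹) * (w * d * e' * f) = (w * d * e' * f) * (x * y⁻¹) := (hcx.mul_left hcy.inv_left).eq
  obtain ⟨hα, hβ⟩ := split_mem (m := 7) (n := 5) hc p957.xY r_u (by decide) h1
  have hx : x ∈ H := by
    rw [r_x]
    exact mul_mem (mul_mem (mul_mem (mul_mem (mul_mem (mul_mem (mul_mem (mul_mem (mul_mem hα hα) hg) hα) hg)
      (inv_mem hα)) hg) hα) hg) hα
  have hy : y ∈ H := by
    have h3 : y = (x * y⁻¹)⁻¹ * x := by group
    rw [h3]; exact mul_mem (inv_mem hα) hx
  have hs : s ∈ H := by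
    rw [r_s]
    exact mul_mem (mul_mem (mul_mem (mul_mem (mul_mem hx (inv_mem hy)) hx) (inv_mem hy)) (inv_mem hx)) (inv_mem hy)
  have ht : t ∈ H := by
    rw [r_t]
    exact mul_mem (mul_mem (mul_mem (mul_mem (mul_mem hx hy) hx) (inv_mem hy)) hx) (inv_mem hy)
  have hh : Model.h ∈ H := by
    rw [r_h]
    exact mul_mem (mul_mem (mul_mem (mul_mem (mul_mem (mul_mem hg hy) hg) hy) hg) ht) hy
  have hch := chain_mem chRel (H := H) hg (by
    have inv : ∀ {z : Spor.Co1}, z * z = 1 → z⁻¹ = z := fun h => inv_eq_of_mul_eq_one_left h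
    have h3 : H346.CoxA.Rel.r ch 5 = ((w * d * e' * f) * g)⁻¹ := by
      simp only [H346.CoxA.Rel.r, ch, mul_inv_rev, inv p957.w2, inv p957.d2, inv p957.e2, inv p957.f2, inv p957.g2,
        one_mul, mul_assoc]
    rw [h3]
    exact inv_mem (mul_mem hβ hg))
  rw [eq_top_iff, ← Gen.closure_eq_top, closure_le]
  intro z hz
  simp only [Set.mem_insert_iff, Set.mem_singleton_iff] at hz
  rcases hz with rfl | rfl | rfl | rfl | rfl | rfl | rfl | rfl | rfl | rfl
  · exact hs
  · exact ht
  · exact hx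
  · exact hy
  · exact hch 4 (by decide)
  · exact hch 3 (by decide)
  · exact hch 2 (by decide)
  · exact hch 1 (by decide)
  · exact hg
  · exact hh

theorem invGen {G : Type*} [Group G] [Finite G] [IsSimpleGroup G] (h : Cfsg.Spor.IsoCo1 G) : InvGen G := by
  obtain ⟨e⟩ := h
  refine InvGen.of_card_equiv e ?_ (c := g) (b := (x * y⁻¹) * (w * d * e' * f)) ?_ gen
  · rw [Cfsg.Agent.S0399.result.2]
    norm_num
  · rw [pow_two, p957.g2]

end Cfsg.Agent.H291.DG.Co1
end

-- part: H291/DG/Co2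
section
/-
`Co₂` is generated by the involution `g` and the element `h * (c * d * e * f)` of order 10.

With `u = c * d * e * f` (order 5, it commutes with `h`), `⟨g, u⟩` contains `c, d, e, f, i`, and `b = (g h i) ^ 3 e`,
`a ∈ ⟨d, f, g, h⟩`.
-/
set_option autoImplicit false

namespace Cfsg.Agent.H291.DG.Co2

open Subgroup Cfsg.Agent.Co2Type.Co2Rels Cfsg.Agent.Co2Type.Co2Gen Cfsg.Agent.H994.TwoGen.Words
  Cfsg.Agent.Co2Type.MatCodes Cfsg.Agent.SporRec.LeechMod3 Cfsg.Agent.SporRec.LeechChain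
  Cfsg.Agent.Lib.PackMat

/-- the subgroup `⟨g, c d e f⟩` -/
noncomputable def K : Subgroup Cfsg.Spor.Co2 := _root_.Subgroup.closure {val x [7], val x [1, 2, 4, 5]}

theorem mem {w : List ℕ} {k : ℕ}
    (h : (wok gsP (expand [7] [1, 2, 4, 5] [7] [5, 4, 2, 1] w ++ [k]) && wok gsP [] &&
      checkEq cfg (wmats gsP (expand [7] [1, 2, 4, 5] [7] [5, 4, 2, 1] w ++ [k])) (wmats gsP []) 0 24) = true) :
    x k ∈ K := by
  refine mem_of_word x (Xi := [7]) (Yi := [5, 4, 2, 1]) ?_ ?_ (w := w) (xw_eq_one h)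
  · exact xw_eq_one (by decide +kernel)
  · exact xw_eq_one (by decide +kernel)

theorem f_mem : x 5 ∈ K := mem (w := [0, 3, 3, 0, 3, 0, 3, 0, 3, 3, 0, 3, 0, 1, 0, 1, 1, 0, 1, 0, 1, 0, 1, 1, 0])
  (by decide +kernel)
theorem e_mem : x 4 ∈ K := mem (w := [1, 0, 1, 0, 3, 3, 0, 1, 1, 0, 1, 0, 1, 0, 3, 0, 3, 0, 3, 3, 0, 1, 1, 0, 3, 0, 3])
  (by decide +kernel)
theorem d_mem : x 2 ∈ K := mem (w := [0, 1, 0, 3, 3, 0, 1, 1, 0, 1, 0, 1, 0, 3, 0, 3, 0, 3, 3, 0, 1, 1, 0, 3, 0])
  (by decide +kernel)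
theorem c_mem : x 1 ∈ K := mem (w := [0, 3, 0, 1, 0, 1, 1, 0, 1, 1, 0, 3, 0, 3, 0, 3, 3, 0, 3, 3, 0, 1, 0, 1, 0, 3])
  (by decide +kernel)
theorem i_mem : x 6 ∈ K := mem (w := [3, 0, 3, 0, 3, 0, 3, 0, 3, 0, 3, 0, 3, 0, 3, 0, 3, 0, 3, 0, 3, 0, 3, 0])
  (by decide +kernel)

/-- `a` as a word in `d, f, g, h` -/
theorem a_eq : xw [0] = xw [8, 7, 2, 7, 8, 5, 7, 2, 7, 8, 5, 7, 2, 7, 8, 5, 7, 2, 7, 5, 2] := xw_eq (by decide +kernel)

theorem u5 : xw (_root_.Cfsg.Agent.Co2Type.Co2Rels.rep [1, 2, 4, 5] 5) = 1 := xw_eq_one (by decide +kernel)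

theorem hu : xw [8, 1, 2, 4, 5] = xw [1, 2, 4, 5, 8] := xw_eq (by decide +kernel)

theorem gen : _root_.Subgroup.closure ({x 7, x 8 * xw [1, 2, 4, 5]} : Set Cfsg.Spor.Co2) = ⊤ := by
  set H := _root_.Subgroup.closure ({x 7, x 8 * xw [1, 2, 4, 5]} : Set Cfsg.Spor.Co2) with hH
  have hg : x 7 ∈ H := _root_.Subgroup.subset_closure (Set.mem_insert _ _)
  have hb : x 8 * xw [1, 2, 4, 5] ∈ H := _root_.Subgroup.subset_closure (Set.mem_insert_of_mem _ rfl)
  have hc : x 8 * xw [1, 2, 4, 5] = xw [1, 2, 4, 5] * x 8 := by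
    have := hu
    rwa [show ([8, 1, 2, 4, 5] : List ℕ) = [8] ++ [1, 2, 4, 5] from rfl,
      show ([1, 2, 4, 5, 8] : List ℕ) = [1, 2, 4, 5] ++ [8] from rfl, xw_append, xw_append, xw_one] at this
  have h8 : x 8 ^ 2 = 1 := by
    rw [pow_two]
    exact pg.hh
  have hu5 : xw [1, 2, 4, 5] ^ 5 = 1 := by rw [← xw_rep, u5]
  obtain ⟨hh, huH⟩ := Cfsg.Agent.H136.Gen2.split_mem (m := 2) (n := 5) hc h8 hu5 (by decide) hb
  have hK : K ≤ H := by
    rw [K, closure_le]
    rintro _ (rfl | rfl)
    · rw [show val x [7] = x 7 from xw_one 7]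
      exact hg
    · exact huH
  have h1 := hK c_mem
  have h2 := hK d_mem
  have h4 := hK e_mem
  have h5 := hK f_mem
  have h6 := hK i_mem
  have hword : ∀ w : List ℕ, (∀ k ∈ w, x k ∈ H) → xw w ∈ H := by
    intro w hw
    refine list_prod_mem ?_
    intro z hz
    obtain ⟨k, hk, rfl⟩ := List.mem_map.1 hz
    exact hw k hk
  have h0 : x 0 ∈ H := by
    rw [← xw_one 0, a_eq]
    apply hword
    intro k hk
    simp only [List.mem_cons, List.not_mem_nil, or_false] at hk
    rcases hk with rfl | rfl | rfl | rfl | rfl | rfl | rfl | rfl | rfl | rfl | rfl | rfl | rfl | rfl | rfl | rfl |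
      rfl | rfl | rfl | rfl | rfl <;> assumption
  have h3 : x 3 ∈ H := by
    have e1 : x 3 = (x 7 * x 8 * x 6) ^ 3 * x 4 := by
      rw [pg.r5, mul_assoc, pg.ee, mul_one]
    rw [e1]
    exact mul_mem (pow_mem (mul_mem (mul_mem hg hh) h6) 3) h4
  rw [eq_top_iff, ← Cfsg.Agent.Co2Type.Co2Gen.gen, closure_le]
  intro z hz
  simp only [Set.mem_insert_iff, Set.mem_singleton_iff] at hz
  rcases hz with rfl | rfl | rfl | rfl | rfl | rfl | rfl | rfl | rfl <;> assumption

theorem invGen {G : Type*} [Group G] [Finite G] [IsSimpleGroup G] (h : Cfsg.Spor.IsoCo2 G) : InvGen G := by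
  obtain ⟨e⟩ := h
  refine InvGen.of_card_equiv e ?_ (c := x 7) (b := x 8 * xw [1, 2, 4, 5]) ?_ gen
  · rw [Cfsg.Agent.Co2Type.CardCo2.card_co2]
    norm_num
  · rw [pow_two]
    exact pg.gg

end Cfsg.Agent.H291.DG.Co2
end

-- part: H291/DG/CohConway
section
/-
`Coh` for the Conway groups.
-/
set_option autoImplicit false

namespace Cfsg.Agent.H291.DG

open Cfsg.Agent.H891.DG

universe u

variable {T : Type u} [Group T] [Finite T] [IsSimpleGroup T]

theorem coh_co1 (h : Cfsg.Spor.IsoCo1 T) : Coh T := (Co1.invGen h).coh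
theorem coh_co2 (h : Cfsg.Spor.IsoCo2 T) : Coh T := (Co2.invGen h).coh
theorem coh_co3 (h : Cfsg.Spor.IsoCo3 T) : Coh T := (Co3.invGen h).coh

end Cfsg.Agent.H291.DG
end

private theorem dce_4ac4bc92cc8e : _root_.True := by
  try have : _root_.True := by simp only [_root_.Cfsg.Agent.H291.DG.Co2.K.eq_1]
  exact _root_.True.intro
end

-- part: H891/DG/RowsCoh
section
set_option linter.all false
open scoped Cfsg.Agent.FastGrp

-- part: H440/DG/Coh
section
/-!
# S4180: `Coh` for the groups of Held, Rudvalis and O'Nan (helper440)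

Each of them is generated by an involution and another element (`coh_of_equiv` is the general form).
-/

set_option autoImplicit false
set_option maxRecDepth 100000

namespace Cfsg.Agent.H440.DG.Coh

open Subgroup Cfsg.Agent.H891.DG Cfsg.Agent.H891.DG.Tools Cfsg.Agent.H440.DG.Basic

universe u v

theorem not_comm {T : Type u} [Group T] [Finite T] [IsSimpleGroup T] (h2 : 2 ∣ Nat.card T) (h3 : Nat.card T ≠ 2) :
    ¬ IsMulCommutative T := by
  intro h
  letI : CommGroup T := { (inferInstance : Group T) with mul_comm := h.is_comm.comm }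
  have hp : (Nat.card T).Prime := IsSimpleGroup.prime_card
  exact h3 ((Nat.prime_dvd_prime_iff_eq Nat.prime_two hp).1 h2).symm

theorem ne_one_of_gen {T : Type u} [Group T] (hna : ¬ IsMulCommutative T) {c b : T}
    (h : closure ({c, b} : Set T) = ⊤) : c ≠ 1 := by
  rintro rfl
  apply hna
  have h1 : ∀ x : T, x ∈ zpowers b := by
    intro x
    have h2 : closure ({1, b} : Set T) ≤ zpowers b := by
      rw [closure_le]
      rintro x (rfl | rfl)
      · exact one_mem _
      · exact mem_zpowers _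
    exact h2 (h ▸ mem_top x)
  refine ⟨⟨fun x y => ?_⟩⟩
  obtain ⟨m, rfl⟩ := mem_zpowers_iff.1 (h1 x)
  obtain ⟨n, rfl⟩ := mem_zpowers_iff.1 (h1 y)
  rw [← zpow_add, add_comm, zpow_add]

/-- **`Coh` from a generating pair with an involution**, along an isomorphism (any universes). -/
theorem coh_of_equiv {T : Type u} [Group T] [Finite T] [IsSimpleGroup T] {H : Type v} [Group H] (e : T ≃* H)
    (h2 : 2 ∣ Nat.card H) (h3 : Nat.card H ≠ 2) {c b : H} (hc : c ^ 2 = 1)
    (h : closure ({c, b} : Set H) = ⊤) : Coh T := by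
  rw [← Nat.card_congr e.toEquiv] at h2 h3
  have hna := not_comm h2 h3
  have hg := gen_equiv e h
  refine coh_of_involution hna (c := e.symm c) (b := e.symm b) ?_ (ne_one_of_gen hna hg) hg
  rw [← map_pow, hc, map_one]

/-- **`Coh` for the Held group.** -/
theorem coh_he {T : Type u} [Group T] [Finite T] [IsSimpleGroup T] (h : Cfsg.Spor.IsoHe T) : Coh T := by
  obtain ⟨e⟩ := h
  have hc : Nat.card Cfsg.Spor.He = 4030387200 := Cfsg.Agent.S1695.result.2
  obtain ⟨c, b, hc2, -, hcb⟩ := Cfsg.Agent.H440.DG.He.exists_invol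
  exact coh_of_equiv e (by rw [hc]; norm_num) (by rw [hc]; norm_num) hc2 hcb

/-- **`Coh` for the O'Nan group.** -/
theorem coh_on {T : Type u} [Group T] [Finite T] [IsSimpleGroup T] (h : Cfsg.Spor.IsoON T) : Coh T := by
  obtain ⟨e⟩ := h
  have hc : Nat.card Cfsg.Spor.ON = 460815505920 := Cfsg.Agent.S1699.result.2
  obtain ⟨c, b, hc2, -, hcb⟩ := Cfsg.Agent.H440.DG.ONan.exists_invol
  exact coh_of_equiv e (by rw [hc]; norm_num) (by rw [hc]; norm_num) hc2 hcb

/-- **`Coh` for the Rudvalis group.** -/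
theorem coh_ru {T : Type u} [Group T] [Finite T] [IsSimpleGroup T] (h : Cfsg.Spor.IsoRu T) : Coh T := by
  obtain ⟨e⟩ := h
  have hc : Nat.card Cfsg.Agent.SporadicB.RuOrder.H = 145926144000 := by
    rw [← Nat.card_congr Cfsg.Agent.RuLat.Main.equiv.toEquiv]
    exact Cfsg.Agent.RuLat.Main.main.2.1
  have h1 := Cfsg.Agent.H440.TwoGen.Rud.closure_eq
  rw [Set.pair_comm] at h1
  refine coh_of_equiv (e.trans Cfsg.Agent.RuLat.Main.equiv) (by rw [hc]; norm_num) (by rw [hc]; norm_num) ?_ h1
  have h2 := Cfsg.Agent.RuD.Letters.rel_of_chk Cfsg.Agent.H440.TwoGen.Rud.chk_all [0, 0] (by simp)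
  rw [pow_two, Cfsg.Agent.H440.TwoGen.Rud.q, ← Cfsg.Agent.SporRec.TCUpperCert.wprod_append]
  exact h2

end Cfsg.Agent.H440.DG.Coh
end

-- part: H184/DG/CohFi
section
/-!
# S4180: `Coh` for `Fi22`, `Fi23`, `Fi24'` (helper184, task 3340)
-/

set_option autoImplicit false

namespace Cfsg.Agent.H184.DG.CohFi

open Cfsg Cfsg.Spor Subgroup Cfsg.Agent.H891.DG Cfsg.Agent.H440.TwoGen

universe u

/-- from a generating pair `c, b` with `c ^ 2 = 1` -/
theorem coh_of_pair {T : Type u} [Group T] [Finite T] [IsSimpleGroup T] (hcyc : ¬ IsCyclic T)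
    (h : ∃ c b : T, c ^ 2 = 1 ∧ closure ({c, b} : Set T) = ⊤) : Coh T := by
  obtain ⟨c, b, hc, hcb⟩ := h
  have hna : ¬ IsMulCommutative T := by
    intro hm
    apply hcyc
    let _ : CommGroup T := { (inferInstance : Group T) with mul_comm := hm.is_comm.comm }
    have h1 : (Nat.card T).Prime := IsSimpleGroup.prime_card (α := T)
    have : Fact (Nat.card T).Prime := ⟨h1⟩
    exact isCyclic_of_prime_card (p := Nat.card T) rfl
  refine Tools.coh_of_involution hna hc ?_ hcb
  rintro rfl
  apply hcyc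
  refine ⟨b, fun x => ?_⟩
  have h1 : closure ({1, b} : Set T) ≤ zpowers b := by
    rw [closure_le]
    rintro z (rfl | hz)
    · exact one_mem _
    · rw [Set.mem_singleton_iff] at hz
      rw [hz]
      exact mem_zpowers b
  rw [hcb] at h1
  exact h1 (mem_top x)

theorem pair_of_equiv {T : Type*} {K : Type*} [Group T] [Group K] (e : T ≃* K)
    (h : ∃ c b : K, c ^ 2 = 1 ∧ closure ({c, b} : Set K) = ⊤) : ∃ c b : T, c ^ 2 = 1 ∧ closure ({c, b} : Set T) = ⊤ := by
  obtain ⟨c, b, hc, hcb⟩ := h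
  refine ⟨e.symm c, e.symm b, by rw [← map_pow, hc, map_one], ?_⟩
  have h1 : ({e.symm c, e.symm b} : Set T) = e.symm.toMonoidHom '' {c, b} := by
    rw [Set.image_pair]
    rfl
  rw [h1, ← MonoidHom.map_closure, hcb, Subgroup.map_top_of_surjective _ e.symm.surjective]

theorem not_cyclic {T : Type*} {K : Type*} [Group T] [IsSimpleGroup T] [Finite T] [Group K] (e : T ≃* K) {p q : ℕ}
    (hp : p.Prime) (hq : q.Prime) (hpq : p ≠ q) (h1 : p ∣ Nat.card K) (h2 : q ∣ Nat.card K) : ¬ IsCyclic T := by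
  intro h
  let _ : CommGroup T := IsCyclic.commGroup
  have h3 : (Nat.card T).Prime := IsSimpleGroup.prime_card (α := T)
  rw [Nat.card_congr e.toEquiv] at h3
  have h4 := (Nat.prime_dvd_prime_iff_eq hp h3).1 h1
  have h5 := (Nat.prime_dvd_prime_iff_eq hq h3).1 h2
  exact hpq (h4.trans h5.symm)

/-- **`Fi22`** -/
theorem coh_fi22 {T : Type u} [Group T] [Finite T] [IsSimpleGroup T] (h : Cfsg.Spor.IsoFi22 T) : Coh T := by
  obtain ⟨e⟩ := h
  refine coh_of_pair (not_cyclic e Nat.prime_two Nat.prime_three (by norm_num) ?_ ?_) (pair_of_equiv e FiGen.fi22)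
  · rw [Cfsg.Agent.S1696.result.2]; norm_num
  · rw [Cfsg.Agent.S1696.result.2]; norm_num

/-- **`Fi23`** -/
theorem coh_fi23 {T : Type u} [Group T] [Finite T] [IsSimpleGroup T] (h : Cfsg.Spor.IsoFi23 T) : Coh T := by
  obtain ⟨e⟩ := h
  refine coh_of_pair (not_cyclic e Nat.prime_two Nat.prime_three (by norm_num) ?_ ?_) (pair_of_equiv e FiGen.fi23)
  · rw [Cfsg.Agent.S1697.result.2]; norm_num
  · rw [Cfsg.Agent.S1697.result.2]; norm_num

/-- **`Fi24'`** -/
theorem coh_fi24' {T : Type u} [Group T] [Finite T] [IsSimpleGroup T] (h : Cfsg.Spor.IsoFi24' T) : Coh T := by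
  obtain ⟨e⟩ := h
  have h1 : ∃ c b : Spor.Fi24', c ^ 2 = 1 ∧ closure ({c, b} : Set Spor.Fi24') = ⊤ := by
    obtain ⟨X, Y, hX, hY, hX2, hXY⟩ := FiGen.fi24'
    refine ⟨⟨X, hX⟩, ⟨Y, hY⟩, Subtype.ext hX2, ?_⟩
    rw [eq_top_iff]
    rintro ⟨z, hz⟩ -
    have h2 := hXY hz
    have h3 : (closure ({⟨X, hX⟩, ⟨Y, hY⟩} : Set Spor.Fi24')).map (commutator Fi24).subtype = closure {X, Y} := by
      rw [MonoidHom.map_closure, Set.image_pair]
      rfl
    rw [← h3] at h2
    obtain ⟨w, hw, hwz⟩ := h2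
    have h4 : w = ⟨z, hz⟩ := Subtype.ext hwz
    rw [← h4]
    exact hw
  refine coh_of_pair (not_cyclic e Nat.prime_two Nat.prime_three (by norm_num) ?_ ?_) (pair_of_equiv e h1)
  · rw [Cfsg.Agent.S1698.result.2]; norm_num
  · rw [Cfsg.Agent.S1698.result.2]; norm_num

end Cfsg.Agent.H184.DG.CohFi
end

-- part: H855/DG/Rk2
section
/-!
# S4180, task K1b (helper855): the exceptional groups of Lie type of rank at least 2 have root group data

`rk2_equiv`, `rk2_group`, `rk2_fold`; `rk2_G2`, `rk2_F4`, `rk2_E6`, `rk2_E7`, `rk2_E8`, `rk2_tE6`, `rk2_tD4` (over a given field of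
characteristic `r`); `rk2_g2`, `rk2_f4`, `rk2_e6`, `rk2_e7`, `rk2_e8`, `rk2_twE6`, `rk2_twD4` (existence of `r`).
-/

set_option autoImplicit false
set_option linter.unusedSectionVars false

namespace Cfsg.Agent.H855.DG

open CoxeterSystem Cfsg.Agent.ChevalleyStructure.CoxeterGeom Cfsg.Agent.Tits.Roots Cfsg.Agent.Tits.Core
  Cfsg.Agent.Nodes.BNOf Cfsg.Agent.Nodes.RGDTwGen Cfsg.Agent.Nodes.RGDChev Cfsg.Agent.Nodes.RGDFold
open Cfsg.Lie Cfsg.Agent.ChevalleyStructure Cfsg.Agent.ChevalleyStructure.Elts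
  Cfsg.Agent.ChevalleyStructure.RootVec Cfsg.Agent.ChevalleyStructure.RootVecTab
  Cfsg.Agent.ChevalleyStructure.NPerm Cfsg.Agent.ChevalleyStructure.CoxeterGeomTypes
open Cfsg.Agent.Nodes Cfsg.Agent.H891.DG

universe u v w

/-- `Rk2` is invariant under isomorphisms (between universes). -/
theorem rk2_equiv {r : ℕ} {G : Type u} {H : Type v} [Group G] [Group H] (e : G ≃* H) (hG : Rk2 r G) : Rk2 r H := by
  obtain ⟨l, M, A, h, T, n, X, h2, hW, R, hX⟩ := hG
  refine ⟨l, M, A, h, T.map e.toMonoidHom, fun i => e (n i), fun x => (X x).map e.toMonoidHom, h2, hW,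
    Nodes.RGDLib.rgd_map_of_injective R e.toMonoidHom e.injective, ?_⟩
  have h1 : (Nodes.RGDLib.G1 M.toCoxeterSystem h X).map e.toMonoidHom =
      Nodes.RGDLib.G1 M.toCoxeterSystem h (fun x => (X x).map e.toMonoidHom) := by
    unfold Nodes.RGDLib.G1 RGD.Sup
    rw [Subgroup.map_iSup]
  rw [← h1, hX, Subgroup.map_top_of_surjective _ e.surjective]

theorem rk2_group {D : ChevalleyDatum} {l : ℕ} {M : CoxeterMatrix (Fin l)} (hp : IsType D l M) (hl : 2 ≤ l) (K : Type w)
    [Field K] [Finite K] (r : ℕ) [CharP K r] {T : Type u} [Group T] (e : T ≃* ↥(D.group K)) : Rk2 r T := by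
  have : Fact r.Prime := ⟨CharP.char_is_prime K r⟩
  refine rk2_equiv e.symm ?_
  exact ⟨l, M, cartanOf D l, hp.isCartan, _, _, _, hl, finite_W hp M.toCoxeterSystem,
    RGDChev.rgd (K := K) hp M.toCoxeterSystem r, G1_eq_top hp _⟩

section

variable (K : Type w) [Field K] [Finite K] (r : ℕ) [CharP K r] {T : Type u} [Group T]

theorem rk2_G2 (e : T ≃* ↥(chevG2.group K)) : Rk2 r T :=
  rk2_group (l := 2) (M := CoxeterMatrix.G₂) (by simp [IsType, typeList]) le_rfl K r e

theorem rk2_F4 (e : T ≃* ↥(chevF4.group K)) : Rk2 r T :=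
  rk2_group (l := 4) (M := CoxeterMatrix.F₄) (by simp [IsType, typeList]) (by norm_num) K r e

theorem rk2_E6 (e : T ≃* ↥(chevE6.group K)) : Rk2 r T :=
  rk2_group (l := 6) (M := CoxeterMatrix.E₆) (by simp [IsType, typeList]) (by norm_num) K r e

theorem rk2_E7 (e : T ≃* ↥(chevE7.group K)) : Rk2 r T :=
  rk2_group (l := 7) (M := CoxeterMatrix.E₇) (by simp [IsType, typeList]) (by norm_num) K r e

theorem rk2_E8 (e : T ≃* ↥(chevE8.group K)) : Rk2 r T :=
  rk2_group (l := 8) (M := CoxeterMatrix.E₈) (by simp [IsType, typeList]) (by norm_num) K r e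

end

section Fold

variable {D : ChevalleyDatum} {l : ℕ} {M' : CoxeterMatrix (Fin l)} {hp : IsType D l M'} {K : Type w} [Field K]
variable {m : ℕ} {M : CoxeterMatrix (Fin m)} {A : Fin m → Fin m → ℤ}
variable {J : Fin m → List (Fin l)} {L : List (List ℕ)} {σ : GL D.Idx K →* GL D.Idx K} {ρ ρ' : ℕ → ℕ}
    {f : ℕ → K → K} {G : Subgroup (GL D.Idx K)}

theorem rk2_fold [Finite K] (FD : FoldData D M A J L) (FG : FoldGrp hp K J L σ ρ ρ' f G) (hm : 2 ≤ m)
    (r : ℕ) [CharP K r] (h : IsCartan M A) {T : Type u} [Group T] (e : T ≃* ↥G) : Rk2 r T := by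
  have : Fact r.Prime := ⟨CharP.char_is_prime K r⟩
  refine rk2_equiv e.symm ?_
  exact ⟨m, M, A, h, _, _, _, hm, RGDFold.finite_W (hp := hp) M.toCoxeterSystem h FD,
    RGDFold.rgd M.toCoxeterSystem h FD FG r, RGDFold.G1_eq_top M.toCoxeterSystem h FD FG r⟩

end Fold

theorem rk2_tD4 {K : Type w} [Field K] [Fintype K] {q : ℕ} (hq : IsPrimePow q) (hK : Fintype.card K = q ^ 3)
    (r : ℕ) [CharP K r] {T : Type u} [Group T] (e : T ≃* ↥(twistedD4 K q)) : Rk2 r T := by
  obtain ⟨φ, hφ⟩ := D4Fixed.exists_frob hq hK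
  exact rk2_fold RGDTwD4.foldData (RGDTwD4.foldGrp hφ (D4Fixed.twisted_le_fix hK hφ)) le_rfl r RGDTwD4.isCartan e

theorem rk2_tE6 {K : Type w} [Field K] [Fintype K] {q : ℕ} (hq : IsPrimePow q) (hK : Fintype.card K = q ^ 2)
    (r : ℕ) [CharP K r] {T : Type u} [Group T] (e : T ≃* ↥(twistedE6 K q)) : Rk2 r T := by
  obtain ⟨φ, hφ, hqq⟩ := TwE6Basic.exists_frob hq hK
  exact rk2_fold RGDTwE6.foldData (RGDTwE6.foldGrp hφ hqq) (by norm_num) r RGDTwE6.isCartan e

/-! ### the rows -/

variable {T : Type u} [Group T]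

end Cfsg.Agent.H855.DG
end

-- part: H291/DG/Mathieu
section
/-
The Mathieu groups are generated by an involution and another element.
-/
set_option autoImplicit false

namespace Cfsg.Agent.H291.DG.Mathieu

open Subgroup Cfsg

theorem m11 : InvGen ↥Spor.M11 :=
  InvGen.of_closure (sq_of_inv (by decide +kernel)) (ne_of_apply (some 1) (by decide +kernel))
    (pair_swap H994.TwoGen.M11.closure_eq)

theorem m12 : InvGen ↥Spor.M12 :=
  InvGen.of_closure (sq_of_inv (by decide +kernel)) (ne_of_apply (some 0) (by decide +kernel))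
    (pair_swap H994.TwoGen.M12.closure_eq)

theorem m22 : InvGen ↥Spor.M22 :=
  InvGen.of_closure (sq_of_inv (by decide +kernel)) (ne_of_apply (some 1) (by decide +kernel))
    (pair_swap H994.TwoGen.M22.closure_eq)

theorem m23 : InvGen ↥Spor.M23 :=
  InvGen.of_closure (sq_of_inv (by decide +kernel)) (ne_of_apply (some 4) (by decide +kernel))
    (pair_swap H994.TwoGen.M23.closure_eq)

theorem m24 : InvGen ↥M24 :=
  InvGen.of_closure (sq_of_inv (by decide +kernel)) (ne_of_apply (some 0) (by decide +kernel))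
    J4.M24Hom.closure_XY

end Cfsg.Agent.H291.DG.Mathieu
end

-- part: H291/DG/CohMathieu
section
/-
`Coh` for the Mathieu groups.
-/
set_option autoImplicit false

namespace Cfsg.Agent.H291.DG

open Cfsg.Agent.H891.DG

universe u

variable {T : Type u} [Group T] [Finite T] [IsSimpleGroup T]

theorem coh_m11 (h : Cfsg.Spor.IsoM11 T) : Coh T := (Mathieu.m11.congr h.some).coh
theorem coh_m12 (h : Cfsg.Spor.IsoM12 T) : Coh T := (Mathieu.m12.congr h.some).coh
theorem coh_m22 (h : Cfsg.Spor.IsoM22 T) : Coh T := (Mathieu.m22.congr h.some).coh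
theorem coh_m23 (h : Cfsg.Spor.IsoM23 T) : Coh T := (Mathieu.m23.congr h.some).coh
theorem coh_m24 (h : Cfsg.Spor.IsoM24 T) : Coh T := (Mathieu.m24.congr h.some).coh

end Cfsg.Agent.H291.DG
end

-- part: H891/DG/RowsCoh
section
/-! # S4180: the rows of `Coh` (TEAM GEN) -/

set_option autoImplicit false

namespace Cfsg.Agent.H891.DG.RC

open Cfsg.Agent.H891.DG

universe u

/-- `Coh` from the defining characteristic and a root group datum of rank at least 2. -/
theorem coh_of_rk2 {T : Type u} [Group T] [Finite T] [IsSimpleGroup T] {F : Type*} [Field F] [Finite F]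
    (h1 : ∀ r : ℕ, r.Prime → CharP F r → Rk2 r T)
    (h2 : ∀ p : ℕ, p.Prime → CharP F p → ¬ IsMulCommutative T → CohAt p T) : Coh T := by
  by_cases hna : IsMulCommutative T
  · exact Cfsg.Agent.H261.DG.BM.coh_of_comm hna
  obtain ⟨r, hr⟩ := CharP.exists F
  have hrp : r.Prime := (CharP.char_is_prime_or_zero F r).resolve_right (CharP.char_ne_zero_of_finite F r)
  have : Fact r.Prime := ⟨hrp⟩
  intro p hp
  by_cases hpr : p = r
  · subst hpr
    exact h2 p hp hr hna
  · exact Cfsg.Agent.H274.DG.cohAt_of_rk2 hp hpr hna (h1 r hrp hr)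

theorem psl (T : Type u) [Group T] [Finite T] [IsSimpleGroup T] (F : Type) [Field F] [Fintype F] (n : ℕ)
    (hn : 3 ≤ n) (e : Nonempty (T ≃* Matrix.ProjectiveSpecialLinearGroup (Fin n) F)) : Coh T :=
  coh_of_rk2 (F := F) (fun _ _ _ => Cfsg.Agent.H748.DG.rk2_psl hn e)
    (fun _ hp _ hna => Cfsg.Agent.H648.DG.cohAt_psl hna F n hn hp e)

theorem psp (T : Type u) [Group T] [Finite T] [IsSimpleGroup T] (F : Type) [Field F] [Fintype F] (m : ℕ)
    (hm : 2 ≤ m) (h3 : m = 2 → 3 ≤ Fintype.card F) (e : Nonempty (T ≃* Cfsg.PSp m F)) : Coh T :=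
  coh_of_rk2 (F := F) (fun _ _ _ => Cfsg.Agent.H748.DG.rk2_psp hm e)
    (fun _ hp _ _ => Cfsg.Agent.H795.DG.cohAt_psp hm h3 e hp)

theorem g2 (T : Type u) [Group T] [Finite T] [IsSimpleGroup T] (h : Cfsg.Lie.IsoChevG2 T) : Coh T := by
  obtain ⟨F, _, _, h3, ⟨e⟩⟩ := h
  exact coh_of_rk2 (F := F) (fun r _ _ => Cfsg.Agent.H855.DG.rk2_G2 F r e)
    (fun p _ _ hna => Cfsg.Agent.H288.DG.UntwRow.cohAt_g2 hna e h3 p)

theorem f4 (T : Type u) [Group T] [Finite T] [IsSimpleGroup T] (h : Cfsg.Lie.IsoF4 T) : Coh T := by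
  obtain ⟨F, _, _, ⟨e⟩⟩ := h
  exact coh_of_rk2 (F := F) (fun r _ _ => Cfsg.Agent.H855.DG.rk2_F4 F r e)
    (fun p _ _ hna => Cfsg.Agent.H288.DG.UntwRow.cohAt_f4 hna e p)

theorem e6 (T : Type u) [Group T] [Finite T] [IsSimpleGroup T] (h : Cfsg.Lie.IsoChevE6 T) : Coh T := by
  obtain ⟨F, _, _, ⟨e⟩⟩ := h
  exact coh_of_rk2 (F := F) (fun r _ _ => Cfsg.Agent.H855.DG.rk2_E6 F r e)
    (fun p _ _ hna => Cfsg.Agent.H288.DG.UntwRow.cohAt_e6 hna e p)

theorem e7 (T : Type u) [Group T] [Finite T] [IsSimpleGroup T] (h : Cfsg.Lie.IsoE7 T) : Coh T := by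
  obtain ⟨F, _, _, ⟨e⟩⟩ := h
  exact coh_of_rk2 (F := F) (fun r _ _ => Cfsg.Agent.H855.DG.rk2_E7 F r e)
    (fun p _ _ hna => Cfsg.Agent.H288.DG.UntwRow.cohAt_e7 hna e p)

theorem e8 (T : Type u) [Group T] [Finite T] [IsSimpleGroup T] (h : Cfsg.Lie.IsoE8 T) : Coh T := by
  obtain ⟨F, _, _, ⟨e⟩⟩ := h
  exact coh_of_rk2 (F := F) (fun r _ _ => Cfsg.Agent.H855.DG.rk2_E8 F r e)
    (fun p _ _ hna => Cfsg.Agent.H288.DG.UntwRow.cohAt_e8 hna e p)

theorem twE6 (T : Type u) [Group T] [Finite T] [IsSimpleGroup T] (h : Cfsg.Lie.Iso2E6 T) : Coh T := by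
  obtain ⟨K, _, _, q, hq, hK, ⟨e⟩⟩ := h
  exact coh_of_rk2 (F := K) (fun r _ _ => Cfsg.Agent.H855.DG.rk2_tE6 hq hK r e)
    (fun p _ _ _ => Cfsg.Agent.H288.DG.TwRow.cohAt_twE6 e hK p)

theorem twD4 (T : Type u) [Group T] [Finite T] [IsSimpleGroup T] (h : Cfsg.Lie.Iso3D4 T) : Coh T := by
  obtain ⟨K, _, _, q, hq, hK, ⟨e⟩⟩ := h
  exact coh_of_rk2 (F := K) (fun r _ _ => Cfsg.Agent.H855.DG.rk2_tD4 hq hK r e)
    (fun p _ _ _ => Cfsg.Agent.H288.DG.TwRow.cohAt_twD4 e hK p)

theorem odd (T : Type u) [Group T] [Finite T] [IsSimpleGroup T] (h : Cfsg.IsPOmegaOdd T) : Coh T := by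
  obtain ⟨F, _, _, m, hm, ho, ⟨e⟩⟩ := h
  exact coh_of_rk2 (F := F) (fun r _ _ => Cfsg.Agent.H748.DG.rk2_odd (by omega) ho ⟨e⟩)
    (fun p hp _ _ => Cfsg.Agent.H79.DG.cohAt_POmegaOdd hp ho hm e)

theorem plus (T : Type u) [Group T] [Finite T] [IsSimpleGroup T] (h : Cfsg.IsPOmegaPlus T) : Coh T := by
  obtain ⟨F, _, _, m, hm, ⟨e⟩⟩ := h
  exact coh_of_rk2 (F := F) (fun r _ _ => Cfsg.Agent.H748.DG.rk2_plus (by omega) ⟨e⟩)
    (fun p hp _ _ => Cfsg.Agent.H79.DG.cohAt_POmegaPlus hp hm e)

theorem minus (T : Type u) [Group T] [Finite T] [IsSimpleGroup T] (h : Cfsg.IsPOmegaMinus T) : Coh T := by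
  obtain ⟨F, _, _, m, a, b, hm, hab, ⟨e⟩⟩ := h
  exact coh_of_rk2 (F := F) (fun r _ _ => Cfsg.Agent.H748.DG.rk2_minus (by omega) hab ⟨e⟩)
    (fun p hp _ _ => Cfsg.Agent.H79.DG.cohAt_POmegaMinus hp hm hab e)

theorem spor (T : Type u) [Group T] [Finite T] [IsSimpleGroup T] (h : Cfsg.IsSporadicGroup T) : Coh T := by
  rcases h with h | h | h | h | h | h | h | h | h | h | h | h | h | h | h | h | h | h | h | h | h | h | h | h | h | h
  · exact Cfsg.Agent.H291.DG.coh_m11 h
  · exact Cfsg.Agent.H291.DG.coh_m12 h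
  · exact Cfsg.Agent.H291.DG.coh_m22 h
  · exact Cfsg.Agent.H291.DG.coh_m23 h
  · exact Cfsg.Agent.H291.DG.coh_m24 h
  · exact Cfsg.Agent.H569.DG.coh_j1 h
  · exact Cfsg.Agent.H569.DG.coh_j2 h
  · exact Cfsg.Agent.H569.DG.coh_j3 h
  · exact Cfsg.Agent.H68.DG.CohJ4Ly.coh_j4 h
  · exact Cfsg.Agent.H291.DG.coh_co1 h
  · exact Cfsg.Agent.H291.DG.coh_co2 h
  · exact Cfsg.Agent.H291.DG.coh_co3 h
  · exact Cfsg.Agent.H291.DG.coh_mcl h
  · exact Cfsg.Agent.H291.DG.coh_hs h
  · exact Cfsg.Agent.H291.DG.coh_suz h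
  · exact Cfsg.Agent.H440.DG.Coh.coh_he h
  · exact Cfsg.Agent.H440.DG.Coh.coh_ru h
  · exact Cfsg.Agent.H440.DG.Coh.coh_on h
  · exact Cfsg.Agent.H68.DG.CohJ4Ly.coh_ly h
  · exact Cfsg.Agent.H184.DG.CohFi.coh_fi22 h
  · exact Cfsg.Agent.H184.DG.CohFi.coh_fi23 h
  · exact Cfsg.Agent.H184.DG.CohFi.coh_fi24' h
  · exact Cfsg.Agent.H109.DG.coh_hn h
  · exact Cfsg.Agent.H109.DG.coh_th h
  · exact Cfsg.Agent.H261.DG.BM.coh_b h
  · exact Cfsg.Agent.H261.DG.BM.coh_m h

theorem psu (T : Type u) [Group T] [Finite T] [IsSimpleGroup T] (F : Type) [Field F] [Fintype F] (n q : ℕ)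
    (hn : 4 ≤ n) (hF : Fintype.card F = q ^ 2) (e : Nonempty (T ≃* Cfsg.PSU n F q)) : Coh T :=
  coh_of_rk2 (F := F) (fun _ _ _ => Cfsg.Agent.H748.DG.rk2_psu hF hn e)
    (fun _ hp _ _ => Cfsg.Agent.H911.DG.cohAt_psu hn hF hp e.some)

theorem rowsCoh : Rows.{u} Coh where
  alt := Cfsg.Agent.H581.DG.coh_alt
  psl2 := fun _ _ _ _ F _ _ h4 e => Cfsg.Agent.H648.DG.coh_psl2 F h4 e
  psl := psl
  psp := psp
  psu3 := Cfsg.Agent.H902.DG.CohU3.coh_psu3
  psu := psu
  odd := odd
  plus := plus
  minus := minus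
  g2 := g2
  f4 := f4
  e6 := e6
  e7 := e7
  e8 := e8
  twE6 := twE6
  twD4 := twD4
  sz := Cfsg.Agent.H753.CohRows.coh_sz
  ree := Cfsg.Agent.H753.CohRows.coh_ree
  twF4 := Cfsg.Agent.H528.DG.coh_twF4
  tits := fun _ _ _ _ h => Cfsg.Agent.H555.DG.TitsCoh.coh_tits h
  spor := spor

end Cfsg.Agent.H891.DG.RC
end

private theorem dce_0f37dc2c933d : _root_.True := by
  try have : _root_.True := by simp only [_root_.Cfsg.Agent.H440.TwoGen.Rud.q.eq_1]
  exact _root_.True.intro
end
end
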